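/-
Coprime actions of a group of order two or four on a group of odd order, and the normal 2-complement
for a central Sylow 2-subgroup.
-/
import Cfsg.Agent.EqLemmas
import Cfsg.Agent.Lib.CoprimeFixProduct.Main
import Cfsg.Agent.Lib.Char.Basic

set_option autoImplicit false

namespace Cfsg.Agent.DegThreeP

universe u

/-- The fixed points of an automorphism. -/
def fixAut {V : Type u} [Group V] (α : MulAut V) : Subgroup V where
  carrier := {x | α x = x}
  one_mem' := map_one α
  mul_mem' := by intro x y hx hy; show α (x * y) = x * y; rw [map_mul]; rw [hx, hy]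
  inv_mem' := by intro x hx; show α x⁻¹ = x⁻¹; rw [map_inv]; rw [hx]

theorem mem_fixAut {V : Type u} [Group V] {α : MulAut V} {x : V} : x ∈ fixAut α ↔ α x = x := Iff.rfl

/-- The order formula of Brauer and Wielandt for a four group. -/
theorem wielandt_four {V : Type u} [Group V] [Finite V] (hV : Odd (Nat.card V)) (α β : MulAut V)
    (hα : α * α = 1) (hβ : β * β = 1) (hαβ : Commute α β) :
    Nat.card V * Nat.card ↥(fixAut α ⊓ fixAut β) ^ 2 =
      Nat.card (fixAut α) * Nat.card (fixAut β) * Nat.card (fixAut (α * β)) := by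
  classical
  have := Fact.mk Nat.prime_two
  let φ : CoprimeFixProduct.EE 2 →* MulAut V :=
    { toFun := fun x => α ^ (Multiplicative.toAdd x).1.val * β ^ (Multiplicative.toAdd x).2.val
      map_one' := by simp
      map_mul' := by
        intro x y
        obtain ⟨⟨i, j⟩, rfl⟩ := Multiplicative.ofAdd.surjective x
        obtain ⟨⟨i', j'⟩, rfl⟩ := Multiplicative.ofAdd.surjective y
        have hpow : ∀ (δ : MulAut V), δ * δ = 1 → ∀ i i' : ZMod 2, δ ^ (i + i').val = δ ^ i.val * δ ^ i'.val := by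
          intro δ hδ i i'
          rw [← pow_add, pow_eq_pow_mod (i.val + i'.val) (show δ ^ 2 = 1 by rw [pow_two, hδ]), ZMod.val_add]
        simp only [toAdd_mul, toAdd_ofAdd, Prod.mk_add_mk]
        rw [hpow α hα, hpow β hβ, (Commute.pow_pow hαβ _ _).mul_mul_mul_comm] }
  have h := CoprimeFixProduct.rank_two (p := 2) (V := V)
    (Nat.two_dvd_ne_zero.2 (Nat.odd_iff.1 hV)) φ
  have hline : ∀ w : ZMod 2 × ZMod 2, ∀ x : V,
      x ∈ FixedFormula.fixBy φ (CoprimeFixProduct.line w) ↔ φ (Multiplicative.ofAdd w) x = x := by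
    intro w x
    refine ⟨fun hx => hx _ (Subgroup.mem_zpowers _), fun hx k hk => ?_⟩
    obtain ⟨n, rfl⟩ := Subgroup.mem_zpowers_iff.1 hk
    rw [map_zpow]
    exact (MulAction.mem_stabilizer_iff (G := MulAut V)).1
      (zpow_mem ((MulAction.mem_stabilizer_iff (G := MulAut V)).2 hx) n)
  have hv1 : (1 : ZMod 2).val = 1 := rfl
  have e0 : FixedFormula.fixBy φ (CoprimeFixProduct.line ((1 : ZMod 2), (0 : ZMod 2))) = fixAut α := by
    ext x; rw [hline, mem_fixAut]; simp [φ, hv1]
  have e1 : FixedFormula.fixBy φ (CoprimeFixProduct.line ((1 : ZMod 2), (1 : ZMod 2))) = fixAut (α * β) := by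
    ext x; rw [hline, mem_fixAut]; simp [φ, hv1]
  have e2 : FixedFormula.fixBy φ (CoprimeFixProduct.line ((0 : ZMod 2), (1 : ZMod 2))) = fixAut β := by
    ext x; rw [hline, mem_fixAut]; simp [φ, hv1]
  have e3 : FixedFormula.fixBy φ (⊤ : Subgroup (CoprimeFixProduct.EE 2)) = fixAut α ⊓ fixAut β := by
    ext x
    constructor
    · intro hx
      exact ⟨by simpa [φ, hv1, mem_fixAut] using hx (Multiplicative.ofAdd ((1 : ZMod 2), (0 : ZMod 2))) trivial,
        by simpa [φ, hv1, mem_fixAut] using hx (Multiplicative.ofAdd ((0 : ZMod 2), (1 : ZMod 2))) trivial⟩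
    · rintro ⟨h1, h2⟩ k -
      have hs : ∀ (δ : MulAut V) (n : ℕ), δ x = x → (δ ^ n) x = x := fun δ n hδ =>
        (MulAction.mem_stabilizer_iff (G := MulAut V)).1
          (pow_mem ((MulAction.mem_stabilizer_iff (G := MulAut V)).2 hδ) n)
      show (α ^ _ * β ^ _) x = x
      rw [MulAut.mul_apply, hs β _ h2, hs α _ h1]
  rw [show (Finset.univ : Finset (ZMod 2)) = {0, 1} from rfl, Finset.prod_pair (zero_ne_one (α := ZMod 2)), e0, e1, e2, e3] at h
  rw [← h]
  ring

/-- An involutory automorphism of a group of odd order. -/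
theorem card_fix_mul_inverted {V : Type u} [Group V] [Finite V] (hV : Odd (Nat.card V)) (α : MulAut V)
    (hα : α * α = 1) :
    Nat.card (fixAut α) * Nat.card {x : V // α x = x⁻¹} = Nat.card V := by
  have hαα : ∀ x, α (α x) = x := fun x => congrArg (fun e : MulAut V => e x) hα
  let f : V ⧸ fixAut α → {x : V // α x = x⁻¹} := Quotient.lift
    (fun x => (⟨x * α x⁻¹, by rw [map_mul, hαα, mul_inv_rev, map_inv, inv_inv]⟩ : {x : V // α x = x⁻¹}))
    (fun x y hxy => by
      have h : α (x⁻¹ * y) = x⁻¹ * y := (QuotientGroup.leftRel_apply.1 hxy)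
      apply Subtype.ext
      show x * α x⁻¹ = y * α y⁻¹
      rw [map_mul] at h
      have h' : α y = α x * (x⁻¹ * y) := by rw [← h, map_inv, mul_inv_cancel_left]
      rw [map_inv, map_inv, h']
      group)
  have hf : Function.Bijective f := by
    constructor
    · intro q r hqr
      induction q using Quotient.inductionOn with | h x => ?_
      induction r using Quotient.inductionOn with | h y => ?_
      refine Quotient.sound (QuotientGroup.leftRel_apply.2 ?_)
      have h : x * α x⁻¹ = y * α y⁻¹ := congrArg Subtype.val hqr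
      show α (x⁻¹ * y) = x⁻¹ * y
      rw [map_mul, eq_inv_mul_iff_mul_eq.2 (show x * (α x⁻¹ * α y) = y by
        rw [← mul_assoc, h, map_inv α y]; group)]
    · rintro ⟨y, hy⟩
      obtain ⟨k, hk⟩ : ∃ k, orderOf y = 2 * k + 1 := hV.of_dvd_nat (orderOf_dvd_natCard y)
      refine ⟨QuotientGroup.mk (y ^ (k + 1)), Subtype.ext ?_⟩
      show y ^ (k + 1) * α (y ^ (k + 1))⁻¹ = y
      rw [map_inv, map_pow, hy, inv_pow, inv_inv, ← pow_add,
        show k + 1 + (k + 1) = 2 * k + 1 + 1 by ring, ← hk, pow_succ, pow_orderOf_eq_one, one_mul]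
  rw [← Nat.card_congr (Equiv.ofBijective f hf), ← Subgroup.index_eq_card, Subgroup.card_mul_index]

/-- A central Sylow 2-subgroup of its normalizer has a normal complement of the odd elements. -/
theorem exists_odd_subgroup_of_central {H : Type*} [Group H] [Finite H] (P : Sylow 2 H)
    (hc : Subgroup.normalizer ((P : Subgroup H) : Set H) ≤ Subgroup.centralizer ((P : Subgroup H) : Set H)) :
    ∃ K : Subgroup H, K.Normal ∧ (∀ x, x ∈ K ↔ Odd (orderOf x)) ∧
      Nat.card K * Nat.card (P : Subgroup H) = Nat.card H := by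
  have := Fact.mk Nat.prime_two
  have hcomp := MonoidHom.ker_transferSylow_isComplement' P hc
  have hndvd := MonoidHom.not_dvd_card_ker_transferSylow P hc
  set K := (MonoidHom.transferSylow P hc).ker
  refine ⟨K, inferInstance, fun x => ⟨fun hx => ?_, fun hx => ?_⟩, hcomp.card_mul_card⟩
  · rw [← Nat.not_even_iff_odd, even_iff_two_dvd]
    intro h
    refine hndvd (h.trans ?_)
    rw [show orderOf x = orderOf (⟨x, hx⟩ : K) from (Subgroup.orderOf_mk _ _).symm]
    exact orderOf_dvd_natCard _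
  · rw [MonoidHom.mem_ker, ← orderOf_eq_one_iff]
    refine Nat.eq_one_of_dvd_coprimes ?_ (orderOf_map_dvd _ x) (orderOf_dvd_natCard _)
    obtain ⟨m, hm⟩ := P.2.exists_card_eq
    rw [hm]
    exact (Nat.Coprime.pow_left m (Nat.coprime_two_left.2 hx)).symm

/-- A coset of a normalized subgroup of coprime order is covered by the conjugates of `h C_K(h)`. -/
theorem sum_coset {G : Type*} [Group G] [Finite G] (K : Subgroup G) [Fintype K] {h : G}
    (hn : ∀ y ∈ K, h * y * h⁻¹ ∈ K) (hcop : (orderOf h).Coprime (Nat.card K))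
    (Kh : Subgroup G) [Fintype Kh] (hKh : ∀ y, y ∈ Kh ↔ y ∈ K ∧ Commute h y)
    {f : G → ℂ} (hf : Cfsg.IsClassFunction G f) :
    (Nat.card Kh : ℂ) * ∑ y : K, f (h * y) = (Nat.card K : ℂ) * ∑ y : Kh, f (h * y) := by
  classical
  have hle : ∀ y : Kh, (y : G) ∈ K := fun y => ((hKh _).1 y.2).1
  let L : Subgroup K := Kh.subgroupOf K
  have : Fintype (K ⧸ L) := Fintype.ofFinite _
  have hn' : ∀ y ∈ K, h⁻¹ * y * h ∈ K := by
    intro y hy
    obtain ⟨⟨z, hz⟩, hzy⟩ := (Finite.injective_iff_surjective (f := fun z : K => (⟨h * z * h⁻¹, hn z z.2⟩ : K))).1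
      (fun a b e => Subtype.ext (mul_left_cancel (mul_right_cancel (congrArg Subtype.val e)))) ⟨y, hy⟩
    have e : h * z * h⁻¹ = y := congrArg Subtype.val hzy
    rw [← e]
    simpa [mul_assoc] using hz
  let φ : (K ⧸ L) × Kh → K := fun q =>
    ⟨h⁻¹ * ((q.1.out : G) * (h * q.2) * (q.1.out : G)⁻¹), by
      have e : h⁻¹ * ((q.1.out : G) * (h * q.2) * (q.1.out : G)⁻¹) =
          h⁻¹ * (q.1.out : G) * h * ((q.2 : G) * (q.1.out : G)⁻¹) := by group
      rw [e]
      exact K.mul_mem (hn' _ q.1.out.2) (K.mul_mem (hle q.2) (K.inv_mem q.1.out.2))⟩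
  have hinj : Function.Injective φ := by
    rintro ⟨A, y⟩ ⟨B, y'⟩ e
    have e1 : (A.out : G) * (h * y) * (A.out : G)⁻¹ = (B.out : G) * (h * y') * (B.out : G)⁻¹ :=
      mul_left_cancel (congrArg Subtype.val e)
    set j : G := (B.out : G)⁻¹ * A.out with hj
    have e2 : j * (h * y) * j⁻¹ = h * y' := by
      calc j * (h * y) * j⁻¹ = (B.out : G)⁻¹ * ((A.out : G) * (h * y) * (A.out : G)⁻¹) * B.out := by
            rw [hj]; group
        _ = _ := by rw [e1]; group
    have hp : ∀ z : Kh, (h * (z : G)) ^ Nat.card K = h ^ Nat.card K := fun z => by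
      have h1 : ((⟨z, hle z⟩ : K) ^ Nat.card K : K) = 1 := pow_card_eq_one'
      have h2 : (z : G) ^ Nat.card K = 1 := congrArg Subtype.val h1
      rw [((hKh _).1 z.2).2.mul_pow, h2, mul_one]
    have e3 : j * h ^ Nat.card K * j⁻¹ = h ^ Nat.card K := by
      have := congrArg (· ^ Nat.card K) e2
      simpa only [conj_pow, hp] using this
    have hjh : Commute h j := by
      have h1 : Commute (h ^ Nat.card K) j := (mul_inv_eq_iff_eq_mul.1 e3).symm
      obtain ⟨m, hm⟩ := exists_pow_eq_self_of_coprime hcop.symm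
      rw [← hm]
      exact h1.pow_left m
    have hjK : j ∈ Kh := (hKh _).2 ⟨K.mul_mem (K.inv_mem B.out.2) A.out.2, hjh⟩
    have hAB : B = A := by
      rw [← QuotientGroup.out_eq' A, ← QuotientGroup.out_eq' B, QuotientGroup.eq, Subgroup.mem_subgroupOf]
      exact hjK
    subst hAB
    refine Prod.ext rfl (Subtype.ext ?_)
    exact mul_left_cancel (mul_left_cancel (mul_right_cancel e1))
  have hcard : Nat.card (K ⧸ L) * Nat.card Kh = Nat.card K := by
    rw [← Subgroup.index_eq_card, ← Nat.card_congr (Subgroup.subgroupOfEquivOfLe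
      (fun y hy => ((hKh y).1 hy).1)).toEquiv, mul_comm, Subgroup.card_mul_index]
  have hbij : Function.Bijective φ :=
    (Nat.bijective_iff_injective_and_card φ).2 ⟨hinj, by rw [Nat.card_prod, hcard]⟩
  have hsum : ∑ y : K, f (h * y) = (Nat.card (K ⧸ L) : ℂ) * ∑ y : Kh, f (h * y) := by
    rw [← Fintype.sum_equiv (Equiv.ofBijective φ hbij) (fun q => f (h * q.2)) _ (fun q => ?_),
      Fintype.sum_prod_type]
    simp only [Finset.sum_const, Finset.card_univ, ← Nat.card_eq_fintype_card, nsmul_eq_mul]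
    simp only [Equiv.ofBijective_apply, φ, mul_inv_cancel_left]
    rw [hf]
  rw [hsum, ← hcard]
  push_cast
  ring

end Cfsg.Agent.DegThreeP
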