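/-
The characters of a transitive group of degree `3p` with a self-centralizing subgroup of order `p`
inverted by an involution.

Main result: `Cfsg.Agent.DegThreeP.exists_charData`.
-/
import Cfsg.Agent.EqLemmas
import Cfsg.Agent.Lib.DegTwoP.Chars

set_option autoImplicit false

namespace Cfsg.Agent.DegThreeP

open Cfsg Cfsg.Agent.Char Cfsg.Agent.DegTwoP
open scoped ComplexConjugate

variable {p : ℕ} [Fact p.Prime] {G : Type*} [Group G] [Fintype G] (D : Data p G)

/-- `θ_i` vanishes on `p`-regular elements. -/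
theorem theta_regular (i : ZMod p) {x : G} (hx : ¬ p ∣ orderOf x) : theta D i x = 0 := by
  classical
  by_cases h : ∃ g : G, g⁻¹ * x * g ∈ D.X
  · obtain ⟨g, hg⟩ := h
    have h1 : orderOf (g⁻¹ * x * g) = orderOf x := by
      have h := MulEquiv.orderOf_eq (MulAut.conj g⁻¹) x
      rwa [MulAut.conj_apply, inv_inv] at h
    have h2 : orderOf (⟨g⁻¹ * x * g, hg⟩ : D.X) ∣ p := (orderOf_dvd_natCard _).trans (card_X D).dvd
    rw [Subgroup.orderOf_mk, h1] at h2
    rcases (Nat.dvd_prime (Fact.out : p.Prime)).1 h2 with h | h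
    · rw [orderOf_eq_one_iff.1 h, ← e_zero D, theta_apply_e, mul_zero, neg_zero,
        AddChar.map_zero_eq_one]
      ring
    · exact absurd h.symm.dvd hx
  · unfold theta indFun
    rw [Finset.sum_eq_zero, mul_zero]
    exact fun g _ => extendByZero_not_mem _ _ fun hm => h ⟨g, hm⟩

/-- The character data. -/
structure CharData (D : Data p G) (π : G → ℂ) where
  σ : ℤ
  e : ℕ
  E : IrrCharacter G
  F : Finset (IrrCharacter G)
  sigma : σ = 1 ∨ σ = -1
  two_le : 2 ≤ e
  E_ne : (E : G → ℂ) ≠ 1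
  F_ne : ∀ χ ∈ F, (χ : G → ℂ) ≠ 1
  E_notMem : E ∉ F
  card_F : p ≤ 2 * F.card + 1
  deg_E : (E : G → ℂ) 1 = (e : ℂ)
  cong : (p : ℤ) ∣ (e : ℤ) - σ
  E_e : ∀ a : ZMod p, a ≠ 0 → (E : G → ℂ) (D.e a : G) = (σ : ℂ)
  deg_F : ∀ χ ∈ F, (χ : G → ℂ) 1 = (e : ℂ) + σ
  F_reg : ∀ χ ∈ F, ∀ x : G, ¬ p ∣ orderOf x → (χ : G → ℂ) x = (E : G → ℂ) x + σ
  pairs : ∀ x y : G, ¬ p ∣ orderOf x → ¬ p ∣ orderOf y →
    (Nat.card {q : G × G // IsConj x q.1 ∧ IsConj y q.2 ∧ q.1 * q.2 = (D.e 1 : G)} : ℂ) =
      (Nat.card {z : G // IsConj x z} : ℂ) * (Nat.card {z : G // IsConj y z} : ℂ) /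
        (Nat.card G : ℂ) * (((e : ℂ) - (E : G → ℂ) x) * ((e : ℂ) - (E : G → ℂ) y) /
          ((e : ℂ) * ((e : ℂ) + σ)))
  cases : (σ = 1 ∧ p = 5 ∧ e = 6 ∧ ∀ x : G, ¬ p ∣ orderOf x → π x = 3 + 2 * (E : G → ℂ) x) ∨
    (σ = -1 ∧ e + 1 = p) ∨
    (σ = -1 ∧ e + 1 = 2 * p ∧ ∃ θ : IrrCharacter G, θ ∉ F ∧ θ ≠ E ∧ (θ : G → ℂ) ≠ 1 ∧
      (θ : G → ℂ) 1 = (p : ℂ) ∧ ∀ g, π g = 1 + (E : G → ℂ) g + (θ : G → ℂ) g) ∨
    (σ = -1 ∧ e + 1 = 3 * p ∧ ∀ g, π g = 1 + (E : G → ℂ) g)

theorem exists_charData
    (π : G → ℂ) (hπ : IsCharacter G π) (hπ1 : classInner π (1 : G → ℂ) = 1) (hπd : π 1 = 3 * (p : ℂ))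
    (hπx : ∀ a : ZMod p, a ≠ 0 → π (D.e a : G) = 0)
    (hlin : ∀ χ : G → ℂ, IsIrrCharacter G χ → χ 1 = 1 → χ = 1) :
    Nonempty (CharData D π) := by
  classical
  have := Fintype.ofFinite (IrrCharacter G)
  have hp5 := D.five
  let one : IrrCharacter G := ⟨1, isIrrCharacter_one⟩
  choose c hcsum hc hcn using fun i => IsGeneralizedCharacter.exists_coeffs (theta_gen D i)
  choose dg hdgpos hdg using fun χ : IrrCharacter G => IsIrrCharacter.exists_degree χ.2
  have hdg1 : ∀ χ, 1 ≤ dg χ := fun χ => Nat.one_le_iff_ne_zero.2 fun h =>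
    IsIrrCharacter.apply_one_ne_zero χ.2 (by rw [hdg, h, Nat.cast_zero])
  have hcl : ∀ χ : IrrCharacter G, IsClassFunction G (χ : G → ℂ) := fun χ =>
    IsIrrCharacter.isClassFunction χ.2
  have hdo : dg one = 1 := by
    have h := hdg one
    rw [show (one : G → ℂ) 1 = 1 from rfl] at h
    exact_mod_cast h.symm
  have hdg2 : ∀ χ, χ ≠ one → 2 ≤ dg χ := fun χ hχ => by
    by_contra h
    have := hdg1 χ
    exact hχ (Subtype.ext (hlin _ χ.2 (by rw [hdg, show dg χ = 1 by omega, Nat.cast_one])))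
  have hc0 : ∀ χ, c 0 χ = 0 := by
    intro χ
    have h := hc 0 χ
    rw [inner_theta D 0 (hcl χ)] at h
    simp at h
    exact_mod_cast h.symm
  have hc1 : ∀ i, i ≠ 0 → c i one = 1 := by
    intro i hi
    have h := hc i one
    rw [inner_theta D i (hcl one)] at h
    simp only [one, Pi.one_apply, map_one, mul_one, Finset.sum_sub_distrib, Finset.sum_const,
      Finset.card_univ, ZMod.card, nsmul_eq_mul, sum_om, hi, if_false, sub_zero] at h
    rw [inv_mul_cancel₀ (pC_ne (p := p))] at h
    exact_mod_cast h.symm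
  have hinner : ∀ i k, ((∑ χ, c i χ * c k χ : ℤ) : ℂ) = classInner (theta D i) (theta D k) := by
    intro i k
    rw [classInner_eq_sum (theta_class D i)]
    push_cast
    exact Finset.sum_congr rfl fun χ _ => by rw [hc, hc, map_intCast]
  have hdeg0 : ∀ i, ∑ χ, c i χ * (dg χ : ℤ) = 0 := by
    intro i
    have h := congrFun (hcsum i) 1
    have h1 : theta D i 1 = 0 := by
      rw [← e_zero D, theta_apply_e, mul_zero, neg_zero, AddChar.map_zero_eq_one]; ring
    rw [h1, Finset.sum_apply] at h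
    simp only [Pi.smul_apply, smul_eq_mul, hdg] at h
    exact_mod_cast h.symm
  obtain ⟨mm, hmsum, hm⟩ := IsCharacter.decompose hπ
  have hm1 : mm one = 1 := by
    have h := hm one
    rw [show (one : G → ℂ) = 1 from rfl, hπ1] at h
    exact_mod_cast h.symm
  have hπi : ∀ i, ∑ χ, c i χ * (mm χ : ℤ) = 0 := by
    intro i
    have h : classInner (theta D i) π = 0 := by
      rw [inner_theta D i (IsCharacter.isClassFunction hπ),
        Finset.sum_eq_single (0 : ZMod p)]
      · simp
      · intro j _ hj; rw [hπx j hj]; simp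
      · simp
    rw [classInner_eq_sum (theta_class D i)] at h
    simp only [hc, hm, map_natCast] at h
    exact_mod_cast h
  have hπdeg : ∑ χ, mm χ * dg χ = 3 * p := by
    have h := congrFun hmsum 1
    rw [hπd, Finset.sum_apply] at h
    simp only [Pi.smul_apply, smul_eq_mul, hdg] at h
    exact_mod_cast h.symm
  -- the two non-principal constituents
  have hAB : ∀ i, i ≠ 0 → ∃ A B : IrrCharacter G, A ≠ B ∧ A ≠ one ∧ B ≠ one ∧ c i A = -1 ∧
      c i B = 1 ∧ (∀ χ, χ ≠ one → χ ≠ A → χ ≠ B → c i χ = 0) ∧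
      dg A = dg B + 1 ∧ mm A = mm B + 1 := by
    intro i hi
    let S := (Finset.univ.erase one).filter fun χ => c i χ ≠ 0
    have hS : ∑ χ ∈ S, c i χ ^ 2 = 2 := by
      have h := hcn i
      rw [theta_inner, if_neg hi, if_neg hi, if_pos rfl] at h
      have hni : i + i ≠ 0 := fun h => hi (eq_zero_of_add_self (le_trans (by norm_num) hp5) i h)
      rw [if_neg hni] at h
      have h3 : ∑ χ, c i χ ^ 2 = 3 := by
        have : ((3 : ℤ) : ℂ) = ((∑ χ, c i χ ^ 2 : ℤ) : ℂ) := by rw [← h]; norm_num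
        exact_mod_cast this.symm
      rw [← Finset.add_sum_erase _ _ (Finset.mem_univ one), hc1 i hi] at h3
      have h4 : ∑ χ ∈ S, c i χ ^ 2 = ∑ χ ∈ Finset.univ.erase one, c i χ ^ 2 :=
        Finset.sum_filter_of_ne (fun χ _ h h0 => h (by rw [h0]; norm_num))
      rw [h4]
      linarith
    have hsq : ∀ χ ∈ S, c i χ ^ 2 = 1 := by
      intro χ hχ
      have h1 := Finset.single_le_sum (f := fun χ => c i χ ^ 2) (fun χ _ => sq_nonneg _) hχ
      rw [hS] at h1
      have h2 := (Finset.mem_filter.1 hχ).2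
      have h3 : -2 < c i χ ∧ c i χ < 2 := ⟨by nlinarith, by nlinarith⟩
      have h4 : c i χ = 1 ∨ c i χ = -1 := by omega
      rcases h4 with h4 | h4 <;> rw [h4] <;> norm_num
    have hcard : S.card = 2 := by
      rw [Finset.sum_congr rfl hsq, Finset.sum_const, nsmul_one] at hS
      exact_mod_cast hS
    obtain ⟨A, B, hne, hSeq⟩ := Finset.card_eq_two.1 hcard
    have hA1 : c i A = 1 ∨ c i A = -1 := sq_eq_one_iff.1 (hsq A (by simp [hSeq]))
    have hB1 : c i B = 1 ∨ c i B = -1 := sq_eq_one_iff.1 (hsq B (by simp [hSeq]))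
    have hAo : A ≠ one := (Finset.mem_erase.1 (Finset.mem_filter.1 (hSeq ▸ (by simp) : A ∈ S)).1).1
    have hBo : B ≠ one := (Finset.mem_erase.1 (Finset.mem_filter.1 (hSeq ▸ (by simp) : B ∈ S)).1).1
    have hz : ∀ χ, χ ≠ one → χ ≠ A → χ ≠ B → c i χ = 0 := by
      intro χ h1 h2 h3
      by_contra h
      have : χ ∈ S := Finset.mem_filter.2 ⟨Finset.mem_erase.2 ⟨h1, Finset.mem_univ _⟩, h⟩
      rw [hSeq] at this
      simp [h2, h3] at this
    have hsum3 : ∀ f : IrrCharacter G → ℤ, ∑ χ, c i χ * f χ = f one + c i A * f A + c i B * f B := by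
      intro f
      rw [← Finset.add_sum_erase _ _ (Finset.mem_univ one), hc1 i hi, one_mul, add_assoc]
      congr 1
      rw [← Finset.sum_subset (s₁ := {A, B}) (by
          intro χ hχ
          rcases Finset.mem_insert.1 hχ with rfl | h
          · simp [hAo]
          · rw [Finset.mem_singleton] at h; subst h; simp [hBo])
        (fun χ hχ h => by
          simp only [Finset.mem_insert, Finset.mem_singleton, not_or] at h
          rw [hz χ (Finset.mem_erase.1 hχ).1 h.1 h.2, zero_mul]), Finset.sum_pair hne]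
    have hd := hdeg0 i
    rw [hsum3] at hd
    have hp := hπi i
    rw [hsum3, hm1] at hp
    have := hdg1 A
    have := hdg1 B
    rcases hA1 with hA1 | hA1 <;> rcases hB1 with hB1 | hB1 <;> rw [hA1, hB1] at hd hp <;>
      rw [hdo] at hd
    · omega
    · exact ⟨B, A, hne.symm, hBo, hAo, hB1, hA1, fun χ a b d => hz χ a d b, by omega, by omega⟩
    · exact ⟨A, B, hne, hAo, hBo, hA1, hB1, hz, by omega, by omega⟩
    · omega
  choose A B hne hAo hBo hcA hcB hcz hdAB hmAB using hAB
  have hval : ∀ i (hi : i ≠ 0) χ, χ ≠ one →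
      c i χ = if χ = A i hi then -1 else if χ = B i hi then 1 else 0 := by
    intro i hi χ hχ
    split_ifs with h1 h2
    · rw [h1, hcA]
    · rw [h2, hcB]
    · exact hcz i hi χ hχ h1 h2
  have hpair : ∀ i (hi : i ≠ 0) k (hk : k ≠ 0),
      ((i + k = 0 ∨ i = k) → A i hi = A k hk ∧ B i hi = B k hk) ∧
      ((i + k ≠ 0 ∧ i ≠ k) → (A i hi = A k hk ∨ B i hi = B k hk) ∧
        ¬ (A i hi = A k hk ∧ B i hi = B k hk)) := by
    intro i hi k hk
    have h := hinner i k
    rw [theta_inner, if_neg hi, if_neg hk] at h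
    have hsplit : ∑ χ, c i χ * c k χ = 1 - c k (A i hi) + c k (B i hi) := by
      rw [← Finset.add_sum_erase _ _ (Finset.mem_univ one), hc1 i hi, hc1 k hk, one_mul, sub_add_eq_add_sub,
        add_sub_assoc]
      congr 1
      rw [← Finset.sum_subset (s₁ := {A i hi, B i hi}) (by
          intro χ hχ
          rcases Finset.mem_insert.1 hχ with rfl | h
          · simp [hAo]
          · rw [Finset.mem_singleton] at h; subst h; simp [hBo])
        (fun χ hχ h => by
          simp only [Finset.mem_insert, Finset.mem_singleton, not_or] at h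
          rw [hcz i hi χ (Finset.mem_erase.1 hχ).1 h.1 h.2, zero_mul]),
        Finset.sum_pair (hne i hi), hcA, hcB]
      ring
    rw [hsplit] at h
    have vA := hval k hk (A i hi) (hAo i hi)
    have vB := hval k hk (B i hi) (hBo i hi)
    have hni : i + i ≠ 0 := fun h => hi (eq_zero_of_add_self (le_trans (by norm_num) hp5) i h)
    constructor
    · intro hik
      have hr : (1 : ℤ) - c k (A i hi) + c k (B i hi) = 3 := by
        rcases hik with e | e
        · have hne' : i ≠ k := fun h => hni (by rw [h] at e ⊢; exact e)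
          rw [if_pos e, if_neg hne'] at h
          exact_mod_cast h.trans (by norm_num : ((2 : ℂ) + 1 + 0) = ((3 : ℤ) : ℂ))
        · have hne' : i + k ≠ 0 := fun h => hni (by rw [← e] at h; exact h)
          rw [if_neg hne', if_pos e] at h
          exact_mod_cast h.trans (by norm_num : ((2 : ℂ) + 0 + 1) = ((3 : ℤ) : ℂ))
      rw [vA, vB] at hr
      constructor <;> · by_contra hcon; simp only [hcon, if_false] at hr; split_ifs at hr <;> omega
    · intro hik
      rw [if_neg hik.1, if_neg hik.2] at h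
      have hr : (1 : ℤ) - c k (A i hi) + c k (B i hi) = 2 := by
        exact_mod_cast h.trans (by norm_num : ((2 : ℂ) + 0 + 0) = ((2 : ℤ) : ℂ))
      rw [vA, vB] at hr
      constructor
      · by_contra hcon
        rw [not_or] at hcon
        simp only [hcon.1, hcon.2, if_false] at hr
        split_ifs at hr <;> omega
      · rintro ⟨e1, e2⟩
        rw [e1, e2, if_pos rfl, if_neg (fun e => hne k hk e.symm), if_pos rfl] at hr
        omega
  have hcong : ∀ χ : IrrCharacter G, (p : ℤ) ∣ (dg χ : ℤ) + ∑ i, c i χ := by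
    intro χ
    have h := value_eq D (hcl χ) 0
    simp only [e_zero, hdg, map_natCast, mul_zero, neg_zero, AddChar.map_zero_eq_one, mul_one,
      if_true, hc] at h
    obtain ⟨n, hn⟩ := IsCharacter.classInner_nat (IsIrrCharacter.isCharacter (isIrrCharacter_one (G := D.X)))
      (IsCharacter.restrict (IsIrrCharacter.isCharacter χ.2) D.X)
    have hs : ∑ j : ZMod p, conj ((χ : G → ℂ) (D.e j : G)) = (p : ℂ) * (n : ℂ) := by
      rw [← hn, classInner, card_X, ← mul_assoc]
      rw [mul_inv_cancel₀ (pC_ne (p := p)), one_mul]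
      simp only [Pi.one_apply, one_mul]
      exact Fintype.sum_equiv D.e _ _ fun j => rfl
    rw [hs] at h
    refine ⟨(n : ℤ), ?_⟩
    have : ((dg χ : ℤ) : ℂ) + ((∑ i, c i χ : ℤ) : ℂ) = (((p : ℤ) * n : ℤ) : ℂ) := by
      push_cast; rw [h]; ring
    exact_mod_cast this
  have h1 : (1 : ZMod p) ≠ 0 := one_ne_zero
  have huniv : (∀ i hi, A i hi = A 1 h1) ∨ (∀ i hi, B i hi = B 1 h1) := by
    by_contra hcon
    rw [not_or] at hcon
    push Not at hcon
    obtain ⟨⟨j, hj, hjA⟩, ⟨k, hk, hkB⟩⟩ := hcon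
    have hor : ∀ i (hi : i ≠ 0) k (hk : k ≠ 0), A i hi = A k hk ∨ B i hi = B k hk := by
      intro i hi k hk
      by_cases h : i + k = 0 ∨ i = k
      · exact Or.inl ((hpair i hi k hk).1 h).1
      · rw [not_or] at h; exact ((hpair i hi k hk).2 h).1
    have e1 := (hor j hj 1 h1).resolve_left hjA
    have e2 := (hor k hk 1 h1).resolve_right hkB
    rcases hor j hj k hk with e | e
    · exact hjA (e.trans e2)
    · exact hkB (e.symm.trans e1)
  -- `E` is the common constituent, `X i` the other one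
  obtain ⟨σ, E, X, hσ, hEo, hXo, hEX, hcE, hcX, hcZ, hdX, hmX, hXd⟩ :
      ∃ (σ : ℤ) (E : IrrCharacter G) (X : ∀ i : ZMod p, i ≠ 0 → IrrCharacter G),
        (σ = 1 ∨ σ = -1) ∧ E ≠ one ∧ (∀ i hi, X i hi ≠ one) ∧ (∀ i hi, E ≠ X i hi) ∧
        (∀ i, i ≠ 0 → c i E = σ) ∧ (∀ i hi, c i (X i hi) = -σ) ∧
        (∀ i (hi : i ≠ 0) χ, χ ≠ one → χ ≠ E → χ ≠ X i hi → c i χ = 0) ∧
        (∀ i hi, (dg (X i hi) : ℤ) = dg E + σ) ∧ (∀ i hi, (mm (X i hi) : ℤ) = mm E + σ) ∧
        (∀ i hi k hk, X i hi = X k hk → i + k = 0 ∨ i = k) := by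
    rcases huniv with hu | hu
    · refine ⟨-1, A 1 h1, B, Or.inr rfl, hAo 1 h1, hBo, fun i hi => ?_, fun i hi => ?_, fun i hi => ?_,
        fun i hi χ a b d => ?_, fun i hi => ?_, fun i hi => ?_, fun i hi k hk h => ?_⟩
      · rw [← hu i hi]; exact hne i hi
      · rw [← hu i hi, hcA]
      · rw [hcB]; norm_num
      · exact hcz i hi χ a (by rw [hu i hi]; exact b) d
      · rw [← hu i hi, hdAB]; push_cast; ring
      · rw [← hu i hi, hmAB]; push_cast; ring
      · by_contra hcon
        rw [not_or] at hcon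
        exact ((hpair i hi k hk).2 hcon).2 ⟨(hu i hi).trans (hu k hk).symm, h⟩
    · refine ⟨1, B 1 h1, A, Or.inl rfl, hBo 1 h1, hAo, fun i hi => ?_, fun i hi => ?_, fun i hi => ?_,
        fun i hi χ a b d => ?_, fun i hi => ?_, fun i hi => ?_, fun i hi k hk h => ?_⟩
      · rw [← hu i hi]; exact (hne i hi).symm
      · rw [← hu i hi, hcB]
      · rw [hcA]
      · exact hcz i hi χ a d (by rw [hu i hi]; exact b)
      · rw [← hu i hi, hdAB]; push_cast; ring
      · rw [← hu i hi, hmAB]; push_cast; ring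
      · by_contra hcon
        rw [not_or] at hcon
        exact ((hpair i hi k hk).2 hcon).2 ⟨h, (hu i hi).trans (hu k hk).symm⟩
  have hconst : ∀ (χ : IrrCharacter G) (z : ℤ), (∀ i : ZMod p, i ≠ 0 → c i χ = z) →
      ∑ i, c i χ = z * ((p : ℤ) - 1) := by
    intro χ z hz
    rw [← Finset.add_sum_erase _ _ (Finset.mem_univ (0 : ZMod p)), hc0, zero_add,
      Finset.sum_congr rfl (fun i hi => hz i (Finset.mem_erase.1 hi).1), Finset.sum_const,
      Finset.card_erase_of_mem (Finset.mem_univ _), Finset.card_univ, ZMod.card, nsmul_eq_mul,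
      Nat.cast_sub (by omega)]
    push_cast; ring
  have hce : (p : ℤ) ∣ (dg E : ℤ) - σ := by
    have h := hcong E
    rw [hconst _ σ hcE] at h
    obtain ⟨k, hk⟩ := h
    exact ⟨k - σ, by linear_combination hk⟩
  let F : Finset (IrrCharacter G) :=
    (Finset.univ : Finset {i : ZMod p // i ≠ 0}).image fun i => X i.1 i.2
  have hFcard : p ≤ 2 * F.card + 1 := by
    have h := Finset.card_le_mul_card_image (f := fun i : {i : ZMod p // i ≠ 0} => X i.1 i.2)
      (Finset.univ : Finset {i : ZMod p // i ≠ 0}) 2 (by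
        intro b hb
        obtain ⟨⟨k, hk⟩, -, rfl⟩ := Finset.mem_image.1 hb
        refine le_trans (Finset.card_le_card (t := {⟨k, hk⟩, ⟨-k, neg_ne_zero.2 hk⟩}) ?_) Finset.card_le_two
        rintro ⟨i, hi⟩ h
        simp only [Finset.mem_filter, Finset.mem_univ, true_and] at h
        rcases hXd i hi k hk h with e | e
        · simp [eq_neg_of_add_eq_zero_left e]
        · simp [e])
    rw [Finset.card_univ, Fintype.card_subtype_compl, Fintype.card_subtype_eq, ZMod.card] at h
    change p - 1 ≤ 2 * F.card at h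
    omega
  have hFmem : ∀ χ ∈ F, ∃ i hi, X i hi = χ := fun χ hχ => by
    obtain ⟨⟨i, hi⟩, -, h⟩ := Finset.mem_image.1 hχ
    exact ⟨i, hi, h⟩
  have hEF : E ∉ F := fun h => by
    obtain ⟨i, hi, h⟩ := hFmem E h
    exact hEX i hi h.symm
  have honeF : one ∉ F := fun h => by
    obtain ⟨i, hi, h⟩ := hFmem one h
    exact hXo i hi h
  have hdF : ∀ χ ∈ F, (dg χ : ℤ) = dg E + σ := fun χ hχ => by
    obtain ⟨i, hi, rfl⟩ := hFmem χ hχ
    exact hdX i hi
  have hmF : ∀ χ ∈ F, (mm χ : ℤ) = mm E + σ := fun χ hχ => by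
    obtain ⟨i, hi, rfl⟩ := hFmem χ hχ
    exact hmX i hi
  have hsum3 : ∀ i (hi : i ≠ 0) (f : IrrCharacter G → ℂ),
      ∑ χ, (c i χ : ℂ) * f χ = f one + σ * f E - σ * f (X i hi) := by
    intro i hi f
    rw [← Finset.add_sum_erase _ _ (Finset.mem_univ one), hc1 i hi,
      ← Finset.sum_subset (s₁ := {E, X i hi}) (by
          intro χ hχ
          rcases Finset.mem_insert.1 hχ with rfl | h
          · simp [hEo]
          · rw [Finset.mem_singleton] at h; subst h; simp [hXo])
        (fun χ hχ h => by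
          simp only [Finset.mem_insert, Finset.mem_singleton, not_or] at h
          rw [hcZ i hi χ (Finset.mem_erase.1 hχ).1 h.1 h.2]; simp),
      Finset.sum_pair (hEX i hi), hcE i hi, hcX]
    push_cast; ring
  have hσC : (σ : ℂ) * σ = 1 := by rcases hσ with rfl | rfl <;> norm_num
  have hreg : ∀ i hi (x : G), ¬ p ∣ orderOf x → (X i hi : G → ℂ) x = (E : G → ℂ) x + σ := by
    intro i hi x hx
    have h := congrFun (hcsum i) x
    rw [theta_regular D i hx, Finset.sum_apply] at h
    simp only [Pi.smul_apply, smul_eq_mul] at h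
    rw [hsum3 i hi fun χ => (χ : G → ℂ) x] at h
    simp only [one, Pi.one_apply] at h
    linear_combination (σ : ℂ) * h + (((E : G → ℂ) x) - (X i hi : G → ℂ) x) * hσC
  have hval1 : ∑ i : ZMod p, (if i = 0 then 0 else om (-i)) = -1 := by
    rw [← Finset.add_sum_erase _ _ (Finset.mem_univ (0 : ZMod p)), if_pos rfl, zero_add,
      Finset.sum_congr rfl (fun i hi => if_neg (Finset.mem_erase.1 hi).1)]
    have h := sum_om (p := p) (-1)
    rw [if_neg (by simp), ← Finset.add_sum_erase _ _ (Finset.mem_univ (0 : ZMod p))] at h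
    simp only [mul_zero, AddChar.map_zero_eq_one, neg_one_mul] at h
    linear_combination h
  have hEe : ∀ a : ZMod p, a ≠ 0 → (E : G → ℂ) (D.e a : G) = (σ : ℂ) := by
    intro a ha
    have h := value_eq D (hcl E) a
    rw [if_neg ha, zero_sub, ← Finset.add_sum_erase _ _ (Finset.mem_univ (0 : ZMod p)), hc, hc0,
      Int.cast_zero, zero_mul, zero_add,
      Finset.sum_congr rfl (g := fun i => (σ : ℂ) * om (-(i * a))) (fun i hi => by
        rw [hc, hcE i (Finset.mem_erase.1 hi).1]), ← Finset.mul_sum] at h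
    have h' := sum_om (p := p) (-a)
    rw [if_neg (neg_ne_zero.2 ha), ← Finset.add_sum_erase _ _ (Finset.mem_univ (0 : ZMod p))] at h'
    simp only [mul_zero, AddChar.map_zero_eq_one] at h'
    have he : ∀ i : ZMod p, om (-(i * a)) = om (-a * i) := fun i => by congr 1; ring
    rw [Finset.sum_congr rfl fun i _ => he i] at h
    have h'' : conj ((E : G → ℂ) (D.e a : G)) = (σ : ℂ) := by
      rw [h]; linear_combination -(σ : ℂ) * h'
    simpa using congrArg conj h''
  have he2 : 2 ≤ dg E := hdg2 E hEo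
  -- degree bookkeeping
  have hsplit : 1 + mm E * dg E + ∑ χ ∈ F, mm χ * dg χ +
      ∑ χ ∈ (insert one (insert E F))ᶜ, mm χ * dg χ = 3 * p := by
    rw [← hπdeg, ← Finset.sum_add_sum_compl (insert one (insert E F)) (fun χ => mm χ * dg χ),
      Finset.sum_insert (by simp [honeF, hEo.symm]), Finset.sum_insert hEF, hm1, hdo]
    ring
  have hrestdvd : ∀ χ ∈ (insert one (insert E F))ᶜ, p ∣ dg χ := by
    intro χ hχ
    simp only [Finset.mem_compl, Finset.mem_insert, not_or] at hχ
    have h := hcong χ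
    rw [hconst χ 0 (fun i hi => hcZ i hi χ hχ.1 hχ.2.1 (fun e => hχ.2.2 (e ▸
      Finset.mem_image.2 ⟨⟨i, hi⟩, Finset.mem_univ _, rfl⟩))), zero_mul, add_zero] at h
    exact_mod_cast h
  have hpi : ∀ s : Finset (IrrCharacter G), (∀ χ ∉ s, mm χ = 0) →
      ∀ g, π g = ∑ χ ∈ s, (mm χ : ℂ) * (χ : G → ℂ) g := by
    intro s hs g
    have h := congrFun hmsum g
    rw [Finset.sum_apply] at h
    rw [h, Finset.sum_subset (Finset.subset_univ s) (fun χ _ hχ => by rw [hs χ hχ]; simp)]
    rfl
  have hF2 : 2 ≤ F.card := by omega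
  refine ⟨⟨σ, dg E, E, F, hσ, he2, fun h => hEo (Subtype.ext h),
    fun χ hχ h => honeF ((Subtype.ext h : χ = one) ▸ hχ), hEF, hFcard, hdg E, hce, hEe,
    fun χ hχ => by rw [hdg]; exact_mod_cast hdF χ hχ,
    fun χ hχ x hx => ?_, fun x y hx hy => ?_, ?_⟩⟩
  · obtain ⟨i, hi, rfl⟩ := hFmem χ hχ
    exact hreg i hi x hx
  · rw [class_mult_formula x y (D.e 1 : G)]
    congr 1
    set ex := (E : G → ℂ) x
    set ey := (E : G → ℂ) y
    set e : ℂ := (dg E : ℂ)
    set K : ℂ := 1 + σ * (ex * ey / e) - σ * ((ex + σ) * (ey + σ) / (e + σ))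
    have e' : ∀ χ : IrrCharacter G,
        (χ : G → ℂ) x * (χ : G → ℂ) y * conj ((χ : G → ℂ) (D.e 1 : G)) / (χ : G → ℂ) 1 =
        -∑ i : ZMod p, om (-i) * ((c i χ : ℂ) * ((χ : G → ℂ) x * (χ : G → ℂ) y / (χ : G → ℂ) 1)) := by
      intro χ
      rw [value_eq D (hcl χ) 1, if_neg h1, zero_sub]
      simp only [hc, mul_one]
      rw [mul_neg, neg_div, Finset.mul_sum, Finset.sum_div]
      exact congrArg Neg.neg (Finset.sum_congr rfl fun i _ => by ring)
    have e4 : ∀ i : ZMod p, ∑ χ : IrrCharacter G,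
        om (-i) * ((c i χ : ℂ) * ((χ : G → ℂ) x * (χ : G → ℂ) y / (χ : G → ℂ) 1)) =
        (if i = 0 then 0 else om (-i)) * K := by
      intro i
      rw [← Finset.mul_sum]
      by_cases hi : i = 0
      · subst hi; simp [hc0]
      · rw [hsum3 i hi, if_neg hi, hreg i hi x hx, hreg i hi y hy, hdg (X i hi), hdg E,
          show ((dg (X i hi) : ℕ) : ℂ) = e + σ by simp only [e]; exact_mod_cast hdX i hi]
        simp only [one, Pi.one_apply, K, ex, ey, e]
        ring
    rw [Finset.sum_congr rfl fun χ _ => e' χ, Finset.sum_neg_distrib, Finset.sum_comm,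
      Finset.sum_congr rfl fun i _ => e4 i, ← Finset.sum_mul, hval1]
    have he0 : e ≠ 0 := Nat.cast_ne_zero.2 (by omega)
    have hes : e + σ ≠ 0 := by
      intro h
      simp only [e] at h
      have : ((dg E : ℤ) + σ : ℤ) = 0 := by exact_mod_cast h
      omega
    simp only [K]
    field_simp
    linear_combination (ex * ey - e * ex - e * ey - e * σ) * hσC
  · rcases hσ with rfl | rfl
    · -- `σ = 1`
      left
      obtain ⟨k, hk⟩ := hce
      have hk1 : 1 ≤ k := by nlinarith
      have hebig : p + 1 ≤ dg E := by nlinarith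
      have hFle : F.card * (p + 2) ≤ ∑ χ ∈ F, mm χ * dg χ := by
        rw [← smul_eq_mul, ← Finset.sum_const]
        refine Finset.sum_le_sum fun χ hχ => ?_
        have := hmF χ hχ
        have := hdF χ hχ
        exact le_trans (by omega) (Nat.le_mul_of_pos_left _ (by omega))
      have hp5' : p = 5 := by
        by_contra hne5
        have h3 : 3 ≤ F.card := by omega
        have : 3 * (p + 2) ≤ F.card * (p + 2) := Nat.mul_le_mul_right _ h3
        omega
      subst hp5'
      have hk' : k = 1 := by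
        by_contra hne1
        have : 2 * 7 < ∑ χ ∈ F, mm χ * dg χ := by
          refine lt_of_lt_of_le (b := F.card * 12) (by omega) ?_
          rw [← smul_eq_mul, ← Finset.sum_const]
          refine Finset.sum_le_sum fun χ hχ => ?_
          have := hmF χ hχ
          have := hdF χ hχ
          exact le_trans (by omega) (Nat.le_mul_of_pos_left _ (by omega))
        omega
      have he6 : dg E = 6 := by subst hk'; omega
      have hd7 : ∀ χ ∈ F, dg χ = 7 := fun χ hχ => by have := hdF χ hχ; omega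
      have hsumF : ∑ χ ∈ F, mm χ * dg χ = 7 * ∑ χ ∈ F, mm χ := by
        rw [Finset.mul_sum]
        exact Finset.sum_congr rfl fun χ hχ => by rw [hd7 χ hχ, mul_comm]
      have hsummm : ∑ χ ∈ F, mm χ = F.card * (mm E + 1) := by
        rw [← smul_eq_mul, ← Finset.sum_const]
        exact Finset.sum_congr rfl fun χ hχ => by have := hmF χ hχ; omega
      have hm' : F.card * (mm E + 1) ≤ 2 := by omega
      have hmE : mm E = 0 := by
        by_contra h
        have : F.card * 2 ≤ F.card * (mm E + 1) := Nat.mul_le_mul_left _ (by omega)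
        omega
      rw [hmE, Nat.zero_add, Nat.mul_one] at hsummm hm'
      have hFc : F.card = 2 := by omega
      refine ⟨rfl, rfl, he6, fun x hx => ?_⟩
      have hz : ∀ χ ∉ insert one F, mm χ = 0 := by
        intro χ hχ
        simp only [Finset.mem_insert, not_or] at hχ
        by_cases hχE : χ = E
        · rw [hχE, hmE]
        have hmem : χ ∈ (insert one (insert E F))ᶜ := by simp [hχ.1, hχ.2, hχE]
        have := Finset.single_le_sum (f := fun χ => mm χ * dg χ) (fun _ _ => Nat.zero_le _) hmem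
        rcases Nat.mul_eq_zero.1 (show mm χ * dg χ = 0 by omega) with h | h
        · exact h
        · have := hdg1 χ; omega
      rw [hpi _ hz x, Finset.sum_insert honeF, hm1, Finset.sum_congr rfl
        (g := fun _ => (E : G → ℂ) x + 1) fun χ hχ => by
          obtain ⟨i, hi, rfl⟩ := hFmem χ hχ
          have := hmF _ hχ
          rw [hreg i hi x hx, show mm (X i hi) = 1 by omega]
          push_cast; ring, Finset.sum_const, hFc, nsmul_eq_mul]
      simp only [one, Pi.one_apply]
      push_cast; ring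
    · -- `σ = -1`
      right
      obtain ⟨k, hk⟩ := hce
      have hk1 : 1 ≤ k := by nlinarith
      obtain ⟨i0, hi0⟩ : ∃ i : ZMod p, i ≠ 0 := ⟨1, h1⟩
      have hmE1 : 1 ≤ mm E := by have := hmX i0 hi0; omega
      have hle : dg E ≤ mm E * dg E := Nat.le_mul_of_pos_left _ hmE1
      have hk3 : k ≤ 3 := by
        by_contra h
        have : (p : ℤ) * 4 ≤ p * k := by nlinarith
        omega
      have hmEone : 2 ≤ k → mm E = 1 := fun hk2 => by
        by_contra h
        have : 2 * dg E ≤ mm E * dg E := Nat.mul_le_mul_right _ (by omega)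
        have : (p : ℤ) * 2 ≤ p * k := by nlinarith
        omega
      have hmF0 : 2 ≤ k → ∀ χ ∈ F, mm χ = 0 := fun hk2 χ hχ => by
        have := hmF χ hχ
        have := hmEone hk2
        omega
      have hrest : 2 ≤ k → ∑ χ ∈ (insert one (insert E F))ᶜ, mm χ * dg χ + dg E + 1 = 3 * p := fun hk2 => by
        have h := hsplit
        rw [hmEone hk2, Finset.sum_eq_zero (s := F) (fun χ hχ => by rw [hmF0 hk2 χ hχ, Nat.zero_mul])] at h
        omega
      interval_cases k
      · exact Or.inl ⟨rfl, by omega⟩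
      · right; left
        have hR := hrest le_rfl
        obtain ⟨R, hRmem, hR0⟩ := Finset.exists_ne_zero_of_sum_ne_zero
          (s := (insert one (insert E F))ᶜ) (f := fun χ => mm χ * dg χ) (by omega)
        have hRle := Finset.single_le_sum (f := fun χ => mm χ * dg χ) (fun _ _ => Nat.zero_le _) hRmem
        have hRm : mm R ≠ 0 := fun h => hR0 (by rw [h, Nat.zero_mul])
        have hRd1 := Nat.le_of_dvd (hdg1 R) (hrestdvd R hRmem)
        have hle' : dg R ≤ mm R * dg R := Nat.le_mul_of_pos_left _ (Nat.pos_of_ne_zero hRm)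
        have hRd : dg R = p := by omega
        have hRm1 : mm R = 1 := by
          by_contra h
          have : 2 * dg R ≤ mm R * dg R := Nat.mul_le_mul_right _ (by omega)
          omega
        have hRne := hRmem
        simp only [Finset.mem_compl, Finset.mem_insert, not_or] at hRne
        refine ⟨rfl, by omega, R, hRne.2.2, hRne.2.1, fun h => hRne.1 (Subtype.ext h), by rw [hdg, hRd],
          fun g => ?_⟩
        have hz : ∀ χ ∉ ({one, E, R} : Finset (IrrCharacter G)), mm χ = 0 := by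
          intro χ hχ
          simp only [Finset.mem_insert, Finset.mem_singleton, not_or] at hχ
          by_cases hχF : χ ∈ F
          · exact hmF0 le_rfl χ hχF
          have hmem : χ ∈ (insert one (insert E F))ᶜ := by simp [hχ.1, hχ.2.1, hχF]
          have h2 := Finset.sum_le_sum_of_subset (f := fun χ => mm χ * dg χ)
            (Finset.insert_subset hmem (Finset.singleton_subset_iff.2 hRmem))
          rw [Finset.sum_pair hχ.2.2, hRm1, hRd, Nat.one_mul] at h2
          rcases Nat.mul_eq_zero.1 (show mm χ * dg χ = 0 by omega) with h | h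
          · exact h
          · have := hdg1 χ; omega
        rw [hpi _ hz g, Finset.sum_insert (by simp [hEo.symm, Ne.symm hRne.1]),
          Finset.sum_pair (Ne.symm hRne.2.1), hm1, hmEone le_rfl, hRm1]
        simp only [one, Pi.one_apply]
        push_cast; ring
      · right; right
        refine ⟨rfl, by omega, fun g => ?_⟩
        have hR := hrest (by norm_num)
        have hz : ∀ χ ∉ ({one, E} : Finset (IrrCharacter G)), mm χ = 0 := by
          intro χ hχ
          simp only [Finset.mem_insert, Finset.mem_singleton, not_or] at hχ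
          by_cases hχF : χ ∈ F
          · exact hmF0 (by norm_num) χ hχF
          have hmem : χ ∈ (insert one (insert E F))ᶜ := by simp [hχ.1, hχ.2, hχF]
          have h2 := Finset.single_le_sum (f := fun χ => mm χ * dg χ) (fun _ _ => Nat.zero_le _) hmem
          rcases Nat.mul_eq_zero.1 (show mm χ * dg χ = 0 by omega) with h | h
          · exact h
          · have := hdg1 χ; omega
        rw [hpi _ hz g, Finset.sum_pair hEo.symm, hm1, hmEone (by norm_num)]
        simp only [one, Pi.one_apply]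
        push_cast; ring

end Cfsg.Agent.DegThreeP
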