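/-
A simple transitive group of degree `3p` with Sylow `p`-normalizer of order `2p`: basic consequences.

Main results: `exists_data`, `exists_restrict`, `Basic` (all the numerical data of the involution `t`).
-/
import Cfsg.Agent.Lib.DegThreeP.Chars
import Cfsg.Agent.Lib.DegTwoP.Setup
import Cfsg.Agent.Lib.Char.Perm
import Cfsg.Agent.Lib.Char.Linear
import Cfsg.Agent.Lib.Char.Eigen

set_option autoImplicit false

namespace Cfsg.Agent.DegThreeP

open Cfsg Cfsg.Agent.Char MulAction Subgroup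
open Cfsg.Agent.DegTwoP (Data card_X e_zero e_mul e_inv conj_t pairs_card pairs_zero)
open scoped ComplexConjugate

variable {p : ℕ} [Fact p.Prime] {G : Type*} [Group G] [Finite G] {Ω : Type*} [Fintype Ω] [MulAction G Ω]

theorem natDvd_card [IsPretransitive G Ω] (hΩ : Fintype.card Ω = 3 * p) : 3 * p ∣ Nat.card G := by
  have : Nonempty Ω := Fintype.card_pos_iff.1 (by have := (Fact.out : p.Prime).pos; omega)
  obtain ⟨a⟩ := this
  rw [← hΩ, ← Nat.card_eq_fintype_card, ← index_stabilizer_of_transitive G a]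
  exact index_dvd_card _

theorem card_sylow [IsPretransitive G Ω] (hΩ : Fintype.card Ω = 3 * p) (P : Sylow p G)
    (hN : Nat.card (normalizer ((P : Subgroup G) : Set G)) = 2 * p) (hp : 5 ≤ p) :
    Nat.card (P : Subgroup G) = p := by
  obtain ⟨k, hk⟩ := P.2.exists_card_eq
  have h1 : p ^ k ∣ 2 * p := hk ▸ hN ▸ card_dvd_of_le le_normalizer
  have h0 : k ≠ 0 := by
    rintro rfl
    have h := (P : Subgroup G).card_mul_index
    rw [hk, pow_zero, one_mul] at h
    exact P.not_dvd_index (h ▸ (dvd_mul_left p 3).trans (natDvd_card hΩ))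
  have h2 : k ≤ 1 := by
    by_contra h
    have : p * p ∣ 2 * p := by
      rw [← pow_two]
      exact (pow_dvd_pow p (by omega)).trans h1
    have := Nat.le_of_dvd two_pos (Nat.dvd_of_mul_dvd_mul_right (by omega) this)
    omega
  rw [hk, show k = 1 by omega, pow_one]

theorem free [IsPretransitive G Ω] (hΩ : Fintype.card Ω = 3 * p) (P : Sylow p G)
    (hP : Nat.card (P : Subgroup G) = p) {x : G}
    (hx : x ∈ (P : Subgroup G)) (hx1 : x ≠ 1) (ω : Ω) : x • ω ≠ ω := by
  intro h
  have h1 : orderOf x = p := by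
    have h2 : orderOf x ∣ p := ((P : Subgroup G).orderOf_dvd_natCard hx).trans hP.dvd
    exact ((Nat.dvd_prime Fact.out).1 h2).resolve_left fun e => hx1 (orderOf_eq_one_iff.1 e)
  have h3 : p ∣ Nat.card (stabilizer G ω) := by
    rw [← h1, show orderOf x = orderOf (⟨x, h⟩ : stabilizer G ω) from (Subgroup.orderOf_mk _ _).symm]
    exact orderOf_dvd_natCard _
  refine DegTwoP.not_sq_dvd P hP ?_
  rw [← (stabilizer G ω).index_mul_card, index_stabilizer_of_transitive G ω, Nat.card_eq_fintype_card, hΩ]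
  exact Nat.mul_dvd_mul (dvd_mul_left p 3) h3

theorem exists_noncomm (hG : ¬ IsMulCommutative G) : ∃ a b : G, a * b ≠ b * a := by
  by_contra h
  push Not at h
  exact hG ⟨⟨h⟩⟩

omit [Finite G] in
theorem linear_eq_one [Finite G] [IsSimpleGroup G] (hnc : ∃ a b : G, a * b ≠ b * a) (χ : G → ℂ)
    (hχ : IsIrrCharacter G χ) (h1 : χ 1 = 1) : χ = 1 := by
  have := Fintype.ofFinite G
  obtain ⟨l, rfl⟩ := exists_hom_of_degree_one (IsIrrCharacter.isCharacter hχ) h1
  funext g
  rcases l.toHomUnits.normal_ker.eq_bot_or_eq_top with h | h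
  · exfalso
    obtain ⟨a, b, hab⟩ := hnc
    exact hab ((MonoidHom.ker_eq_bot_iff _).1 h (by rw [map_mul, map_mul, mul_comm]))
  · have : l.toHomUnits g = 1 := MonoidHom.mem_ker.1 (h ▸ Subgroup.mem_top g : g ∈ l.toHomUnits.ker)
    simpa using congrArg Units.val this

theorem exists_data [IsSimpleGroup G] (hnc : ∃ a b : G, a * b ≠ b * a) (hp : 5 ≤ p) (P : Sylow p G)
    (hP : Nat.card (P : Subgroup G) = p)
    (hN : Nat.card (normalizer ((P : Subgroup G) : Set G)) = 2 * p) :
    ∃ D : Data p G, D.X = (P : Subgroup G) := by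
  set N := normalizer ((P : Subgroup G) : Set G)
  have hPN : (P : Subgroup G) ≤ N := le_normalizer
  have hidx : ((P : Subgroup G).subgroupOf N).index = 2 := by
    have h := ((P : Subgroup G).subgroupOf N).card_mul_index
    rw [Nat.card_congr (subgroupOfEquivOfLe hPN).toEquiv, hP, hN, mul_comm 2 p] at h
    exact Nat.eq_of_mul_eq_mul_left (by omega) h
  obtain ⟨⟨t, htN⟩, ht⟩ := exists_prime_orderOf_dvd_card' (G := N) 2 (hN ▸ dvd_mul_right 2 p)
  rw [Subgroup.orderOf_mk] at ht
  have ht2 : t * t = 1 := by rw [← pow_two, ← ht, pow_orderOf_eq_one]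
  have htP : t ∉ (P : Subgroup G) := by
    intro h
    have h2 : orderOf t ∣ p := ((P : Subgroup G).orderOf_dvd_natCard h).trans hP.dvd
    rw [ht] at h2
    rcases (Nat.dvd_prime (Fact.out : p.Prime)).1 h2 with e | e <;> omega
  have hmemN : ∀ g ∈ N, g ∈ (P : Subgroup G) ∨ t * g ∈ (P : Subgroup G) := by
    intro g hg
    by_cases h : g ∈ (P : Subgroup G)
    · exact Or.inl h
    · refine Or.inr ?_
      exact (mul_mem_iff_of_index_two hidx (a := ⟨t, htN⟩) (b := ⟨g, hg⟩)).2 (iff_of_false htP h)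
  have hPc : IsMulCommutative (P : Subgroup G) := by
    have := isCyclic_of_prime_card hP
    infer_instance
  have hcomm : ∀ x ∈ (P : Subgroup G), ∀ y ∈ (P : Subgroup G), x * y = y * x := fun x hx y hy =>
    congrArg Subtype.val (hPc.is_comm.comm (⟨x, hx⟩ : (P : Subgroup G)) ⟨y, hy⟩)
  have hncx : ∃ x ∈ (P : Subgroup G), t * x ≠ x * t := by
    by_contra hcon
    push Not at hcon
    have hc : normalizer ((P : Subgroup G) : Set G) ≤ centralizer ((P : Subgroup G) : Set G) := by
      intro g hg x hx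
      rcases hmemN g hg with h | h
      · exact hcomm x hx g h
      · have e := hcomm x hx (t * g) h
        calc x * g = t * (t * x * g) := by rw [← mul_assoc, ← mul_assoc, ht2, one_mul]
          _ = t * (x * (t * g)) := by rw [hcon x hx, mul_assoc]
          _ = g * x := by rw [e, ← mul_assoc, ← mul_assoc, ht2, one_mul]
    have hdvd := MonoidHom.not_dvd_card_ker_transferSylow P hc
    rcases (MonoidHom.transferSylow P hc).normal_ker.eq_bot_or_eq_top with h | h
    · obtain ⟨a, b, hab⟩ := hnc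
      exact hab ((MonoidHom.ker_eq_bot_iff _).1 h (by
        rw [map_mul, map_mul]; exact hPc.is_comm.comm _ _))
    · rw [h, Subgroup.card_top] at hdvd
      exact hdvd (hP ▸ (P : Subgroup G).card_subgroup_dvd_card)
  -- parametrization
  let e0 : Multiplicative (ZMod p) ≃* (P : Subgroup G) :=
    mulEquivOfPrimeCardEq (p := p) (by simp) hP
  let e : ZMod p ≃ (P : Subgroup G) := Multiplicative.ofAdd.trans e0.toEquiv
  have eadd : ∀ a b, e (a + b) = e a * e b := fun a b => by
    show e0 (Multiplicative.ofAdd (a + b)) = _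
    rw [ofAdd_add, map_mul]; rfl
  have htc : ∀ x ∈ (P : Subgroup G), t * x * t ∈ (P : Subgroup G) := fun x hx => by
    have h := (Subgroup.mem_normalizer_iff.1 htN x).1 hx
    rwa [inv_eq_of_mul_eq_one_left ht2] at h
  let f : ZMod p →+ ZMod p := AddMonoidHom.mk' (fun a => e.symm ⟨t * e a * t, htc _ (e a).2⟩) fun a b => by
    refine (Equiv.symm_apply_eq e).2 ?_
    conv_rhs => rw [eadd]
    apply Subtype.ext
    rw [Subgroup.coe_mul, Equiv.apply_symm_apply, Equiv.apply_symm_apply]
    show t * (e (a + b) : G) * t = t * e a * t * (t * e b * t)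
    rw [show (e (a + b) : G) = e a * e b from by rw [eadd]; rfl]
    simp only [mul_assoc]
    rw [← mul_assoc t t, ht2, one_mul]
  have hf : ∀ a, (e (f a) : G) = t * e a * t := fun a => by simp [f]
  have hlin : ∀ a, f a = a * f 1 := fun a => by
    conv_lhs => rw [← ZMod.natCast_zmod_val a, ← nsmul_one, map_nsmul, nsmul_eq_mul, ZMod.natCast_zmod_val]
  have hff : f (f 1) = 1 := by
    apply e.injective
    apply Subtype.ext
    rw [hf, hf]
    simp only [mul_assoc]
    rw [ht2, mul_one, ← mul_assoc, ht2, one_mul]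
  have hj : f 1 = -1 := by
    rw [hlin] at hff
    rcases mul_self_eq_one_iff.1 hff with h | h
    · exfalso
      obtain ⟨x, hx, hne⟩ := hncx
      obtain ⟨a, ha⟩ : ∃ a, (e a : G) = x := ⟨e.symm ⟨x, hx⟩, by simp⟩
      have h' := hf a
      rw [hlin, h, mul_one, ha] at h'
      refine hne ?_
      conv_lhs => rw [h', ← mul_assoc, ← mul_assoc, ht2, one_mul]
    · exact h
  have tinv : ∀ a, t * (e a : G) * t = e (-a) := fun a => by
    rw [← hf, hlin, hj, mul_neg, mul_one]
  have hnorm : ∀ g : G, ∀ a : ZMod p, a ≠ 0 → g⁻¹ * (e a : G) * g ∈ (P : Subgroup G) →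
      g ∈ (P : Subgroup G) ∨ t * g ∈ (P : Subgroup G) := by
    intro g a ha hg
    refine hmemN g ?_
    have hgi : g⁻¹ ∈ N := by
      refine Subgroup.mem_normalizer_fintype fun x hx => ?_
      obtain ⟨b, hb⟩ : ∃ b, (e b : G) = x := ⟨e.symm ⟨x, hx⟩, by simp⟩
      have hb' : b = (b * a⁻¹).val • a := by
        rw [nsmul_eq_mul, ZMod.natCast_zmod_val, inv_mul_cancel_right₀ ha]
      have hpow : ∀ n : ℕ, (e (n • a) : G) = (e a : G) ^ n := by
        intro n
        induction n with
        | zero =>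
          rw [zero_smul, pow_zero]
          have h := eadd 0 0
          rw [add_zero, left_eq_mul] at h
          rw [h]; rfl
        | succ n ih => rw [succ_nsmul, eadd, Subgroup.coe_mul, ih, pow_succ]
      rw [← hb, hb', hpow, ← conj_pow, inv_inv]
      exact pow_mem hg _
    simpa using inv_mem hgi
  exact ⟨{ X := (P : Subgroup G), e := e, e_add := eadd, t := t, t_sq := ht2, t_not := htP, t_inv := tinv,
           five := hp, norm := hnorm }, rfl⟩

omit [Finite G] in
/-- The centralizer of a non-trivial element of `X` is `X`. -/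
theorem mem_of_commute (D : Data p G) {g : G} {a : ZMod p} (ha : a ≠ 0)
    (h : g * (D.e a : G) = (D.e a : G) * g) : g ∈ D.X := by
  have hm : g⁻¹ * (D.e a : G) * g ∈ D.X := by
    rw [mul_assoc, ← h, ← mul_assoc, inv_mul_cancel, one_mul]; exact (D.e a).2
  rcases D.norm g a ha hm with h' | h'
  · exact h'
  · exfalso
    obtain ⟨b, hb⟩ : ∃ b, (D.e b : G) = D.t * g := ⟨D.e.symm ⟨_, h'⟩, by simp⟩
    have hg : g = D.t * (D.e b : G) := by rw [hb, ← mul_assoc, D.t_sq, one_mul]
    rw [hg] at h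
    have e1 : (D.e a : G) * (D.t * (D.e b : G)) = D.t * (D.e (-a + b) : G) := by
      have e0 : (D.e a : G) * D.t = D.t * (D.e (-a) : G) := by
        rw [← D.t_inv a, ← mul_assoc, ← mul_assoc, D.t_sq, one_mul]
      rw [← mul_assoc, e0, mul_assoc, e_mul D]
    rw [e1, mul_assoc, e_mul D] at h
    have h2 : b + a = -a + b := D.e.injective (Subtype.ext (mul_left_cancel h))
    refine ha (DegTwoP.eq_zero_of_add_self (le_trans (by norm_num) D.five) a ?_)
    linear_combination h2

/-- The Sylow property and the centralizers of non-trivial `p`-regular elements. -/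
theorem not_dvd_centralizer (D : Data p G) (P : Sylow p G) (hDP : D.X = (P : Subgroup G))
    {x : G} (hx : ¬ p ∣ orderOf x) (hx1 : x ≠ 1) :
    ¬ p ∣ Nat.card (Subgroup.centralizer ({x} : Set G)) := by
  intro h
  have := Fintype.ofFinite G
  obtain ⟨⟨y, hy⟩, hyo⟩ := exists_prime_orderOf_dvd_card' p h
  rw [Subgroup.orderOf_mk] at hyo
  obtain ⟨Q, hQ⟩ := IsPGroup.exists_le_sylow (P := Subgroup.zpowers y)
    (IsPGroup.of_card (n := 1) (by rw [Nat.card_zpowers, hyo, pow_one]))
  obtain ⟨g, hg⟩ := exists_smul_eq G P Q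
  have hyQ : y ∈ (g • P : Sylow p G) := hg ▸ hQ (Subgroup.mem_zpowers y)
  replace hyQ : y ∈ ((g • P : Sylow p G) : Subgroup G) := hyQ
  rw [Sylow.coe_subgroup_smul] at hyQ
  obtain ⟨z, hz, hzy⟩ := hyQ
  simp only [MulDistribMulAction.toMonoidEnd_apply, MulDistribMulAction.toMonoidHom_apply,
    MulAut.smul_def, MulAut.conj_apply] at hzy
  obtain ⟨a, ha⟩ : ∃ a, (D.e a : G) = z := ⟨D.e.symm ⟨z, hDP.ge hz⟩, by simp⟩
  have ha0 : a ≠ 0 := fun e => by
    rw [e, e_zero] at ha
    rw [← ha, mul_one, mul_inv_cancel] at hzy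
    rw [← hzy, orderOf_one] at hyo
    exact (Fact.out : p.Prime).ne_one hyo.symm
  have hc : g⁻¹ * x * g * (D.e a : G) = (D.e a : G) * (g⁻¹ * x * g) := by
    have hy' : y * x = x * y := Subgroup.mem_centralizer_singleton_iff.1 hy
    calc g⁻¹ * x * g * (D.e a : G) = g⁻¹ * (x * (g * (D.e a : G) * g⁻¹)) * g := by group
      _ = g⁻¹ * (y * x) * g := by rw [ha, hzy, hy']
      _ = (D.e a : G) * (g⁻¹ * x * g) := by rw [← hzy, ha]; group
  have hm := mem_of_commute D ha0 hc
  have h1 : orderOf (g⁻¹ * x * g) = orderOf x := by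
    have h := MulEquiv.orderOf_eq (MulAut.conj g⁻¹) x
    rwa [MulAut.conj_apply, inv_inv] at h
  have h2 := (D.X.orderOf_dvd_natCard hm).trans (card_X D).dvd
  rw [h1] at h2
  rcases (Nat.dvd_prime (Fact.out : p.Prime)).1 h2 with e | e
  · exact hx1 (orderOf_eq_one_iff.1 e)
  · exact hx e.symm.dvd

/-- Restriction to the dihedral group `⟨X, t⟩`. -/
theorem exists_restrict (D : Data p G) (P : Sylow p G) (hDP : D.X = (P : Subgroup G))
    (hN : Nat.card (normalizer ((P : Subgroup G) : Set G)) = 2 * p)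
    {χ : G → ℂ} (hχ : IsCharacter G χ) {v : ℂ} (hv : ∀ a : ZMod p, a ≠ 0 → χ (D.e a : G) = v) :
    ∃ n1 n2 : ℕ, χ 1 + ((p : ℂ) - 1) * v = (p : ℂ) * ((n1 : ℂ) + n2) ∧ χ D.t = (n1 : ℂ) - n2 := by
  classical
  have := Fintype.ofFinite G
  have hp5 := D.five
  set N := Subgroup.normalizer ((P : Subgroup G) : Set G)
  have hXN : D.X ≤ N := hDP.le.trans Subgroup.le_normalizer
  have htN : D.t ∈ N := by
    refine Subgroup.mem_normalizer_fintype fun x hx => ?_
    obtain ⟨a, rfl⟩ : ∃ a, (D.e a : G) = x := ⟨D.e.symm ⟨x, hDP.ge hx⟩, by simp⟩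
    rw [inv_eq_of_mul_eq_one_left D.t_sq, D.t_inv]
    exact hDP.le (D.e (-a)).2
  let φ : ZMod p ⊕ ZMod p → N := Sum.elim (fun a => ⟨D.e a, hXN (D.e a).2⟩)
    (fun a => ⟨D.t * D.e a, mul_mem htN (hXN (D.e a).2)⟩)
  have hφ : Function.Bijective φ := by
    refine (Nat.bijective_iff_injective_and_card φ).2 ⟨?_, by rw [hN, Nat.card_sum, Nat.card_zmod]; ring⟩
    rintro (a | a) (b | b) h <;> simp only [φ, Sum.elim_inl, Sum.elim_inr, Subtype.mk.injEq] at h
    · rw [D.e.injective (Subtype.ext h)]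
    · exact absurd (by rw [show D.t = (D.e a : G) * (D.e b : G)⁻¹ from by rw [h]; group]; exact mul_mem (D.e a).2 (inv_mem (D.e b).2)) D.t_not
    · exact absurd (by rw [show D.t = (D.e b : G) * (D.e a : G)⁻¹ from by rw [← h]; group]; exact mul_mem (D.e b).2 (inv_mem (D.e a).2)) D.t_not
    · rw [D.e.injective (Subtype.ext (mul_left_cancel h))]
  have hP : Nat.card (P : Subgroup G) = p := hDP ▸ card_X D
  have hidx : ((P : Subgroup G).subgroupOf N).index = 2 := by
    have h := ((P : Subgroup G).subgroupOf N).card_mul_index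
    rw [Nat.card_congr (Subgroup.subgroupOfEquivOfLe Subgroup.le_normalizer).toEquiv, hP, hN, mul_comm 2 p] at h
    exact Nat.eq_of_mul_eq_mul_left (by omega) h
  let ε : N →* ℂ :=
    { toFun := fun g => if g ∈ (P : Subgroup G).subgroupOf N then 1 else -1
      map_one' := if_pos (one_mem _)
      map_mul' := fun a b => by
        have h := Subgroup.mul_mem_iff_of_index_two hidx (a := a) (b := b)
        by_cases ha : a ∈ (P : Subgroup G).subgroupOf N <;>
          by_cases hb : b ∈ (P : Subgroup G).subgroupOf N <;> simp [h, ha, hb] }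
  have hres := IsCharacter.restrict hχ N
  obtain ⟨n1, hn1⟩ := IsCharacter.classInner_nat hres (isCharacter_one (G := N))
  obtain ⟨n2, hn2⟩ := IsCharacter.classInner_nat hres (isCharacter_of_hom ε)
  have hsum : ∀ f : N → ℂ, ∑ g, f g = (∑ a, f (φ (Sum.inl a))) + ∑ a, f (φ (Sum.inr a)) := fun f => by
    rw [← Fintype.sum_equiv (Equiv.ofBijective φ hφ) _ _ (fun s => rfl), Fintype.sum_sum_type]; rfl
  have s1 : ∑ a : ZMod p, χ (D.e a : G) = χ 1 + ((p : ℂ) - 1) * v := by
    rw [← Finset.add_sum_erase _ _ (Finset.mem_univ (0 : ZMod p)), e_zero,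
      Finset.sum_congr rfl (fun a ha => hv a (Finset.mem_erase.1 ha).1), Finset.sum_const,
      Finset.card_erase_of_mem (Finset.mem_univ _), Finset.card_univ, ZMod.card, nsmul_eq_mul,
      Nat.cast_sub (by omega)]
    push_cast; ring
  have s2 : ∀ a : ZMod p, χ (D.t * (D.e a : G)) = χ D.t := by
    intro a
    obtain ⟨c, hc⟩ := isConj_iff.1 (conj_t D a)
    rw [← hc, IsCharacter.isClassFunction hχ]
  have e1 : ∀ a, ε (φ (Sum.inl a)) = 1 := fun a => if_pos (hDP.le (D.e a).2)
  have e2 : ∀ a, ε (φ (Sum.inr a)) = -1 := fun a => if_neg fun h => D.t_not (hDP.ge (by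
    have h' := mul_mem (Subgroup.mem_subgroupOf.1 h) (inv_mem (hDP.le (D.e a).2))
    simpa [φ] using h'))
  have hp0 : (p : ℂ) ≠ 0 := DegTwoP.pC_ne
  have hn1' : (χ 1 + ((p : ℂ) - 1) * v) + (p : ℂ) * χ D.t = (2 * p : ℕ) * (n1 : ℂ) := by
    rw [← hn1, classInner, hN, ← mul_assoc,
      mul_inv_cancel₀ (Nat.cast_ne_zero.2 (by omega)), one_mul, hsum]
    simp [φ, s1, s2]
  have hn2' : (χ 1 + ((p : ℂ) - 1) * v) - (p : ℂ) * χ D.t = (2 * p : ℕ) * (n2 : ℂ) := by
    rw [← hn2, classInner, hN, ← mul_assoc,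
      mul_inv_cancel₀ (Nat.cast_ne_zero.2 (by omega)), one_mul, hsum]
    simp only [e1, e2]
    simp [φ, s1, s2, sub_eq_add_neg]
  push_cast at hn1' hn2'
  refine ⟨n1, n2, by linear_combination (hn1' + hn2') / 2, ?_⟩
  refine mul_left_cancel₀ hp0 ?_
  linear_combination (hn1' - hn2') / 2

omit [Finite G] in
theorem four_dvd_moved [FaithfulSMul G Ω] {g : G} (hg : g * g = 1)
    (hsign : ∀ [DecidableEq Ω], Equiv.Perm.sign (toPermHom G Ω g) = 1) :
    ∃ k, Fintype.card Ω = Nat.card (fixedBy Ω g) + 4 * k := by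
  classical
  set σ := toPermHom G Ω g
  have hfix : σ.supportᶜ.card = Nat.card (fixedBy Ω g) := by
    rw [Nat.card_eq_fintype_card, ← Set.toFinset_card]
    congr 1
    ext ω
    simp [σ, mem_fixedBy]
  obtain ⟨⟨k, hk⟩, hs⟩ := DegTwoP.sign_of_free σ (n := 2) two_pos
    (by rw [← map_pow, pow_two, hg, map_one]) (by
      intro x hx l hl
      by_contra hne
      obtain ⟨k, rfl⟩ := Nat.not_even_iff_odd.1 (fun e => hne e.two_dvd)
      rw [← map_pow, pow_succ, pow_mul, pow_two, hg, one_pow, one_mul] at hl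
      exact Equiv.Perm.mem_support.1 hx hl)
  rw [hsign, hk, Nat.mul_div_cancel_left k two_pos] at hs
  have hev : Even (2 * k + k) := (neg_one_pow_eq_one_iff_even (R := ℤˣ) (by decide)).1 hs.symm
  obtain ⟨j, hj⟩ := (Nat.even_add.1 hev).1 (even_two_mul k)
  exact ⟨j, by rw [← hfix, ← Finset.card_compl_add_card σ.support]; omega⟩

end Cfsg.Agent.DegThreeP
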