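/-
Numerical data of the involution `t` in a simple group of degree `3p` with Sylow normalizer of order `2p`.

Main results: `exists_ctx`, `Ctx.one_class`, `Ctx.fix_cases`, `Ctx.cases`, `eq_one_of_commute`.
-/
import Cfsg.Agent.Lib.DegThreeP.Setup
import Cfsg.Agent.Lib.Perm.OrbitalAlgebra

set_option autoImplicit false

namespace Cfsg.Agent.DegThreeP

open Cfsg Cfsg.Agent.Char MulAction
open Cfsg.Agent.DegTwoP (Data card_X e_zero e_mul e_inv conj_t pairs_card pairs_zero)
open Cfsg.Agent.Perm.Orbital (pi)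
open scoped ComplexConjugate

/-- The standing hypotheses. -/
structure Ctx (p : ℕ) [Fact p.Prime] (G : Type*) [Group G] [Fintype G] (Ω : Type*) [Fintype Ω]
    [MulAction G Ω] where
  five : 5 ≤ p
  card_Ω : Fintype.card Ω = 3 * p
  nc : ∃ a b : G, a * b ≠ b * a
  P : Sylow p G
  hN : Nat.card (Subgroup.normalizer ((P : Subgroup G) : Set G)) = 2 * p
  D : Data p G
  hDX : D.X = (P : Subgroup G)
  C : CharData D (pi G Ω)

variable {p : ℕ} [Fact p.Prime] {G : Type*} [Group G] [Fintype G] {Ω : Type*} [Fintype Ω] [MulAction G Ω]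

theorem exists_ctx [IsSimpleGroup G] [IsPretransitive G Ω] (hp : 5 ≤ p) (hΩ : Fintype.card Ω = 3 * p)
    (hnc : ∃ a b : G, a * b ≠ b * a) (P : Sylow p G)
    (hN : Nat.card (Subgroup.normalizer ((P : Subgroup G) : Set G)) = 2 * p) :
    Nonempty (Ctx p G Ω) := by
  have hP := card_sylow hΩ P hN hp
  obtain ⟨D, hDX⟩ := exists_data hnc hp P hP hN
  have hne : Nonempty Ω := Fintype.card_pos_iff.1 (by omega)
  have hπ1 : classInner (pi G Ω) (1 : G → ℂ) = 1 := by
    show classInner (fun g => (Nat.card (fixedBy Ω g) : ℂ)) (1 : G → ℂ) = 1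
    rw [classInner_fixedPoints_one]
    have : Subsingleton (orbitRel.Quotient G Ω) := (pretransitive_iff_subsingleton_quotient G Ω).1 inferInstance
    have : Nonempty (orbitRel.Quotient G Ω) := hne.map (Quotient.mk _)
    rw [Nat.card_unique, Nat.cast_one]
  have hπd : pi G Ω 1 = 3 * (p : ℂ) := by
    simp only [pi]
    rw [fixedBy_one_eq_univ, Nat.card_univ, Nat.card_eq_fintype_card, hΩ]
    push_cast; ring
  have hπx : ∀ a : ZMod p, a ≠ 0 → pi G Ω (D.e a : G) = 0 := by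
    intro a ha
    have hne1 : (D.e a : G) ≠ 1 := fun h => ha (D.e.injective (Subtype.ext (h.trans (e_zero D).symm)))
    have : IsEmpty (fixedBy Ω (D.e a : G)) :=
      ⟨fun ω => free hΩ P hP (hDX.le (D.e a).2) hne1 ω.1 ω.2⟩
    simp only [pi]
    rw [Nat.card_of_isEmpty, Nat.cast_zero]
  obtain ⟨C⟩ := exists_charData D (pi G Ω) Perm.Orbital.isCharacter_pi hπ1 hπd hπx
    (linear_eq_one hnc)
  exact ⟨⟨hp, hΩ, hnc, P, hN, D, hDX, C⟩⟩

omit [Fintype G] [Fintype Ω] in
/-- An element of prime order `r` commuting with an involution with few fixed points is trivial. -/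
theorem eq_one_of_commute [Finite Ω] [FaithfulSMul G Ω] {t y : G} (ht : t * t = 1) (hc : Commute y t)
    {r : ℕ} (hr : r.Prime) (hr2 : r ≠ 2) (hy : y ^ r = 1) (h1 : Nat.card (fixedBy Ω t) < r)
    (h2 : Nat.card Ω < Nat.card (fixedBy Ω t) + 2 * r) : y = 1 := by
  classical
  have := Fintype.ofFinite Ω
  set σ := toPermHom G Ω y
  have hσ : σ ^ r = 1 := by rw [← map_pow, hy, map_one]
  have hmapsto : ∀ ω : Ω, ω ∈ fixedBy Ω t → y • ω ∈ fixedBy Ω t := by
    intro ω hω
    rw [mem_fixedBy, ← mul_smul, ← hc.eq, mul_smul, hω]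
  -- `y` fixes every fixed point of `t`
  have hfix : ∀ ω : Ω, t • ω = ω → y • ω = ω := by
    intro ω hω
    let e : Equiv.Perm (fixedBy Ω t) :=
      Equiv.ofBijective (fun z => ⟨y • z.1, hmapsto z.1 z.2⟩)
        (Finite.injective_iff_bijective.1 fun a b h => Subtype.ext (smul_left_cancel y (congrArg Subtype.val h)))
    have hpow : ∀ n : ℕ, ∀ z, ((e ^ n) z).1 = y ^ n • z.1 := by
      intro n
      induction n with
      | zero => intro z; simp
      | succ n ih =>
        intro z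
        rw [pow_succ', Equiv.Perm.mul_apply, pow_succ', mul_smul, ← ih]
        rfl
    have he : e ^ r = 1 := Equiv.ext fun z => Subtype.ext (by rw [hpow, hy, one_smul]; rfl)
    have he1 : e = 1 := by
      rcases (Nat.dvd_prime hr).1 (orderOf_dvd_of_pow_eq_one he) with h | h
      · exact orderOf_eq_one_iff.1 h
      · exfalso
        have h3 : r ∣ (Nat.card (fixedBy Ω t)).factorial := by
          rw [← h, ← Nat.card_perm]; exact orderOf_dvd_natCard e
        have := hr.dvd_factorial.1 h3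
        omega
    have := congrArg (fun e : Equiv.Perm (fixedBy Ω t) => (e ⟨ω, hω⟩).1) he1
    simpa [e] using this
  obtain ⟨⟨k, hk⟩, -⟩ := DegTwoP.sign_of_free σ hr.pos hσ (by
    intro x hx l hl
    have hx' : y • x ≠ x := Equiv.Perm.mem_support.1 hx
    rw [← map_pow] at hl
    have hl' : y ^ l • x = x := hl
    by_contra hne
    refine hx' ?_
    have hcop : Nat.Coprime r l := hr.coprime_iff_not_dvd.2 hne
    have hy' : y ^ r • x = x := by rw [hy, one_smul]
    have := zpow_mem (mem_stabilizer_iff.2 hl' : y ^ l ∈ stabilizer G x) (Nat.gcdB r l)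
    have h2' := zpow_mem (mem_stabilizer_iff.2 hy' : y ^ r ∈ stabilizer G x) (Nat.gcdA r l)
    have h3 := mul_mem h2' this
    rw [← zpow_natCast, ← zpow_natCast, ← zpow_mul, ← zpow_mul, ← zpow_add, ← Nat.gcd_eq_gcd_ab,
      hcop.gcd_eq_one, Nat.cast_one, zpow_one] at h3
    exact h3)
  have hdisj : ∀ x ∈ σ.support, t • x ≠ x := fun x hx h => Equiv.Perm.mem_support.1 hx (hfix x h)
  have hle : σ.support.card + Nat.card (fixedBy Ω t) ≤ Nat.card Ω := by
    rw [Nat.card_eq_fintype_card (α := fixedBy Ω t), ← Set.toFinset_card, ← Finset.card_union_of_disjoint,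
      Nat.card_eq_fintype_card]
    · exact Finset.card_le_univ _
    · exact Finset.disjoint_left.2 fun x hx hx' => hdisj x hx (mem_fixedBy.1 ((Set.mem_toFinset (s := fixedBy Ω t)).1 hx'))
  have hk1 : k ≤ 1 := by
    by_contra h
    have : r * 2 ≤ r * k := Nat.mul_le_mul_left r (by omega)
    omega
  have heven : Even σ.support.card := by
    rw [← ZMod.natCast_eq_zero_iff_even, Finset.cast_card]
    refine Finset.sum_involution (fun x _ => t • x) (fun x _ => by decide) (fun x hx _ => hdisj x hx)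
      (fun x hx => Equiv.Perm.mem_support.2 fun h => Equiv.Perm.mem_support.1 hx ?_)
      (fun x _ => by rw [← mul_smul, ht, one_smul])
    show y • x = x
    have h' : y • t • x = t • x := h
    rw [← mul_smul, hc.eq, mul_smul] at h'
    exact smul_left_cancel t h'
  have hk0 : σ.support.card = 0 := by
    interval_cases k
    · omega
    · exfalso
      rw [hk, Nat.mul_one] at heven
      exact hr2 (hr.eq_two_or_odd'.resolve_right (Nat.not_odd_iff_even.2 heven))
  have hσ1 : σ = 1 := Equiv.Perm.support_eq_empty_iff.1 (Finset.card_eq_zero.1 hk0)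
  refine FaithfulSMul.eq_of_smul_eq_smul (α := Ω) fun ω => ?_
  rw [one_smul]
  exact congrArg (fun e : Equiv.Perm Ω => e ω) hσ1

namespace Ctx

variable (X : Ctx p G Ω)

/-- The number of fixed points of `t`. -/
noncomputable def f : ℕ := Nat.card (fixedBy Ω X.D.t)

/-- The order of the centralizer of `t`. -/
noncomputable def c : ℕ := Nat.card (Subgroup.centralizer ({X.D.t} : Set G))

theorem t_ne_one : X.D.t ≠ 1 := fun h => X.D.t_not (h ▸ X.D.X.one_mem)

theorem card_P : Nat.card (X.P : Subgroup G) = p := X.hDX ▸ card_X X.D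

include X in
theorem regular_of_sq {x : G} (hx : x * x = 1) : ¬ p ∣ orderOf x := fun h => by
  have := Nat.le_of_dvd two_pos (h.trans (orderOf_dvd_of_pow_eq_one (by rw [pow_two, hx])))
  have := X.five
  omega

theorem regular_t : ¬ p ∣ orderOf X.D.t := X.regular_of_sq X.D.t_sq

theorem c_pos : 0 < X.c := Nat.card_pos


variable [IsSimpleGroup G]

omit [IsSimpleGroup G] in
theorem card_conj_pos (x : G) : (Nat.card {z : G // IsConj x z} : ℂ) ≠ 0 := by
  have : Nonempty {z : G // IsConj x z} := ⟨⟨x, IsConj.refl x⟩⟩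
  exact Nat.cast_ne_zero.2 Nat.card_pos.ne'

omit [IsSimpleGroup G] in
theorem e_add_sigma_ne : ((X.C.e : ℂ) + X.C.σ) ≠ 0 := fun h => by
  have : ((X.C.e : ℤ) + X.C.σ : ℤ) = 0 := by exact_mod_cast h
  have := X.C.two_le
  rcases X.C.sigma with h' | h' <;> omega

/-- `|G| = k c`. -/
theorem card_eq : Nat.card {z : G // IsConj X.D.t z} * X.c = Nat.card G :=
  card_conjugates_mul_card_centralizer X.D.t

include X in
/-- All involutions are conjugate. -/
theorem one_class {x : G} (hx : x * x = 1) (hx1 : x ≠ 1) : IsConj X.D.t x := by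
  by_contra hcon
  have h := X.C.pairs x x (X.regular_of_sq hx) (X.regular_of_sq hx)
  rw [pairs_zero X.D hx hx1 hcon, Nat.cast_zero] at h
  have hG : (Nat.card G : ℂ) ≠ 0 := Nat.cast_ne_zero.2 Nat.card_pos.ne'
  have he : (X.C.e : ℂ) ≠ 0 := Nat.cast_ne_zero.2 (by have := X.C.two_le; omega)
  have hS := (mul_eq_zero.1 h.symm).resolve_left
    (div_ne_zero (mul_ne_zero (card_conj_pos x) (card_conj_pos x)) hG)
  have hsq := (div_eq_zero_iff.1 hS).resolve_right (mul_ne_zero he X.e_add_sigma_ne)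
  have hE : (X.C.E : G → ℂ) x = (X.C.E : G → ℂ) 1 := by
    rw [X.C.deg_E]
    rcases mul_self_eq_zero.1 hsq with h0
    linear_combination -h0
  obtain ⟨n, ρ, -, hρ⟩ := X.C.E.2
  have hdim : (X.C.E : G → ℂ) 1 = (Module.finrank ℂ (Fin n → ℂ) : ℂ) := by
    rw [← hρ, Representation.char_one]
  have hxk : x ∈ MonoidHom.ker ρ :=
    MonoidHom.mem_ker.2 ((character_eq_finrank_iff ρ x).1 (by rw [hρ, hE, hdim]))
  rcases (MonoidHom.normal_ker ρ).eq_bot_or_eq_top with h | h
  · rw [h, Subgroup.mem_bot] at hxk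
    exact hx1 hxk
  · have h1 : ρ (X.D.e 1 : G) = 1 :=
      MonoidHom.mem_ker.1 (h ▸ Subgroup.mem_top _ : (X.D.e 1 : G) ∈ MonoidHom.ker ρ)
    have h2 := (character_eq_finrank_iff ρ (X.D.e 1 : G)).2 h1
    rw [hρ, ← hdim, X.C.E_e 1 one_ne_zero, X.C.deg_E] at h2
    have : (X.C.σ : ℤ) = (X.C.e : ℤ) := by exact_mod_cast h2
    have := X.C.two_le
    rcases X.C.sigma with h' | h' <;> omega

include X in
theorem card_fixedBy_involution {x : G} (hx : x * x = 1) (hx1 : x ≠ 1) :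
    Nat.card (fixedBy Ω x) = X.f := by
  obtain ⟨g, hg⟩ := isConj_iff.1 (X.one_class hx hx1)
  have := (IsCharacter.isClassFunction (Perm.Orbital.isCharacter_pi (G := G) (Ω := Ω))) X.D.t g
  rw [hg] at this
  simp only [pi, Nat.cast_inj] at this
  exact this

include X in
theorem card_centralizer_involution {x : G} (hx : x * x = 1) (hx1 : x ≠ 1) :
    Nat.card (Subgroup.centralizer ({x} : Set G)) = X.c := by
  have hxt := X.one_class hx hx1
  have e : Nat.card {z : G // IsConj x z} = Nat.card {z : G // IsConj X.D.t z} :=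
    Nat.card_congr (Equiv.subtypeEquivRight fun z => ⟨fun h => hxt.trans h, fun h => hxt.symm.trans h⟩)
  have h : Nat.card {z : G // IsConj x z} * Nat.card (Subgroup.centralizer ({x} : Set G)) = Nat.card G :=
    card_conjugates_mul_card_centralizer x
  rw [e, ← X.card_eq] at h
  have : Nonempty {z : G // IsConj X.D.t z} := ⟨⟨_, IsConj.refl _⟩⟩
  exact Nat.eq_of_mul_eq_mul_left Nat.card_pos h

theorem not_dvd_c : ¬ p ∣ X.c :=
  not_dvd_centralizer X.D X.P X.hDX X.regular_t X.t_ne_one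

theorem pi_e [IsPretransitive G Ω] {a : ZMod p} (ha : a ≠ 0) : pi G Ω (X.D.e a : G) = 0 := by
  have hne1 : (X.D.e a : G) ≠ 1 := fun h => ha (X.D.e.injective (Subtype.ext (h.trans (e_zero X.D).symm)))
  have : IsEmpty (fixedBy Ω (X.D.e a : G)) :=
    ⟨fun ω => free X.card_Ω X.P X.card_P (X.hDX.le (X.D.e a).2) hne1 ω.1 ω.2⟩
  simp only [pi]
  rw [Nat.card_of_isEmpty, Nat.cast_zero]

theorem fix_cases [IsPretransitive G Ω] [FaithfulSMul G Ω] : (X.f = 1 ∧ p % 4 = 3) ∨ (X.f = 3 ∧ p % 4 = 1) := by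
  classical
  obtain ⟨n1, n2, h1, h2⟩ := exists_restrict X.D X.P X.hDX X.hN
    (χ := pi G Ω) Perm.Orbital.isCharacter_pi (v := 0) (fun a ha => X.pi_e ha)
  have hπ1 : pi G Ω 1 = 3 * (p : ℂ) := by
    simp only [pi]
    rw [fixedBy_one_eq_univ, Nat.card_univ, Nat.card_eq_fintype_card, X.card_Ω]
    push_cast; ring
  rw [hπ1, mul_zero, add_zero, mul_comm (3 : ℂ)] at h1
  have h3 : 3 = n1 + n2 := by exact_mod_cast mul_left_cancel₀ DegTwoP.pC_ne h1
  have h4 : (X.f : ℤ) = (n1 : ℤ) - n2 := by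
    change (X.f : ℂ) = _ at h2
    exact_mod_cast h2
  obtain ⟨k, hk⟩ := four_dvd_moved (Ω := Ω) X.D.t_sq (DegTwoP.sign_eq_one X.nc _)
  rw [X.card_Ω, show Nat.card (fixedBy Ω X.D.t) = X.f from rfl] at hk
  omega

include X in
theorem exists_sylow_count : ∃ k : ℕ, Nat.card G = 2 * p * (p * k + 1) := by
  have h : Nat.card (Sylow p G) = (Subgroup.normalizer ((X.P : Subgroup G) : Set G)).index :=
    Sylow.card_eq_index_normalizer X.P
  have h1 := card_sylow_modEq_one p G
  have h2 := (Subgroup.normalizer ((X.P : Subgroup G) : Set G)).card_mul_index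
  rw [X.hN, ← h] at h2
  refine ⟨Nat.card (Sylow p G) / p, ?_⟩
  rw [← h2]
  congr 1
  have h3 : Nat.card (Sylow p G) % p = 1 := by
    rw [h1]; exact Nat.mod_eq_of_lt (Fact.out : p.Prime).one_lt
  have := Nat.div_add_mod (Nat.card (Sylow p G)) p
  omega

theorem cases [IsPretransitive G Ω] [FaithfulSMul G Ω] :
    ∃ s : ℤ, (X.C.E : G → ℂ) X.D.t = (s : ℂ) ∧
      (Nat.card G : ℤ) * ((X.C.e : ℤ) - s) ^ 2 = p * (X.c : ℤ) ^ 2 * X.C.e * (X.C.e + X.C.σ) ∧
      ((X.C.σ = 1 ∧ p = 5 ∧ X.C.e = 6 ∧ s = 0 ∧ X.f = 3) ∨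
        (X.C.σ = -1 ∧ X.C.e + 1 = p ∧ s = 0) ∨
        (X.C.σ = -1 ∧ X.C.e + 1 = 3 * p ∧ (∀ g, pi G Ω g = 1 + (X.C.E : G → ℂ) g) ∧
          ((s = 0 ∧ X.f = 1) ∨ (s = 2 ∧ X.f = 3))) ∨
        (X.C.σ = -1 ∧ X.C.e + 1 = 2 * p ∧ ∃ θ : IrrCharacter G, θ ∉ X.C.F ∧ θ ≠ X.C.E ∧
          (θ : G → ℂ) ≠ 1 ∧ (θ : G → ℂ) 1 = (p : ℂ) ∧
          (∀ g, pi G Ω g = 1 + (X.C.E : G → ℂ) g + (θ : G → ℂ) g) ∧
          ((X.f = 1 ∧ (s = 1 ∨ s = -1)) ∨ (X.f = 3 ∧ s = 1 ∧ (θ : G → ℂ) X.D.t = 1)))) := by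
  classical
  obtain ⟨n1, n2, h1, h2⟩ := exists_restrict X.D X.P X.hDX X.hN (IsIrrCharacter.isCharacter X.C.E.2) X.C.E_e
  rw [X.C.deg_E] at h1
  have h1' : (X.C.e : ℤ) + ((p : ℤ) - 1) * X.C.σ = (p : ℤ) * ((n1 : ℤ) + n2) := by exact_mod_cast h1
  have hf : pi G Ω X.D.t = (X.f : ℂ) := rfl
  refine ⟨(n1 : ℤ) - n2, by rw [h2]; push_cast; ring, ?_, ?_⟩
  · have h := X.C.pairs X.D.t X.D.t X.regular_t X.regular_t
    rw [pairs_card X.D X.t_ne_one, h2] at h
    have hG : (Nat.card G : ℂ) ≠ 0 := Nat.cast_ne_zero.2 Nat.card_pos.ne'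
    have he : (X.C.e : ℂ) ≠ 0 := Nat.cast_ne_zero.2 (by have := X.C.two_le; omega)
    have hes := X.e_add_sigma_ne
    have hkc : (Nat.card {z : G // IsConj X.D.t z} : ℂ) * (X.c : ℂ) = (Nat.card G : ℂ) := by
      exact_mod_cast X.card_eq
    have hk0 := card_conj_pos X.D.t
    generalize (Nat.card {z : G // IsConj X.D.t z} : ℂ) = k at h hkc hk0
    have hgoal : (Nat.card G : ℂ) * ((X.C.e : ℂ) - ((n1 : ℂ) - n2)) ^ 2 =
        (p : ℂ) * (X.c : ℂ) ^ 2 * X.C.e * ((X.C.e : ℂ) + X.C.σ) := by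
      field_simp at h
      rw [← hkc] at h ⊢
      refine mul_left_cancel₀ hk0 ?_
      linear_combination (-(X.c : ℂ)) * h
    have : (((Nat.card G : ℤ) * ((X.C.e : ℤ) - ((n1 : ℤ) - n2)) ^ 2 : ℤ) : ℂ) =
        (((p : ℤ) * (X.c : ℤ) ^ 2 * X.C.e * (X.C.e + X.C.σ) : ℤ) : ℂ) := by push_cast; exact hgoal
    exact_mod_cast this
  · rcases X.C.cases with ⟨hσ, hp, he, hπ⟩ | ⟨hσ, he⟩ | ⟨hσ, he, θ, hθF, hθE, hθ1, hθd, hπ⟩ | ⟨hσ, he, hπ⟩
    · left
      have h := hπ X.D.t X.regular_t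
      rw [hf, h2] at h
      have h' : (X.f : ℤ) = 3 + 2 * ((n1 : ℤ) - n2) := by exact_mod_cast h
      subst hp
      rw [hσ, he] at h1'
      have := X.fix_cases
      refine ⟨hσ, rfl, he, ?_, ?_⟩ <;> omega
    · right; left
      refine ⟨hσ, he, ?_⟩
      have hp0 : (0 : ℤ) < p := by have := X.five; omega
      rw [hσ] at h1'
      have : (p : ℤ) * ((n1 : ℤ) + n2) = 0 := by rw [← h1']; omega
      rcases mul_eq_zero.1 this with h | h <;> omega
    · right; right; right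
      have hθe : ∀ a : ZMod p, a ≠ 0 → (θ : G → ℂ) (X.D.e a : G) = 0 := fun a ha => by
        have h := hπ (X.D.e a : G)
        rw [X.pi_e ha, X.C.E_e a ha, hσ] at h
        push_cast at h
        linear_combination -h
      obtain ⟨m1, m2, g1, g2⟩ := exists_restrict X.D X.P X.hDX X.hN (IsIrrCharacter.isCharacter θ.2) hθe
      rw [hθd, mul_zero, add_zero] at g1
      have g1' : (m1 : ℤ) + m2 = 1 := by
        have : (p : ℂ) * 1 = (p : ℂ) * ((m1 : ℂ) + m2) := by rw [mul_one]; exact g1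
        exact_mod_cast (mul_left_cancel₀ DegTwoP.pC_ne this).symm
      rw [hσ] at h1'
      have h12 : (n1 : ℤ) + n2 = 1 := by
        have hp0 : (p : ℤ) ≠ 0 := by have := X.five; omega
        refine mul_left_cancel₀ hp0 ?_
        rw [← h1', mul_one]; omega
      have h := hπ X.D.t
      rw [hf, h2, g2] at h
      have h' : (X.f : ℤ) = 1 + ((n1 : ℤ) - n2) + ((m1 : ℤ) - m2) := by exact_mod_cast h
      refine ⟨hσ, he, θ, hθF, hθE, hθ1, hθd, hπ, ?_⟩
      rcases X.fix_cases with ⟨hf', -⟩ | ⟨hf', -⟩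
      · exact Or.inl ⟨hf', by omega⟩
      · refine Or.inr ⟨hf', by omega, ?_⟩
        rw [g2, show m1 = 1 by omega, show m2 = 0 by omega]
        norm_num
    · right; right; left
      rw [hσ] at h1'
      have h12 : (n1 : ℤ) + n2 = 2 := by
        have hp0 : (p : ℤ) ≠ 0 := by have := X.five; omega
        refine mul_left_cancel₀ hp0 ?_
        rw [← h1']; omega
      have h := hπ X.D.t
      rw [hf, h2] at h
      have h' : (X.f : ℤ) = 1 + ((n1 : ℤ) - n2) := by exact_mod_cast h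
      refine ⟨hσ, he, hπ, ?_⟩
      rcases X.fix_cases with ⟨hf', -⟩ | ⟨hf', -⟩
      · exact Or.inl ⟨by omega, hf'⟩
      · exact Or.inr ⟨by omega, hf'⟩

end Ctx

end Cfsg.Agent.DegThreeP
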