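/-
The 2-part of the centralizer of the involution, and small arithmetic lemmas.
-/
import Cfsg.Agent.Lib.DegThreeP.Basic
import Cfsg.Agent.Lib.SmallOrders.Basic

set_option autoImplicit false

namespace Cfsg.Agent.DegThreeP

open MulAction

theorem v2_mul {a b : ℕ} (ha : a ≠ 0) (hb : b ≠ 0) :
    (a * b).factorization 2 = a.factorization 2 + b.factorization 2 := by
  rw [Nat.factorization_mul ha hb, Finsupp.add_apply]

theorem v2_sq {a : ℕ} (ha : a ≠ 0) : (a ^ 2).factorization 2 = 2 * a.factorization 2 := by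
  rw [pow_two, v2_mul ha ha, two_mul]

theorem v2_odd {a : ℕ} (h : a % 2 = 1) : a.factorization 2 = 0 :=
  Nat.factorization_eq_zero_of_not_dvd (by omega)

theorem v2_two_pow (k : ℕ) : (2 ^ k).factorization 2 = k := by
  simp [Nat.prime_two.factorization_pow]

theorem v2_two : (2 : ℕ).factorization 2 = 1 := by simp [Nat.prime_two.factorization_self]

theorem v2_four : (4 : ℕ).factorization 2 = 2 := v2_two_pow 2

variable {G : Type*} [Group G] [Finite G]

/-- A simple non-abelian group of even order has order divisible by four. -/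
theorem four_dvd_card [IsSimpleGroup G] (hG : ¬ IsMulCommutative G) (h2 : 2 ∣ Nat.card G) :
    4 ∣ Nat.card G := by
  have := Fact.mk Nat.prime_two
  by_contra h4
  obtain ⟨P⟩ := (inferInstance : Nonempty (Sylow 2 G))
  obtain ⟨m, hm⟩ := h2
  have hPc := SmallOrders.card_sylow_subgroup (e := 1) (m := m) (by rw [hm, pow_one]) (by omega) P
  rw [pow_one] at hPc
  obtain ⟨K, hK, hKc⟩ := DegTwoP.exists_odd_subgroup P (isCyclic_of_prime_card hPc)
  have hidx : K.index = 2 := by
    have h := K.card_mul_index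
    rw [← hKc, hPc] at h
    exact Nat.eq_of_mul_eq_mul_left Nat.card_pos h
  have hKn : K.Normal := Subgroup.normal_of_index_eq_two hidx
  rcases hKn.eq_bot_or_eq_top with h | h
  · rw [h, Subgroup.card_bot, hPc, one_mul] at hKc
    exact SmallOrders.not_isPGroup hG 2 (IsPGroup.of_card (n := 1) (by rw [← hKc, pow_one]))
  · rw [h, Subgroup.index_top] at hidx
    exact absurd hidx (by norm_num)

/-- A faithful action gives a bound on the order. -/
theorem card_dvd_factorial {Ω : Type*} [Fintype Ω] [MulAction G Ω] [FaithfulSMul G Ω] :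
    Nat.card G ∣ (Fintype.card Ω).factorial := by
  have hinj : Function.Injective (toPermHom G Ω) := fun a b h =>
    FaithfulSMul.eq_of_smul_eq_smul fun ω => congrArg (fun e : Equiv.Perm Ω => e ω) h
  refine (Subgroup.card_dvd_of_injective _ hinj).trans ?_
  rw [Nat.card_perm, Nat.card_eq_fintype_card]

namespace Ctx

variable {p : ℕ} [Fact p.Prime] {G : Type*} [Group G] [Fintype G] {Ω : Type*} [Fintype Ω] [MulAction G Ω]
variable (X : Ctx p G Ω)

include X in
theorem not_comm : ¬ IsMulCommutative G := fun h => by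
  obtain ⟨a, b, hab⟩ := X.nc
  exact hab (h.is_comm.comm a b)

include X in
theorem four_dvd [IsSimpleGroup G] : 4 ∣ Nat.card G := by
  refine four_dvd_card X.not_comm ?_
  rw [← orderOf_eq_prime (x := X.D.t) (p := 2) (by rw [pow_two]; exact X.D.t_sq) X.t_ne_one]
  exact orderOf_dvd_natCard _

theorem c_dvd : X.c ∣ Nat.card G := Subgroup.card_subgroup_dvd_card _

/-- The centralizer of an involution contains a Sylow 2-subgroup. -/
theorem v2_c [IsSimpleGroup G] : X.c.factorization 2 = (Nat.card G).factorization 2 := by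
  have := Fact.mk Nat.prime_two
  obtain ⟨S⟩ := (inferInstance : Nonempty (Sylow 2 G))
  have hS := S.card_eq_multiplicity
  refine le_antisymm (((Nat.factorization_le_iff_dvd X.c_pos.ne' Nat.card_pos.ne').2 X.c_dvd) 2) ?_
  set v := (Nat.card G).factorization 2 with hv
  rcases Nat.eq_zero_or_pos v with h0 | hpos
  · rw [h0]; exact Nat.zero_le _
  have : Nontrivial (S : Subgroup G) := by
    rw [← Finite.one_lt_card_iff_nontrivial, hS]
    exact Nat.one_lt_two_pow hpos.ne'
  have := S.2.center_nontrivial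
  obtain ⟨k, hk1, hk⟩ : ∃ k, k ≠ 0 ∧ Nat.card (Subgroup.center (S : Subgroup G)) = 2 ^ k := by
    obtain ⟨k, hk⟩ := (S.2.to_subgroup (Subgroup.center (S : Subgroup G))).exists_card_eq
    exact ⟨k, fun e => absurd (Finite.one_lt_card (α := Subgroup.center (S : Subgroup G)))
      (by rw [hk, e]; norm_num), hk⟩
  obtain ⟨⟨⟨z, hzS⟩, hzc⟩, hzo⟩ := exists_prime_orderOf_dvd_card' (G := Subgroup.center (S : Subgroup G)) 2
    (hk ▸ dvd_pow_self 2 hk1)
  rw [← Subgroup.orderOf_coe, ← Subgroup.orderOf_coe] at hzo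
  replace hzo : orderOf z = 2 := hzo
  have hz2 : z * z = 1 := by rw [← pow_two, ← hzo, pow_orderOf_eq_one]
  have hz1 : z ≠ 1 := fun e => absurd hzo (by rw [orderOf_eq_one_iff.2 e]; norm_num)
  have hle : (S : Subgroup G) ≤ Subgroup.centralizer ({z} : Set G) := fun s hs =>
    Subgroup.mem_centralizer_singleton_iff.2
      (congrArg Subtype.val (Subgroup.mem_center_iff.1 hzc ⟨s, hs⟩))
  have hd := Subgroup.card_dvd_of_le hle
  rw [hS, X.card_centralizer_involution hz2 hz1] at hd
  exact (Nat.prime_two.pow_dvd_iff_le_factorization X.c_pos.ne').1 hd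

end Ctx

end Cfsg.Agent.DegThreeP
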