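/-
The subdegrees of a group of rank three and degree `3p` with constituents of degrees `2p - 1` and `p`.

Main results: `rank_three`, `subdegree`.
-/
import Cfsg.Agent.Lib.Perm.Subdegrees

set_option autoImplicit false

namespace Cfsg.Agent.DegThreeP

open Cfsg Cfsg.Agent.Char Module MulAction Cfsg.Agent.Perm.Orbital
open scoped ComplexConjugate

variable {G : Type*} [Group G] [Fintype G] {Ω : Type*} [Fintype Ω] [MulAction G Ω]

/-- The trace of a group element on an isotypic component. -/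
theorem trace_idem_mul_permRep [DecidableEq Ω] {χ : G → ℂ} (hχ : IsIrrCharacter G χ) (g : G) :
    LinearMap.trace ℂ (Ω → ℂ) (idem χ * Cfsg.permRep ℂ G Ω g) = classInner (pi G Ω) χ * χ g := by
  classical
  have := Fintype.ofFinite (IrrCharacter G)
  have hπc := Char.IsCharacter.isClassFunction (isCharacter_pi (G := G) (Ω := Ω))
  have h1 : LinearMap.trace ℂ (Ω → ℂ) (idem χ * Cfsg.permRep ℂ G Ω g) = ∑ h, coef χ h * pi G Ω (h * g) := by
    rw [idem, Char.groupSumOp, Finset.sum_mul, map_sum]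
    refine Finset.sum_congr rfl fun h _ => ?_
    rw [smul_mul_assoc, ← map_mul, map_smul, smul_eq_mul, pi_eq_character]
    rfl
  have hψ : ∀ ψ : IrrCharacter G, ∑ h, coef χ h * (ψ : G → ℂ) (h * g) =
      if χ = (ψ : G → ℂ) then χ g else 0 := by
    intro ψ
    have hG : (Nat.card G : ℂ) ≠ 0 := Nat.cast_ne_zero.2 Nat.card_pos.ne'
    have hd := Char.IsIrrCharacter.apply_one_ne_zero ψ.2
    have h := congrFun (conv_coef hχ ψ.2) g⁻¹
    have e : conv (coef χ) (coef (ψ : G → ℂ)) g⁻¹ =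
        (ψ : G → ℂ) 1 / (Nat.card G : ℂ) * ∑ h, coef χ h * (ψ : G → ℂ) (h * g) := by
      rw [conv, Finset.mul_sum]
      refine Finset.sum_congr rfl fun h _ => ?_
      have hc : conj ((ψ : G → ℂ) (h⁻¹ * g⁻¹)) = (ψ : G → ℂ) (h * g) := by
        rw [← Char.IsCharacter.apply_inv (Char.IsIrrCharacter.isCharacter ψ.2), mul_inv_rev, inv_inv, inv_inv,
          ← Char.IsIrrCharacter.isClassFunction ψ.2 (g * h) h]
        congr 1; group
      show coef χ h * coef (ψ : G → ℂ) (h⁻¹ * g⁻¹) = _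
      rw [show coef (ψ : G → ℂ) (h⁻¹ * g⁻¹) =
        (ψ : G → ℂ) 1 / (Nat.card G : ℂ) * conj ((ψ : G → ℂ) (h⁻¹ * g⁻¹)) from rfl, hc]
      ring
    rw [e] at h
    refine mul_left_cancel₀ (div_ne_zero hd hG) (h.trans ?_)
    split_ifs with hc
    · rw [← hc]
      show χ 1 / (Nat.card G : ℂ) * conj (χ g⁻¹) = _
      rw [Char.IsCharacter.apply_inv (Char.IsIrrCharacter.isCharacter hχ), Complex.conj_conj]
    · rw [mul_zero]; rfl
  rw [h1]
  simp only [fun h => congrFun (Char.classFunction_eq_sum hπc) (h * g), Finset.sum_apply, Pi.smul_apply,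
    smul_eq_mul, Finset.mul_sum]
  rw [Finset.sum_comm, Finset.sum_eq_single (⟨χ, hχ⟩ : IrrCharacter G)]
  · rw [Finset.sum_congr rfl (g := fun h => classInner (pi G Ω) χ * (coef χ h * χ (h * g))) (fun h _ => by ring),
      ← Finset.mul_sum, hψ ⟨χ, hχ⟩, if_pos rfl]
  · intro ψ _ hne
    rw [Finset.sum_congr rfl (g := fun h => classInner (pi G Ω) (ψ : G → ℂ) * (coef χ h * (ψ : G → ℂ) (h * g)))
      (fun h _ => by ring), ← Finset.mul_sum, hψ ψ, if_neg (fun e => hne (Subtype.ext e.symm)), mul_zero]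
  · exact fun h => absurd (Finset.mem_univ _) h

variable [IsPretransitive G Ω] {p : ℕ} (hΩ : Fintype.card Ω = 3 * p) {E θ : IrrCharacter G}
  (hE1 : (E : G → ℂ) ≠ 1) (hθ1 : (θ : G → ℂ) ≠ 1) (hne : θ ≠ E)
  (hπ : ∀ g, pi G Ω g = 1 + (E : G → ℂ) g + (θ : G → ℂ) g)

include hE1 hθ1 hne hπ in
omit [IsPretransitive G Ω] in
theorem inner_pi_irr (χ : IrrCharacter G) : classInner (pi G Ω) (χ : G → ℂ) =
    (if (1 : G → ℂ) = χ then 1 else 0) + (if (E : G → ℂ) = χ then 1 else 0) +
      (if (θ : G → ℂ) = χ then 1 else 0) := by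
  rw [show pi G Ω = ((1 : G → ℂ) + (E : G → ℂ)) + (θ : G → ℂ) from funext hπ, classInner_add_left,
    classInner_add_left, classInner_irr isIrrCharacter_one χ.2, classInner_irr E.2 χ.2, classInner_irr θ.2 χ.2]

include hE1 hθ1 hne hπ in
/-- The rank is three. -/
theorem rank_three (a : Ω) : Nat.card (orbitRel.Quotient (stabilizer G a) Ω) = 3 := by
  classical
  have hne' : (E : G → ℂ) ≠ (θ : G → ℂ) := fun e => hne (Subtype.ext e.symm)
  have h : (Nat.card (orbitRel.Quotient (stabilizer G a) Ω) : ℂ) = 3 := by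
    rw [card_suborbits a, card_orbitals_eq_classInner,
      show pi G Ω = ((1 : G → ℂ) + (E : G → ℂ)) + (θ : G → ℂ) from funext hπ]
    simp only [classInner_add_left, classInner_add_right, classInner_irr isIrrCharacter_one isIrrCharacter_one,
      classInner_irr isIrrCharacter_one E.2, classInner_irr E.2 isIrrCharacter_one,
      classInner_irr isIrrCharacter_one θ.2, classInner_irr θ.2 isIrrCharacter_one,
      classInner_irr E.2 θ.2, classInner_irr θ.2 E.2, classInner_irr θ.2 θ.2, classInner_irr E.2 E.2]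
    simp [hE1, Ne.symm hE1, hθ1, Ne.symm hθ1, hne', Ne.symm hne']
    norm_num
  exact_mod_cast h

include hE1 hθ1 hne hπ in
theorem orbit_cases {a b c : Ω} (hb : b ≠ a) (hc : c ≠ a) (hbc : c ∉ orbit (stabilizer G a) b) (y : Ω) :
    y = a ∨ y ∈ orbit (stabilizer G a) b ∨ y ∈ orbit (stabilizer G a) c := by
  classical
  have := Fintype.ofFinite (orbitRel.Quotient (stabilizer G a) Ω)
  have hq : Fintype.card (orbitRel.Quotient (stabilizer G a) Ω) = 3 := by
    rw [← Nat.card_eq_fintype_card, rank_three hE1 hθ1 hne hπ a]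
  have hne1 : ∀ z : Ω, z ≠ a → (⟦a⟧ : orbitRel.Quotient (stabilizer G a) Ω) ≠ ⟦z⟧ := fun z hz e => by
    obtain ⟨g, hg⟩ := orbitRel_apply.1 (Quotient.exact e.symm)
    exact hz (hg.symm.trans g.2)
  have hbc' : (⟦b⟧ : orbitRel.Quotient (stabilizer G a) Ω) ≠ ⟦c⟧ := fun e =>
    hbc (orbitRel_apply.1 (Quotient.exact e.symm))
  have h := Finset.eq_univ_of_card ({⟦a⟧, ⟦b⟧, ⟦c⟧} : Finset (orbitRel.Quotient (stabilizer G a) Ω))
    (by rw [hq]; exact Finset.card_eq_three.2 ⟨_, _, _, hne1 b hb, hne1 c hc, hbc', rfl⟩)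
  have hy := Finset.mem_univ (⟦y⟧ : orbitRel.Quotient (stabilizer G a) Ω)
  rw [← h] at hy
  simp only [Finset.mem_insert, Finset.mem_singleton] at hy
  rcases hy with e | e | e
  · left
    obtain ⟨g, hg⟩ := orbitRel_apply.1 (Quotient.exact e)
    exact hg.symm.trans g.2
  · exact Or.inr (Or.inl (orbitRel_apply.1 (Quotient.exact e)))
  · exact Or.inr (Or.inr (orbitRel_apply.1 (Quotient.exact e)))

include hΩ hE1 hθ1 hne hπ in
theorem card_orbits {a b c : Ω} (hb : b ≠ a) (hc : c ≠ a) (hbc : c ∉ orbit (stabilizer G a) b) :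
    1 + Nat.card (orbit (stabilizer G a) b) + Nat.card (orbit (stabilizer G a) c) = 3 * p := by
  classical
  set Ob := (orbit (stabilizer G a) b).toFinset
  set Oc := (orbit (stabilizer G a) c).toFinset
  have hnot : ∀ z : Ω, z ≠ a → a ∉ orbit (stabilizer G a) z := by
    rintro z hz ⟨g, hg⟩
    exact hz (smul_left_cancel g (hg.trans g.2.symm))
  have hu : ({a} ∪ Ob ∪ Oc : Finset Ω) = Finset.univ := by
    refine Finset.eq_univ_of_forall fun y => ?_
    rcases orbit_cases hE1 hθ1 hne hπ hb hc hbc y with h | h | h <;> simp [Ob, Oc, h]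
  have hd1 : Disjoint ({a} : Finset Ω) Ob := by
    rw [Finset.disjoint_singleton_left]; simpa [Ob] using hnot b hb
  have hd2 : Disjoint ({a} ∪ Ob) Oc := by
    rw [Finset.disjoint_union_left, Finset.disjoint_singleton_left]
    refine ⟨by simpa [Oc] using hnot c hc, Finset.disjoint_left.2 fun y hy hy' => hbc ?_⟩
    rw [Set.mem_toFinset] at hy hy'
    rw [← orbit_eq_iff.2 hy, orbit_eq_iff.2 hy']
    exact mem_orbit_self c
  rw [← hΩ, ← Finset.card_univ, ← hu, Finset.card_union_of_disjoint hd2, Finset.card_union_of_disjoint hd1,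
    Finset.card_singleton, Nat.card_eq_card_toFinset, Nat.card_eq_card_toFinset]

include hΩ hE1 hθ1 hne hπ in
/-- Wielandt's parameters for the degree `3p`. -/
theorem subdegree (hp : p.Prime) (hp5 : 5 ≤ p) {e : ℕ} (he : e + 1 = 2 * p)
    (hEd : (E : G → ℂ) 1 = e) (hθd : (θ : G → ℂ) 1 = p) {g₀ : G} (hE0 : (E : G → ℂ) g₀ = -1)
    (hθ0 : (θ : G → ℂ) g₀ = 0) {a b : Ω} (hb : b ≠ a) (heven : Even (Nat.card (orbit (stabilizer G a) b)))
    (h4 : ¬ 4 ∣ 3 * p - 1) :
    ∃ r : ℤ, 2 * (p : ℤ) = 6 * r ^ 2 + 3 * r + 1 ∧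
      ((Nat.card (orbit (stabilizer G a) b) : ℤ) = p + r ∨
        (Nat.card (orbit (stabilizer G a) b) : ℤ) = 2 * p - 1 - r) := by
  classical
  have : Nonempty Ω := ⟨a⟩
  have := Fintype.ofFinite (IrrCharacter G)
  set k := Nat.card (orbit (stabilizer G a) b) with hk
  have hkpos : 0 < k := by
    have := (nonempty_orbit (M := stabilizer G a) b).to_subtype
    exact Nat.card_pos
  -- a point outside the orbit of `b`, and the subdegree bound
  obtain ⟨c, hca, hcb⟩ : ∃ c, c ≠ a ∧ c ∉ orbit (stabilizer G a) b := by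
    by_contra hcon
    push Not at hcon
    have h3 := rank_three (Ω := Ω) hE1 hθ1 hne hπ a
    have hsub : ∀ q : orbitRel.Quotient (stabilizer G a) Ω, q = ⟦a⟧ ∨ q = ⟦b⟧ := by
      intro q
      induction q using Quotient.inductionOn with
      | h y =>
        by_cases hy : y = a
        · exact Or.inl (hy ▸ rfl)
        · exact Or.inr (Quotient.sound (orbitRel_apply.2 (hcon y hy)))
    have := Fintype.ofFinite (orbitRel.Quotient (stabilizer G a) Ω)
    have hle : (Finset.univ : Finset (orbitRel.Quotient (stabilizer G a) Ω)) ⊆ {⟦a⟧, ⟦b⟧} := fun q _ => by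
      simpa using hsub q
    have := (Finset.card_le_card hle).trans Finset.card_le_two
    rw [Finset.card_univ, ← Nat.card_eq_fintype_card, h3] at this
    omega
  have hsum := card_orbits hΩ hE1 hθ1 hne hπ hb hca hcb
  set l := Nat.card (orbit (stabilizer G a) c) with hl
  have hlpos : 0 < l := by
    have := (nonempty_orbit (M := stabilizer G a) c).to_subtype
    exact Nat.card_pos
  have hkl : k ≠ l := by
    intro e
    obtain ⟨j, hj⟩ := heven
    exact h4 ⟨j, by omega⟩
  -- the orbital is self-paired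
  set A : Matrix Ω Ω ℤ := orbMat G a b with hA
  have hpair : (b, a) ∈ orbit G (a, b) := by
    obtain ⟨g, hg⟩ := exists_smul_eq G b a
    have hga : g • a ≠ a := fun h => hb (smul_left_cancel g (hg.trans h.symm))
    rcases orbit_cases hE1 hθ1 hne hπ hb hca hcb (g • a) with h | h | h
    · exact absurd h hga
    · obtain ⟨u, hu⟩ := h
      refine ⟨g⁻¹ * u, ?_⟩
      show ((g⁻¹ * u) • a, (g⁻¹ * u) • b) = (b, a)
      rw [mul_smul, mul_smul, u.2, show (u : G) • b = g • a from hu, inv_smul_smul, inv_smul_eq_iff.2 hg.symm]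
    · exfalso
      obtain ⟨u, hu⟩ := h
      set w := (u : G)⁻¹ * g with hw
      have hwb : w • b = a := by rw [hw, mul_smul, hg, inv_smul_eq_iff, u.2]
      have hwa : w • a = c := by rw [hw, mul_smul, inv_smul_eq_iff]; exact hu.symm
      have hcard : ∀ y z : Ω, Nat.card (orbit (stabilizer G y) z) *
          Nat.card ↥(stabilizer G y ⊓ stabilizer G z) = Nat.card (stabilizer G y) := by
        intro y z
        rw [← (stabilizer (stabilizer G y) z).index_mul_card, index_stabilizer, Nat.card_coe_set_eq]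
        congr 1
        exact Nat.card_congr
          { toFun := fun g => ⟨⟨g.1, g.2.1⟩, g.2.2⟩
            invFun := fun g => ⟨(g.1 : G), g.1.2, g.2⟩
            left_inv := fun _ => rfl
            right_inv := fun _ => rfl }
      have e2 : Nat.card ↥(stabilizer G a ⊓ stabilizer G c) = Nat.card ↥(stabilizer G a ⊓ stabilizer G b) := by
        have e3 : Nat.card ↥(stabilizer G (w • b) ⊓ stabilizer G (w • a)) =
            Nat.card ↥(stabilizer G b ⊓ stabilizer G a) := by
          rw [stabilizer_smul_eq_stabilizer_map_conj, stabilizer_smul_eq_stabilizer_map_conj,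
            ← Subgroup.map_inf _ _ _ (MulAut.conj w).injective,
            Subgroup.card_map_of_injective (MulAut.conj w).injective]
        rw [hwb, hwa, inf_comm (stabilizer G b)] at e3
        exact e3
      have h1 := hcard a b
      have h2 := hcard a c
      rw [e2, ← h1] at h2
      exact hkl (Nat.eq_of_mul_eq_mul_right Nat.card_pos h2).symm
  have hAsym : ∀ x y, A x y = A y x := by
    have key : ∀ u v : Ω, (u, v) ∈ orbit G (a, b) → (v, u) ∈ orbit G (a, b) := by
      rintro u v ⟨g, hg⟩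
      obtain ⟨rfl, rfl⟩ : g • a = u ∧ g • b = v := ⟨congrArg Prod.fst hg, congrArg Prod.snd hg⟩
      rw [← orbit_eq_iff, show (g • b, g • a) = g • (b, a) from rfl, orbit_smul, orbit_eq_iff]
      exact hpair
    intro x y
    rw [hA]; unfold orbMat
    exact if_congr ⟨key x y, key y x⟩ rfl rfl
  set T : Module.End ℂ (Ω → ℂ) := Matrix.toLin' (A.map (Int.cast : ℤ → ℂ)) with hT
  have hTT : LinearMap.trace ℂ (Ω → ℂ) (T * T) = 3 * (p : ℂ) * k := by
    have hdiag : ∀ x, (A * A) x x = k := fun x => by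
      rw [Matrix.mul_apply, ← show ∑ y, A x y = (k : ℤ) from sum_orbMat a b x]
      refine Finset.sum_congr rfl fun z _ => ?_
      rw [hAsym z x, hA]
      unfold orbMat
      split_ifs <;> norm_num
    rw [hT, Module.End.mul_eq_comp, ← Matrix.toLin'_mul, Matrix.trace_toLin'_eq, Matrix.trace,
      ← Matrix.map_mul_intCast]
    simp only [Matrix.diag, Matrix.map_apply, hdiag, Finset.sum_const, Finset.card_univ, hΩ, nsmul_eq_mul]
    push_cast; ring
  -- multiplicities
  let one : IrrCharacter G := ⟨1, isIrrCharacter_one⟩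
  have hne' : (E : G → ℂ) ≠ (θ : G → ℂ) := fun e => hne (Subtype.ext e.symm)
  have hmle : ∀ χ : IrrCharacter G, mult G Ω (χ : G → ℂ) ≤ 1 := fun χ =>
    multFree_of_rank_le_five a (by rw [rank_three hE1 hθ1 hne hπ a]; norm_num) (χ : G → ℂ) χ.2
  have hsumE : idem (G := G) (Ω := Ω) ((one : IrrCharacter G) : G → ℂ) + idem (E : G → ℂ) + idem (θ : G → ℂ) = 1 := by
    rw [← sum_idem (G := G) (Ω := Ω),
      ← Finset.sum_subset (Finset.subset_univ ({one, E, θ} : Finset (IrrCharacter G)))]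
    · rw [Finset.sum_insert (by
          simp only [Finset.mem_insert, Finset.mem_singleton, not_or]
          exact ⟨fun e => hE1 (congrArg Subtype.val e).symm, fun e => hθ1 (congrArg Subtype.val e).symm⟩),
        Finset.sum_pair hne.symm, add_assoc]
    · intro χ _ hχ
      simp only [Finset.mem_insert, Finset.mem_singleton, not_or] at hχ
      rw [idem_eq_zero_iff χ.2, inner_pi_irr hE1 hθ1 hne hπ, if_neg (fun e => hχ.1 (Subtype.ext e.symm)),
        if_neg (fun e => hχ.2.1 (Subtype.ext e.symm)), if_neg (fun e => hχ.2.2 (Subtype.ext e.symm))]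
      ring
  have hi1 : classInner (pi G Ω) ((one : IrrCharacter G) : G → ℂ) = 1 := by
    rw [inner_pi_irr hE1 hθ1 hne hπ, if_pos rfl, if_neg hE1, if_neg hθ1]; ring
  have hiE : classInner (pi G Ω) (E : G → ℂ) = 1 := by
    rw [inner_pi_irr hE1 hθ1 hne hπ, if_neg hE1.symm, if_pos rfl, if_neg hne'.symm]; ring
  have hiθ : classInner (pi G Ω) (θ : G → ℂ) = 1 := by
    rw [inner_pi_irr hE1 hθ1 hne hπ, if_neg hθ1.symm, if_neg hne', if_pos rfl]; ring
  -- eigenvalues
  have hTmem : T ∈ cAlg G Ω := orbMat_mem a b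
  have heig : ∀ χ : IrrCharacter G, ∃ z : ℂ, T * idem (χ : G → ℂ) = z • idem (χ : G → ℂ) := by
    intro χ
    rw [← span_idem_eq hmle] at hTmem
    refine Submodule.span_induction ?_ ⟨0, by simp⟩ ?_ ?_ hTmem
    · rintro _ ⟨ψ, rfl⟩
      beta_reduce
      rw [idem_mul ψ.2 χ.2]
      split_ifs with h
      · exact ⟨1, by rw [one_smul, h]⟩
      · exact ⟨0, by rw [zero_smul]⟩
    · rintro u v - - ⟨z, hz⟩ ⟨w, hw⟩
      exact ⟨z + w, by rw [add_mul, hz, hw, add_smul]⟩
    · rintro j u - ⟨z, hz⟩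
      exact ⟨j * z, by rw [smul_mul_assoc, hz, smul_smul]⟩
  obtain ⟨z₀, hz₀⟩ := heig one
  obtain ⟨r, hr⟩ := heig E
  obtain ⟨s, hs⟩ := heig θ
  have ht0 : LinearMap.trace ℂ (Ω → ℂ) (idem ((one : IrrCharacter G) : G → ℂ)) = 1 := by
    rw [trace_idem one.2, hi1, mul_one]; rfl
  have htE : LinearMap.trace ℂ (Ω → ℂ) (idem (E : G → ℂ)) = (e : ℂ) := by
    rw [trace_idem E.2, hiE, hEd, mul_one]
  have htθ : LinearMap.trace ℂ (Ω → ℂ) (idem (θ : G → ℂ)) = (p : ℂ) := by
    rw [trace_idem θ.2, hiθ, hθd, mul_one]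
  have hz₀k : z₀ = (k : ℂ) := by
    have h : LinearMap.trace ℂ (Ω → ℂ) (T * idem (fun _ : G => (1 : ℂ))) = (k : ℂ) := trace_mul_idem_one a b
    rw [show (fun _ : G => (1 : ℂ)) = ((one : IrrCharacter G) : G → ℂ) from rfl, hz₀, map_smul, ht0,
      smul_eq_mul, mul_one] at h
    exact h
  subst hz₀k
  have e1 : (k : ℂ) + r * e + s * p = 0 := by
    have h := congrArg (fun X => LinearMap.trace ℂ (Ω → ℂ) (T * X)) hsumE
    simp only [mul_add, mul_one, hz₀, hr, hs, map_add, map_smul, ht0, htE, htθ, smul_eq_mul] at h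
    rw [h]
    exact trace_orbMat hb
  have e2 : (k : ℂ) * k + r * r * e + s * s * p = 3 * p * k := by
    have h := congrArg (fun X => LinearMap.trace ℂ (Ω → ℂ) (T * T * X)) hsumE
    simp only [mul_add, mul_one, mul_assoc, hz₀, hr, hs, mul_smul_comm, smul_smul, map_add, map_smul,
      ht0, htE, htθ, smul_eq_mul] at h
    rw [hTT] at h
    linear_combination h
  -- `r` is rational: the trace of `A` times a permutation
  obtain ⟨N, hN⟩ : ∃ N : ℤ, LinearMap.trace ℂ (Ω → ℂ) (T * Cfsg.permRep ℂ G Ω g₀) = (N : ℂ) := by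
    refine ⟨∑ x, A x (g₀ • x), ?_⟩
    rw [LinearMap.trace_eq_matrix_trace ℂ (Pi.basisFun ℂ Ω), LinearMap.toMatrix_eq_toMatrix', Matrix.trace]
    push_cast
    refine Finset.sum_congr rfl fun x _ => ?_
    rw [Matrix.diag, LinearMap.toMatrix'_apply, Module.End.mul_apply, permRep_single, ← mat_apply, hT,
      mat, LinearMap.toMatrix'_toLin', Matrix.map_apply]
  have hrint : r = ((k - N : ℤ) : ℂ) := by
    have h := congrArg (fun X => LinearMap.trace ℂ (Ω → ℂ) (T * X * Cfsg.permRep ℂ G Ω g₀)) hsumE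
    simp only [mul_add, add_mul, mul_one, hz₀, hr, hs, smul_mul_assoc, map_add, map_smul,
      trace_idem_mul_permRep one.2, trace_idem_mul_permRep E.2, trace_idem_mul_permRep θ.2, hi1, hiE, hiθ,
      hE0, hθ0, hN, smul_eq_mul] at h
    simp only [one, Pi.one_apply] at h
    push_cast
    linear_combination -h
  generalize (k : ℤ) - N = R at hrint
  subst hrint
  -- integral equations
  have hsq : (p : ℤ) * ((k : ℤ) * k + R * R * e) + ((k : ℤ) + R * e) ^ 2 = 3 * (p : ℤ) ^ 2 * k := by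
    have : (((p : ℤ) * ((k : ℤ) * k + R * R * e) + ((k : ℤ) + R * e) ^ 2 : ℤ) : ℂ) =
        ((3 * (p : ℤ) ^ 2 * k : ℤ) : ℂ) := by
      push_cast
      linear_combination (p : ℂ) * e2 + (((k : ℂ) + R * e) - s * p) * e1
    exact_mod_cast this
  obtain ⟨S, hS⟩ : (p : ℤ) ∣ (k : ℤ) + R * e :=
    (Nat.prime_iff_prime_int.1 hp).dvd_of_dvd_pow (n := 2)
      ⟨3 * (p : ℤ) * k - ((k : ℤ) * k + R * R * e), by linear_combination hsq⟩
  have hpne : (p : ℤ) ≠ 0 := by omega
  have hq : (k : ℤ) * k + R * R * e + S * S * p = 3 * p * k := by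
    apply mul_left_cancel₀ hpne
    linear_combination hsq - ((k : ℤ) + R * e + (p : ℤ) * S) * hS
  have heZ : (e : ℤ) = 2 * p - 1 := by omega
  rw [heZ] at hS hq
  obtain ⟨j, hj⟩ : ∃ j : ℤ, (k : ℤ) = R + j * p := ⟨S - 2 * R, by linear_combination hS⟩
  have hS' : S = j + 2 * R := by
    apply mul_left_cancel₀ hpne
    linear_combination hj - hS
  have hk2 : (k : ℤ) ≤ 3 * p - 2 := by omega
  have hRp : R * R < (p : ℤ) * p := by nlinarith [mul_self_nonneg S, mul_self_nonneg (k : ℤ)]
  have hR1 : R < p ∧ -(p : ℤ) < R := by constructor <;> nlinarith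
  have hj0 : 0 ≤ j := by nlinarith
  have hj3 : j ≤ 3 := by nlinarith
  subst hS'
  rw [hj] at hq
  have hpol : 6 * R ^ 2 + R * (6 * j - 3) + j ^ 2 - j * (3 - j) * (p : ℤ) = 0 := by
    apply mul_left_cancel₀ hpne
    linear_combination hq
  interval_cases j
  · exfalso
    have : R * (6 * R - 3) = 0 := by linear_combination hpol
    rcases mul_eq_zero.1 this with h | h <;> omega
  · exact ⟨R, by linear_combination -hpol, Or.inl (by rw [hj]; ring)⟩
  · exact ⟨-1 - R, by linear_combination -hpol, Or.inr (by rw [hj]; ring)⟩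
  · exfalso
    have : (R + 1) * (6 * R + 9) = 0 := by linear_combination hpol
    rcases mul_eq_zero.1 this with h | h <;> omega

end Cfsg.Agent.DegThreeP
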