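/-
The Sylow 2-subgroups when every involution fixes exactly three points.

Main results: `exists_triple`, `structure_eight`, `exists_frame`.
-/
import Cfsg.Agent.Lib.DegThreeP.Two
import Cfsg.Agent.Lib.DegThreeP.Four
import Cfsg.Agent.Lib.DegThreeP.Orbital
import Cfsg.Agent.Lib.PSL2.Groups

set_option autoImplicit false

namespace Cfsg.Agent.DegThreeP

open Cfsg Cfsg.Agent.Char MulAction
open Cfsg.Agent.Perm.Orbital (pi)

variable {p : ℕ} [Fact p.Prime] {G : Type*} [Group G] [Fintype G] {Ω : Type*} [Fintype Ω] [MulAction G Ω]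
variable [IsSimpleGroup G] [IsPretransitive G Ω] [FaithfulSMul G Ω]
variable (X : Ctx p G Ω) (hf : X.f = 3)

include hf in
omit [IsPretransitive G Ω] [FaithfulSMul G Ω] in
/-- An involution fixing three points fixes no other. -/
theorem fix_three {x : G} (hx : x * x = 1) (hx1 : x ≠ 1) {q r s : Ω} (hqr : q ≠ r) (hqs : q ≠ s)
    (hrs : r ≠ s) (hq : x • q = q) (hr : x • r = r) (hs : x • s = s) {y : Ω} (hy : x • y = y) :
    y = q ∨ y = r ∨ y = s := by
  classical
  have h : Nat.card (fixedBy Ω x) = 3 := (X.card_fixedBy_involution hx hx1).trans hf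
  have h3 : ({⟨q, hq⟩, ⟨r, hr⟩, ⟨s, hs⟩} : Finset (fixedBy Ω x)).card = 3 :=
    Finset.card_eq_three.2 ⟨_, _, _, fun e => hqr (congrArg Subtype.val e),
      fun e => hqs (congrArg Subtype.val e), fun e => hrs (congrArg Subtype.val e), rfl⟩
  have hu := Finset.eq_univ_of_card _ (h3.trans (h.symm.trans Nat.card_eq_fintype_card))
  have := Finset.mem_univ (⟨y, hy⟩ : fixedBy Ω x)
  rw [← hu] at this
  simp only [Finset.mem_insert, Finset.mem_singleton, Subtype.ext_iff] at this
  exact this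

include hf in
omit [IsPretransitive G Ω] in
/-- A 2-group fixing three points acts semiregularly on the others. -/
theorem semiregular {R : Subgroup G} (hR : IsPGroup 2 R) {q r s : Ω} (hqr : q ≠ r) (hqs : q ≠ s)
    (hrs : r ≠ s) (hq : R ≤ stabilizer G q) (hr : R ≤ stabilizer G r) (hs : R ≤ stabilizer G s)
    {x : G} (hx : x ∈ R) (hx1 : x ≠ 1) {y : Ω} (hy : x • y = y) : y = q ∨ y = r ∨ y = s := by
  obtain ⟨k, hk⟩ := IsPGroup.iff_orderOf.1 hR ⟨x, hx⟩
  rw [← Subgroup.orderOf_coe] at hk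
  obtain ⟨j, rfl⟩ : ∃ j, k = j + 1 := ⟨k - 1, by
    rcases Nat.eq_zero_or_pos k with h0 | h0
    · rw [h0, pow_zero] at hk; exact absurd (orderOf_eq_one_iff.1 hk) hx1
    · omega⟩
  set i := x ^ 2 ^ j
  have hi : i * i = 1 := by rw [← pow_two, ← pow_mul, ← pow_succ, ← hk, pow_orderOf_eq_one]
  have hi1 : i ≠ 1 := fun e => by
    have h := Nat.le_of_dvd (by positivity) (orderOf_dvd_of_pow_eq_one e)
    rw [hk] at h
    exact absurd h (not_le.2 (Nat.pow_lt_pow_right one_lt_two (by omega)))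
  have hmem : ∀ {ω : Ω}, x ∈ stabilizer G ω → i • ω = ω := fun h => mem_stabilizer_iff.1 (pow_mem h _)
  exact fix_three X hf hi hi1 hqr hqs hrs (hmem (hq hx)) (hmem (hr hx)) (hmem (hs hx))
    (hmem (mem_stabilizer_iff.2 hy))

/-- A triple of points with the stabiliser of index two in a Sylow 2-subgroup. -/
structure Triple (G Ω : Type*) [Group G] [MulAction G Ω] where
  T : Sylow 2 G
  a : Ω
  b : Ω
  b' : Ω
  hab : a ≠ b
  hab' : a ≠ b'
  hbb' : b ≠ b'
  Ta : (T : Subgroup G) ≤ stabilizer G a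
  Tb : ∀ g ∈ (T : Subgroup G), g • b = b ∨ g • b = b'
  Tswap : ∃ g ∈ (T : Subgroup G), g • b = b'

namespace Triple

variable {G' Ω' : Type*} [Group G'] [MulAction G' Ω'] (Z : Triple G' Ω')

/-- The stabiliser of `b` in the Sylow subgroup. -/
def T0 : Subgroup G' := (Z.T : Subgroup G') ⊓ stabilizer G' Z.b

theorem mem_T0 {g : G'} : g ∈ Z.T0 ↔ g ∈ (Z.T : Subgroup G') ∧ g • Z.b = Z.b := Iff.rfl

theorem T0_le_a : Z.T0 ≤ stabilizer G' Z.a := inf_le_left.trans Z.Ta

theorem swap {g : G'} (hg : g ∈ (Z.T : Subgroup G')) (h : g • Z.b = Z.b') : g • Z.b' = Z.b := by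
  rcases Z.Tb g⁻¹ (inv_mem hg) with e | e
  · exfalso
    rw [inv_smul_eq_iff] at e
    exact Z.hbb' (e.trans h)
  · rw [inv_smul_eq_iff] at e
    exact e.symm

theorem T0_le_b' : Z.T0 ≤ stabilizer G' Z.b' := by
  intro g hg
  obtain ⟨hgT, hgb⟩ := Z.mem_T0.1 hg
  obtain ⟨h, hhT, hh⟩ := Z.Tswap
  rw [mem_stabilizer_iff, ← hh, ← mul_smul]
  rcases Z.Tb (g * h) (mul_mem hgT hhT) with e | e
  · exfalso
    rw [mul_smul, hh] at e
    exact Z.hbb' (smul_left_cancel g (hgb.trans e.symm))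
  · rw [e, hh]

theorem card_T : Nat.card (Z.T : Subgroup G') = 2 * Nat.card Z.T0 := by
  have e : Nat.card Z.T0 = Nat.card (stabilizer (Z.T : Subgroup G') Z.b) :=
    Nat.card_congr
      { toFun := fun g => ⟨⟨g.1, g.2.1⟩, g.2.2⟩
        invFun := fun g => ⟨g.1.1, g.1.2, g.2⟩
        left_inv := fun g => rfl
        right_inv := fun g => rfl }
  rw [← (stabilizer (Z.T : Subgroup G') Z.b).index_mul_card, index_stabilizer, e]
  congr 1
  have e2 : orbit (Z.T : Subgroup G') Z.b = {Z.b, Z.b'} := by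
    ext y
    constructor
    · rintro ⟨g, rfl⟩; exact Z.Tb g g.2
    · rintro (rfl | rfl)
      · exact mem_orbit_self _
      · obtain ⟨h, hhT, hh⟩ := Z.Tswap
        exact ⟨⟨h, hhT⟩, hh⟩
  rw [e2, Set.ncard_pair Z.hbb']

end Triple

omit [IsPretransitive G Ω] [FaithfulSMul G Ω] [IsSimpleGroup G] in
include X in
theorem exists_fixed (T : Sylow 2 G) : ∃ a : Ω, (T : Subgroup G) ≤ stabilizer G a := by
  have := Fact.mk Nat.prime_two
  obtain ⟨a, ha⟩ := T.2.nonempty_fixed_point_of_prime_not_dvd_card Ω (by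
    rw [Nat.card_eq_fintype_card, X.card_Ω]
    have h1 := (Fact.out : p.Prime).odd_of_ne_two (by have := X.five; omega)
    rw [Nat.odd_iff] at h1
    omega)
  exact ⟨a, fun g hg => ha ⟨g, hg⟩⟩

theorem card_T_eq {G' : Type*} [Group G'] [Finite G'] (T : Sylow 2 G') :
    Nat.card (T : Subgroup G') = 2 ^ (Nat.card G').factorization 2 := T.card_eq_multiplicity

include hf in
/-- If `2^V` does not divide `3(p-1)`, a Sylow 2-subgroup fixes one point and has an orbit of size two. -/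
theorem exists_triple (hV : ¬ 2 ^ (Nat.card G).factorization 2 ∣ 3 * (p - 1)) :
    (∀ (T : Sylow 2 G) (y z : Ω), (T : Subgroup G) ≤ stabilizer G y →
        (T : Subgroup G) ≤ stabilizer G z → y = z) ∧
      Nonempty (Triple G Ω) := by
  classical
  have := Fact.mk Nat.prime_two
  have hp4 : p % 4 = 1 := by
    rcases X.fix_cases with ⟨h, -⟩ | ⟨-, h⟩
    · omega
    · exact h
  have hfree : ∀ (R : Subgroup G), IsPGroup 2 R → ∀ q r s : Ω, q ≠ r → q ≠ s → r ≠ s →
      R ≤ stabilizer G q → R ≤ stabilizer G r → R ≤ stabilizer G s → Nat.card R ∣ 3 * (p - 1) := by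
    intro R hR q r s hqr hqs hrs hq hr hs
    let O : Set Ω := ({q, r, s} : Set Ω)ᶜ
    have hinv : ∀ (g : R) (y : Ω), y ∈ O → (g : G) • y ∈ O := by
      intro g y hy h
      apply hy
      have : y = (g : G)⁻¹ • ((g : G) • y) := (inv_smul_smul _ _).symm
      rw [this]
      rcases h with h | h | h
      · rw [h]; exact Or.inl (mem_stabilizer_iff.1 (inv_mem (hq g.2)))
      · rw [h]; exact Or.inr (Or.inl (mem_stabilizer_iff.1 (inv_mem (hr g.2))))
      · rw [h]; exact Or.inr (Or.inr (mem_stabilizer_iff.1 (inv_mem (hs g.2))))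
    letI : MulAction R O :=
      { smul := fun g y => ⟨(g : G) • y.1, hinv g y.1 y.2⟩
        one_smul := fun y => Subtype.ext (one_smul G y.1)
        mul_smul := fun g g' y => Subtype.ext (mul_smul (g : G) (g' : G) y.1) }
    have h := PSL2.dvd_card_of_free R O (fun y g hg => by
      by_contra hne
      refine y.2 (semiregular X hf hR hqr hqs hrs hq hr hs g.2 (fun e => hne (Subtype.ext e)) ?_)
      exact congrArg Subtype.val hg)
    have hO : Nat.card O = 3 * (p - 1) := by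
      have h3 : ({q, r, s} : Set Ω).ncard = 3 := Set.ncard_eq_three.2 ⟨q, r, s, hqr, hqs, hrs, rfl⟩
      have := Set.ncard_add_ncard_compl ({q, r, s} : Set Ω)
      rw [h3, Nat.card_eq_fintype_card, X.card_Ω] at this
      rw [Nat.card_coe_set_eq]
      change ({q, r, s} : Set Ω)ᶜ.ncard = _
      omega
    rwa [hO] at h
  have huniq : ∀ (T : Sylow 2 G) (y z : Ω), (T : Subgroup G) ≤ stabilizer G y →
      (T : Subgroup G) ≤ stabilizer G z → y = z := by
    intro T y z hy hz
    by_contra hne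
    -- the number of common fixed points is odd
    have hodd : ¬ 2 ∣ Nat.card Ω := by rw [Nat.card_eq_fintype_card, X.card_Ω]; omega
    have hmod := T.2.card_modEq_card_fixedPoints Ω
    have hmem : ∀ w : Ω, w ∈ fixedPoints (T : Subgroup G) Ω ↔ (T : Subgroup G) ≤ stabilizer G w :=
      fun w => ⟨fun h g hg => h ⟨g, hg⟩, fun h g => h g.2⟩
    obtain ⟨w, hw, hwy, hwz⟩ : ∃ w, (T : Subgroup G) ≤ stabilizer G w ∧ w ≠ y ∧ w ≠ z := by
      by_contra hcon
      push Not at hcon
      have e : fixedPoints (T : Subgroup G) Ω = {y, z} := by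
        ext w
        rw [hmem]
        refine ⟨fun h => ?_, ?_⟩
        · by_cases hwy : w = y
          · exact Or.inl hwy
          · exact Or.inr (hcon w h hwy)
        · rintro (rfl | rfl)
          · exact hy
          · exact hz
      rw [e, Nat.card_coe_set_eq, Set.ncard_pair hne] at hmod
      exact hodd (Nat.modEq_zero_iff_dvd.1 (hmod.trans (by decide)))
    refine hV (card_T_eq T ▸ hfree (T : Subgroup G) T.2 y z w hne hwy.symm hwz.symm hy hz hw)
  refine ⟨huniq, ?_⟩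
  obtain ⟨T⟩ := (inferInstance : Nonempty (Sylow 2 G))
  obtain ⟨a, ha⟩ := exists_fixed X T
  -- an orbit of size two
  obtain ⟨b, hb⟩ : ∃ b : Ω, Nat.card (orbit (T : Subgroup G) b) = 2 := by
    by_contra hcon
    push Not at hcon
    have := Fintype.ofFinite (Quotient (orbitRel (T : Subgroup G) Ω))
    have hsum : Nat.card Ω = ∑ q : Quotient (orbitRel (T : Subgroup G) Ω), Nat.card (orbit (T : Subgroup G) q.out) := by
      rw [Nat.card_congr (selfEquivSigmaOrbits (T : Subgroup G) Ω), Nat.card_sigma]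
    have horb : ∀ y : Ω, y = a ∨ 4 ∣ Nat.card (orbit (T : Subgroup G) y) := by
      intro y
      obtain ⟨i, hi⟩ := T.2.card_orbit (a := y)
      rcases i with _ | _ | i
      · left
        refine huniq T y a (fun g hg => ?_) ha
        have hsub := (Nat.card_eq_one_iff_unique.1 hi).1
        exact congrArg Subtype.val
          (Subsingleton.elim (⟨g • y, ⟨⟨g, hg⟩, rfl⟩⟩ : orbit (T : Subgroup G) y) ⟨y, mem_orbit_self y⟩)
      · exact absurd hi (hcon y)
      · right; rw [hi, pow_succ, pow_succ, mul_assoc]; exact dvd_mul_left _ _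
    have hrest : 4 ∣ ∑ q ∈ Finset.univ.erase (Quotient.mk (orbitRel (T : Subgroup G) Ω) a),
        Nat.card (orbit (T : Subgroup G) q.out) := by
      refine Finset.dvd_sum fun q hq => ?_
      rcases horb q.out with e | e
      · exact absurd (by rw [← Quotient.out_eq q, e]) (Finset.mem_erase.1 hq).1
      · exact e
    have h1 : Nat.card (orbit (T : Subgroup G) (Quotient.mk (orbitRel (T : Subgroup G) Ω) a).out) = 1 := by
      have e : (Quotient.mk (orbitRel (T : Subgroup G) Ω) a).out = a := by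
        obtain ⟨g, hg⟩ := orbitRel_apply.1 (Quotient.mk_out (s := orbitRel (T : Subgroup G) Ω) a)
        exact hg.symm.trans (ha g.2)
      rw [e, Nat.card_eq_one_iff_unique]
      exact ⟨⟨fun ⟨_, g, hg⟩ ⟨_, g', hg'⟩ => Subtype.ext (hg.symm.trans ((ha g.2).trans ((ha g'.2).symm.trans hg')))⟩,
        ⟨⟨a, mem_orbit_self a⟩⟩⟩
    rw [Nat.card_eq_fintype_card, X.card_Ω, ← Finset.add_sum_erase _ _ (Finset.mem_univ _), h1] at hsum
    omega
  obtain ⟨⟨c, hc⟩, ⟨d, hd⟩, hcd, hall⟩ := Nat.card_eq_two_iff.1 hb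
  have hab : a ≠ b := by
    rintro rfl
    obtain ⟨g, hg⟩ := hc
    obtain ⟨g', hg'⟩ := hd
    exact hcd (Subtype.ext (hg.symm.trans ((ha g.2).trans ((ha g'.2).symm.trans hg'))))
  obtain ⟨b', hbb', hbT, hswap⟩ : ∃ b', b ≠ b' ∧ (∀ g ∈ (T : Subgroup G), g • b = b ∨ g • b = b') ∧
      ∃ g ∈ (T : Subgroup G), g • b = b' := by
    have hb1 : Nat.card (orbit (T : Subgroup G) b) ≠ 1 := by rw [hb]; norm_num
    obtain ⟨h, hh, hne⟩ : ∃ g ∈ (T : Subgroup G), g • b ≠ b := by
      by_contra hcon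
      push Not at hcon
      exact hb1 (Nat.card_eq_one_iff_unique.2 ⟨⟨fun ⟨_, g, hg⟩ ⟨_, g', hg'⟩ =>
        Subtype.ext (hg.symm.trans ((hcon g g.2).trans ((hcon g' g'.2).symm.trans hg')))⟩, ⟨⟨b, mem_orbit_self b⟩⟩⟩)
    refine ⟨h • b, hne.symm, fun g hg => ?_, h, hh, rfl⟩
    have h2 : orbit (T : Subgroup G) b = {b, h • b} := by
      symm
      refine Set.eq_of_subset_of_ncard_le ?_ ?_
      · rintro y (rfl | rfl)
        · exact mem_orbit_self _
        · exact ⟨⟨h, hh⟩, rfl⟩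
      · rw [← Nat.card_coe_set_eq, hb, Set.ncard_pair hne.symm]
    exact h2.le ⟨⟨g, hg⟩, rfl⟩
  have hab' : a ≠ b' := by
    obtain ⟨g, hg, rfl⟩ := hswap
    intro e
    exact hab (smul_left_cancel g ((ha hg).trans e))
  exact ⟨⟨T, a, b, b', hab, hab', hbb', ha, hbT, hswap⟩⟩

include hf in
/-- Under the same hypothesis, `2^(V-1)` divides `3(p-1)`. -/
theorem half_dvd (Z : Triple G Ω) : Nat.card Z.T0 ∣ 3 * (p - 1) := by
  classical
  let O : Set Ω := ({Z.a, Z.b, Z.b'} : Set Ω)ᶜ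
  have hfix : ∀ (g : Z.T0) (y : Ω), y ∈ ({Z.a, Z.b, Z.b'} : Set Ω) → (g : G) • y = y := by
    rintro g y (rfl | rfl | rfl)
    · exact Z.T0_le_a g.2
    · exact (Z.mem_T0.1 g.2).2
    · exact Z.T0_le_b' g.2
  have hinv : ∀ (g : Z.T0) (y : Ω), y ∈ O → (g : G) • y ∈ O := by
    intro g y hy h
    apply hy
    have e := hfix g⁻¹ _ h
    rw [Subgroup.coe_inv, inv_smul_smul] at e
    rwa [e]
  letI : MulAction Z.T0 O :=
    { smul := fun g y => ⟨(g : G) • y.1, hinv g y.1 y.2⟩
      one_smul := fun y => Subtype.ext (one_smul G y.1)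
      mul_smul := fun g g' y => Subtype.ext (mul_smul (g : G) (g' : G) y.1) }
  have h := PSL2.dvd_card_of_free Z.T0 O (fun y g hg => by
    by_contra hne
    refine y.2 (semiregular X hf (Z.T.2.to_le inf_le_left) Z.hab Z.hab' Z.hbb' Z.T0_le_a inf_le_right
      Z.T0_le_b' g.2 (fun e => hne (Subtype.ext e)) ?_)
    exact congrArg Subtype.val hg)
  have hO : Nat.card O = 3 * (p - 1) := by
    have h3 : ({Z.a, Z.b, Z.b'} : Set Ω).ncard = 3 :=
      Set.ncard_eq_three.2 ⟨_, _, _, Z.hab, Z.hab', Z.hbb', rfl⟩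
    have := Set.ncard_add_ncard_compl ({Z.a, Z.b, Z.b'} : Set Ω)
    rw [h3, Nat.card_eq_fintype_card, X.card_Ω] at this
    rw [Nat.card_coe_set_eq]
    change ({Z.a, Z.b, Z.b'} : Set Ω)ᶜ.ncard = _
    omega
  rwa [hO] at h

theorem v2_three_mul {n : ℕ} (hn : n ≠ 0) : (3 * n).factorization 2 = n.factorization 2 := by
  rw [v2_mul (by norm_num) hn, v2_odd (a := 3) rfl, zero_add]

omit [IsSimpleGroup G] [IsPretransitive G Ω] [FaithfulSMul G Ω] in
include X hf in
theorem v2_pred_ge [IsSimpleGroup G] [IsPretransitive G Ω] [FaithfulSMul G Ω] :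
    2 ≤ (p - 1).factorization 2 := by
  have hp4 : p % 4 = 1 := by
    rcases X.fix_cases with ⟨h, -⟩ | ⟨-, h⟩
    · omega
    · exact h
  have := X.five
  exact (Nat.prime_two.pow_dvd_iff_le_factorization (by omega)).1 (show 2 ^ 2 ∣ p - 1 by omega)

theorem mod_eight {p : ℕ} (hp : 1 < p) (h : (p - 1).factorization 2 = 2) : p % 8 = 5 := by
  have h4 : 2 ^ 2 ∣ p - 1 := (Nat.prime_two.pow_dvd_iff_le_factorization (by omega)).2 h.ge
  have h8 : ¬ 2 ^ 3 ∣ p - 1 := fun h' => by
    have := (Nat.prime_two.pow_dvd_iff_le_factorization (by omega)).1 h'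
    omega
  norm_num at h4 h8
  omega

include hf in
/-- `e = 3p - 1`: a Sylow 2-subgroup has order eight and `p ≡ 5 (mod 8)`. -/
theorem structure_threeP (hσ : X.C.σ = -1) (he : X.C.e + 1 = 3 * p)
    (hG : (Nat.card G : ℤ) * ((X.C.e : ℤ) - 2) ^ 2 = p * (X.c : ℤ) ^ 2 * X.C.e * (X.C.e + X.C.σ)) :
    (Nat.card G).factorization 2 = 3 ∧ p % 8 = 5 ∧ Nonempty (Triple G Ω) := by
  obtain ⟨q, hq⟩ : ∃ q, p = q + 1 := ⟨p - 1, by have := X.five; omega⟩
  have hp5 := X.five
  have hp4 : p % 4 = 1 := by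
    rcases X.fix_cases with ⟨h, -⟩ | ⟨-, h⟩
    · omega
    · exact h
  have hG' : Nat.card G * (9 * q ^ 2) = p * X.c ^ 2 * (2 * ((3 * q + 2) / 2)) * (3 * q + 1) := by
    have e1 : 2 * ((3 * q + 2) / 2) = 3 * q + 2 := by omega
    rw [e1]
    have : (((Nat.card G * (9 * q ^ 2) : ℕ)) : ℤ) = ((p * X.c ^ 2 * (3 * q + 2) * (3 * q + 1) : ℕ) : ℤ) := by
      have ee : (X.C.e : ℤ) = 3 * q + 2 := by omega
      rw [ee, hσ] at hG
      push_cast
      linear_combination hG
    exact_mod_cast this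
  have hGne : Nat.card G ≠ 0 := Nat.card_pos.ne'
  have hcne : X.c ≠ 0 := X.c_pos.ne'
  have hv := congrArg (fun n : ℕ => n.factorization 2) hG'
  beta_reduce at hv
  have hm0 : (3 * q + 2) / 2 ≠ 0 := by omega
  have hq2 : q ^ 2 ≠ 0 := pow_ne_zero _ (by omega)
  rw [v2_mul hGne (mul_ne_zero (by norm_num) hq2), v2_mul (by norm_num) hq2, v2_sq (by omega), v2_odd (a := 9) rfl,
    v2_mul (by positivity) (by omega), v2_mul (by positivity) (by positivity), v2_mul (by omega) (by positivity),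
    v2_odd (a := p) (by omega), v2_sq hcne, X.v2_c, v2_mul (by norm_num) hm0, v2_two,
    v2_odd (a := (3 * q + 2) / 2) (by omega), v2_odd (a := 3 * q + 1) (by omega)] at hv
  have hvq : 2 ≤ q.factorization 2 := by
    have := v2_pred_ge X hf
    rwa [show p - 1 = q by omega] at this
  set V := (Nat.card G).factorization 2 with hVdef
  have hV : ¬ 2 ^ V ∣ 3 * (p - 1) := by
    intro h
    have := (Nat.prime_two.pow_dvd_iff_le_factorization (by omega)).1 h
    rw [v2_three_mul (by omega), show p - 1 = q by omega] at this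
    omega
  obtain ⟨-, ⟨Z⟩⟩ := exists_triple X hf hV
  have h0 := half_dvd X hf Z
  have hT := Z.card_T
  rw [card_T_eq, ← hVdef] at hT
  have hT0 : Nat.card Z.T0 = 2 ^ (V - 1) := by
    have : 2 ^ V = 2 * 2 ^ (V - 1) := by rw [← pow_succ']; congr 1; omega
    omega
  rw [hT0] at h0
  have h1 := (Nat.prime_two.pow_dvd_iff_le_factorization (by omega)).1 h0
  rw [v2_three_mul (by omega), show p - 1 = q by omega] at h1
  exact ⟨by omega, mod_eight (by omega) (by rw [show p - 1 = q by omega]; omega), ⟨Z⟩⟩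

include hf in
/-- `e = 2p - 1`: a Sylow 2-subgroup has order eight and `p ≡ 5 (mod 8)`. -/
theorem structure_twoP (hσ : X.C.σ = -1) (he : X.C.e + 1 = 2 * p)
    (hG : (Nat.card G : ℤ) * ((X.C.e : ℤ) - 1) ^ 2 = p * (X.c : ℤ) ^ 2 * X.C.e * (X.C.e + X.C.σ))
    (θ : IrrCharacter G) (hθE : θ ≠ X.C.E) (hθ1 : (θ : G → ℂ) ≠ 1) (hθd : (θ : G → ℂ) 1 = (p : ℂ))
    (hπ : ∀ g, pi G Ω g = 1 + (X.C.E : G → ℂ) g + (θ : G → ℂ) g) :
    (Nat.card G).factorization 2 = 3 ∧ p % 8 = 5 ∧
      ∃ Z : Triple G Ω, ∃ k : ℕ, k * Nat.card ↥(stabilizer G Z.a ⊓ stabilizer G Z.b) =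
        Nat.card (stabilizer G Z.a) ∧ k = Nat.card (orbit (stabilizer G Z.a) Z.b) := by
  classical
  have := Fact.mk Nat.prime_two
  obtain ⟨q, hq⟩ : ∃ q, p = q + 1 := ⟨p - 1, by have := X.five; omega⟩
  have hp5 := X.five
  have hp4 : p % 4 = 1 := by
    rcases X.fix_cases with ⟨h, -⟩ | ⟨-, h⟩
    · omega
    · exact h
  have hG' : Nat.card G * (2 ^ 2 * q ^ 2) = p * X.c ^ 2 * (2 * q + 1) * (2 * q) := by
    have : (((Nat.card G * (2 ^ 2 * q ^ 2) : ℕ)) : ℤ) = ((p * X.c ^ 2 * (2 * q + 1) * (2 * q) : ℕ) : ℤ) := by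
      have ee : (X.C.e : ℤ) = 2 * q + 1 := by omega
      rw [ee, hσ] at hG
      push_cast
      linear_combination hG
    exact_mod_cast this
  have hGne : Nat.card G ≠ 0 := Nat.card_pos.ne'
  have hcne : X.c ≠ 0 := X.c_pos.ne'
  have hv := congrArg (fun n : ℕ => n.factorization 2) hG'
  beta_reduce at hv
  have hq2 : q ^ 2 ≠ 0 := pow_ne_zero _ (by omega)
  rw [v2_mul hGne (mul_ne_zero (by norm_num) hq2), v2_mul (by norm_num) hq2, v2_sq (a := q) (by omega), v2_sq (a := 2) (by norm_num),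
    v2_mul (by positivity) (by omega), v2_mul (by positivity) (by omega), v2_mul (by omega) (by positivity),
    v2_odd (a := p) (by omega), v2_sq hcne, X.v2_c, v2_odd (a := 2 * q + 1) (by omega),
    v2_mul (by norm_num) (by omega), v2_two] at hv
  have hvq : 2 ≤ q.factorization 2 := by
    have := v2_pred_ge X hf
    rwa [show p - 1 = q by omega] at this
  set V := (Nat.card G).factorization 2 with hVdef
  have hV : ¬ 2 ^ V ∣ 3 * (p - 1) := by
    intro h
    have := (Nat.prime_two.pow_dvd_iff_le_factorization (by omega)).1 h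
    rw [v2_three_mul (by omega), show p - 1 = q by omega] at this
    omega
  obtain ⟨huniq, ⟨Z⟩⟩ := exists_triple X hf hV
  have hV1 : V = q.factorization 2 + 1 := by omega
  have hT := Z.card_T
  rw [card_T_eq, ← hVdef] at hT
  have hT0 : Nat.card Z.T0 = 2 ^ (V - 1) := by
    have : 2 ^ V = 2 * 2 ^ (V - 1) := by rw [← pow_succ']; congr 1; omega
    omega
  set H := stabilizer G Z.a with hH
  have horb : ∀ y : Ω, Nat.card (orbit (stabilizer G Z.a) y) *
      Nat.card ↥(stabilizer G Z.a ⊓ stabilizer G y) = Nat.card (stabilizer G Z.a) := by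
    intro y
    rw [← (stabilizer (stabilizer G Z.a) y).index_mul_card, index_stabilizer, Nat.card_coe_set_eq]
    congr 1
    exact Nat.card_congr
      { toFun := fun g => ⟨⟨g.1, g.2.1⟩, g.2.2⟩
        invFun := fun g => ⟨(g.1 : G), g.1.2, g.2⟩
        left_inv := fun _ => rfl
        right_inv := fun _ => rfl }
  have hvH : (Nat.card H).factorization 2 = V := by
    have h := H.index_mul_card
    rw [index_stabilizer_of_transitive G Z.a, Nat.card_eq_fintype_card, X.card_Ω] at h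
    rw [hVdef, ← h, v2_mul (by omega) Nat.card_pos.ne', v2_odd (a := 3 * p) (by omega), zero_add]
  -- two-point stabilisers have 2-part less than `2^V`
  have hlt : ∀ y : Ω, y ≠ Z.a → ¬ 2 ^ V ∣ Nat.card ↥(stabilizer G Z.a ⊓ stabilizer G y) := by
    intro y hy h
    obtain ⟨R, hR⟩ := Sylow.exists_subgroup_card_pow_prime 2 h
    set R' := R.map (stabilizer G Z.a ⊓ stabilizer G y).subtype
    have hc : Nat.card R' = 2 ^ V := by
      rw [Subgroup.card_map_of_injective (Subgroup.subtype_injective _), hR]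
    obtain ⟨S, hS⟩ := (IsPGroup.of_card (n := V) hc : IsPGroup 2 R').exists_le_sylow
    have e : R' = (S : Subgroup G) := Subgroup.eq_of_le_of_card_ge hS (by rw [hc, card_T_eq, ← hVdef])
    have hle : (S : Subgroup G) ≤ stabilizer G Z.a ⊓ stabilizer G y := e ▸ Subgroup.map_subtype_le _
    exact hy (huniq S y Z.a (hle.trans inf_le_right) (hle.trans inf_le_left))
  have hev : ∀ y : Ω, y ≠ Z.a → Even (Nat.card (orbit (stabilizer G Z.a) y)) := by
    intro y hy
    by_contra hne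
    refine hlt y hy ?_
    have h := horb y
    have h2 : 2 ^ V ∣ Nat.card (stabilizer G Z.a) :=
      (Nat.prime_two.pow_dvd_iff_le_factorization Nat.card_pos.ne').2 hvH.ge
    rw [← h] at h2
    exact ((Nat.prime_two.coprime_iff_not_dvd.2 (fun h' => hne (even_iff_two_dvd.2 h'))).pow_left V).dvd_of_dvd_mul_left h2
  set k := Nat.card (orbit (stabilizer G Z.a) Z.b) with hk
  have h0b : 2 ^ (V - 1) ∣ Nat.card ↥(stabilizer G Z.a ⊓ stabilizer G Z.b) :=
    hT0 ▸ Subgroup.card_dvd_of_le (le_inf Z.T0_le_a inf_le_right)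
  have hnot4 : ∀ y : Ω, 2 ^ (V - 1) ∣ Nat.card ↥(stabilizer G Z.a ⊓ stabilizer G y) →
      ¬ 4 ∣ Nat.card (orbit (stabilizer G Z.a) y) := by
    intro y hy h4
    have h := Nat.mul_dvd_mul h4 hy
    rw [horb y] at h
    have := (Nat.prime_two.pow_dvd_iff_le_factorization Nat.card_pos.ne').1
      (show 2 ^ (V + 1) ∣ Nat.card (stabilizer G Z.a) from (by
        rw [show 2 ^ (V + 1) = 4 * 2 ^ (V - 1) by
          rw [show (4 : ℕ) = 2 ^ 2 from rfl, ← pow_add]; congr 1; omega]
        exact h))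
    have hvH' : (Nat.card (stabilizer G Z.a)).factorization 2 = V := hvH
    omega
  -- a point outside the orbit of `b`
  have hrank := rank_three (Ω := Ω) X.C.E_ne hθ1 hθE hπ Z.a
  obtain ⟨c, hca, hcb⟩ : ∃ c, c ≠ Z.a ∧ c ∉ orbit (stabilizer G Z.a) Z.b := by
    by_contra hcon
    push Not at hcon
    have := Fintype.ofFinite (orbitRel.Quotient (stabilizer G Z.a) Ω)
    have hle : (Finset.univ : Finset (orbitRel.Quotient (stabilizer G Z.a) Ω)) ⊆ {⟦Z.a⟧, ⟦Z.b⟧} := fun x _ => by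
      induction x using Quotient.inductionOn with
      | h y =>
        by_cases hy : y = Z.a
        · simp [hy]
        · simp only [Finset.mem_insert, Finset.mem_singleton]
          exact Or.inr (Quotient.sound (orbitRel_apply.2 (hcon y hy)))
    have := (Finset.card_le_card hle).trans Finset.card_le_two
    rw [Finset.card_univ, ← Nat.card_eq_fintype_card, hrank] at this
    omega
  have hsum := card_orbits X.card_Ω X.C.E_ne hθ1 hθE hπ Z.hab.symm hca hcb
  set l := Nat.card (orbit (stabilizer G Z.a) c) with hl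
  have hk4 : k % 4 = 2 := by
    have h1 := Nat.even_iff.1 (hev Z.b Z.hab.symm)
    have h2 := hnot4 Z.b h0b
    omega
  have hl4 : 4 ∣ l := by omega
  have hodd : ¬ 2 ∣ Nat.card ↥(stabilizer G Z.a ⊓ stabilizer G c) := by
    intro h2
    obtain ⟨⟨x, hx⟩, hxo⟩ := exists_prime_orderOf_dvd_card' 2 h2
    rw [Subgroup.orderOf_mk] at hxo
    have hx2 : x * x = 1 := by rw [← pow_two, ← hxo, pow_orderOf_eq_one]
    have hx1 : x ≠ 1 := fun e => by rw [e, orderOf_one] at hxo; exact absurd hxo (by norm_num)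
    obtain ⟨⟨z, hz⟩, hzo⟩ := exists_prime_orderOf_dvd_card' (G := Z.T0) 2
      (hT0 ▸ dvd_pow_self 2 (by omega))
    rw [Subgroup.orderOf_mk] at hzo
    have hz2 : z * z = 1 := by rw [← pow_two, ← hzo, pow_orderOf_eq_one]
    have hz1 : z ≠ 1 := fun e => by rw [e, orderOf_one] at hzo; exact absurd hzo (by norm_num)
    obtain ⟨g, hg⟩ := isConj_iff.1 ((X.one_class hz2 hz1).symm.trans (X.one_class hx2 hx1))
    set R := Z.T0.map (MulAut.conj g).toMonoidHom
    have hRfix : ∀ y : Ω, x • y = y → R ≤ stabilizer G y := by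
      intro y hy
      have hzy : z • g⁻¹ • y = g⁻¹ • y := by
        have : (g * z * g⁻¹) • y = y := hg.symm ▸ hy
        rw [mul_smul, mul_smul] at this
        exact eq_inv_smul_iff.2 this
      have h3 := fix_three X hf hz2 hz1 Z.hab Z.hab' Z.hbb' (Z.T0_le_a hz) (Z.mem_T0.1 hz).2
        (Z.T0_le_b' hz) hzy
      have hle : Z.T0 ≤ stabilizer G (g⁻¹ • y) := by
        rcases h3 with e | e | e <;> rw [e]
        · exact Z.T0_le_a
        · exact inf_le_right
        · exact Z.T0_le_b'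
      rintro _ ⟨r, hr, rfl⟩
      rw [mem_stabilizer_iff]
      show (g * r * g⁻¹) • y = y
      rw [mul_smul, mul_smul, mem_stabilizer_iff.1 (hle hr), smul_inv_smul]
    have hRc : Nat.card R = 2 ^ (V - 1) := by
      rw [Subgroup.card_map_of_injective (MulAut.conj g).injective, hT0]
    exact hnot4 c (hRc ▸ Subgroup.card_dvd_of_le (le_inf (hRfix _ hx.1) (hRfix _ hx.2))) hl4
  have hlV : 2 ^ V ∣ l := by
    have h2 : 2 ^ V ∣ Nat.card (stabilizer G Z.a) :=
      (Nat.prime_two.pow_dvd_iff_le_factorization Nat.card_pos.ne').2 hvH.ge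
    rw [← horb c] at h2
    exact ((Nat.prime_two.coprime_iff_not_dvd.2 hodd).pow_left V).dvd_of_dvd_mul_right h2
  -- Wielandt's parameters
  obtain ⟨r, hr, hrk⟩ := subdegree X.card_Ω X.C.E_ne hθ1 hθE hπ (Fact.out : p.Prime) hp5 he X.C.deg_E hθd
    (g₀ := (X.D.e 1 : G)) (by rw [X.C.E_e 1 one_ne_zero, hσ]; norm_num) (by
      have h := hπ (X.D.e 1 : G)
      rw [X.pi_e one_ne_zero, X.C.E_e 1 one_ne_zero, hσ] at h
      push_cast at h
      linear_combination -h) Z.hab.symm (hev Z.b Z.hab.symm) (by omega)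
  have hr8 : r % 8 = 1 := by
    have h2p : (2 * (p : ℤ)) % 8 = 2 := by omega
    have hmod : (6 * r ^ 2 + 3 * r + 1) % 8 = 2 := hr ▸ h2p
    have key : ∀ x : ℤ, 0 ≤ x → x < 8 → (6 * x ^ 2 + 3 * x + 1) % 8 = 2 → x = 1 := by
      intro x h1 h2 h3
      interval_cases x <;> omega
    refine key _ (Int.emod_nonneg _ (by norm_num)) (Int.emod_lt_of_pos _ (by norm_num)) ?_
    rw [← hmod]
    simp [Int.add_emod, Int.mul_emod, pow_two]
  obtain ⟨i, hi⟩ : ∃ i, r = 8 * i + 1 := ⟨r / 8, by omega⟩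
  have hV3 : V ≤ 3 := by
    by_contra hlt'
    have h16 : (16 : ℤ) ∣ (l : ℤ) := by
      have : (2 : ℕ) ^ 4 ∣ l := (pow_dvd_pow 2 (by omega)).trans hlV
      exact_mod_cast this
    obtain ⟨j, hj⟩ := h16
    have hl' : (l : ℤ) = 6 * r ^ 2 + 2 * r := by
      rcases hrk with e | e
      · omega
      · exfalso; omega
    rw [hj, hi] at hl'
    ring_nf at hl'
    omega
  refine ⟨by omega, mod_eight (by omega) (by rw [show p - 1 = q by omega]; omega), Z, k, horb Z.b, hk⟩

end Cfsg.Agent.DegThreeP
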