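/-
The dihedral Sylow 2-subgroup of order eight and its action on the triple.

Main result: `exists_frame`.
-/
import Cfsg.Agent.Lib.DegThreeP.Triple

set_option autoImplicit false

namespace Cfsg.Agent.DegThreeP

open Cfsg MulAction

/-- Generators of the Sylow 2-subgroup adapted to the triple. -/
structure Frame (G Ω : Type*) [Group G] [MulAction G Ω] extends Triple G Ω where
  z : G
  u : G
  w : G
  card_eight : Nat.card (T : Subgroup G) = 8
  zT : z ∈ toTriple.T0
  uT : u ∈ toTriple.T0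
  wT : w ∈ (T : Subgroup G)
  zz : z * z = 1
  uu : u * u = 1
  ww : w * w = 1
  z_ne : z ≠ 1
  u_ne : u ≠ 1
  uz_ne : u ≠ z
  zu : z * u = u * z
  zw : z * w = w * z
  wuw : w * u * w = u * z
  wb : w • b = b'
  T0_cases : ∀ x ∈ toTriple.T0, x = 1 ∨ x = z ∨ x = u ∨ x = u * z

variable {p : ℕ} [Fact p.Prime] {G : Type*} [Group G] [Fintype G] {Ω : Type*} [Fintype Ω] [MulAction G Ω]
variable [IsSimpleGroup G] [IsPretransitive G Ω] [FaithfulSMul G Ω]
variable (X : Ctx p G Ω) (hf : X.f = 3)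

theorem exists_of_card_four {H : Type*} [Group H] [Finite H] (h4 : Nat.card H = 4) :
    ∃ x y : H, x ≠ 1 ∧ y ≠ 1 ∧ x ≠ y := by
  classical
  have := Fintype.ofFinite H
  rw [Nat.card_eq_fintype_card] at h4
  obtain ⟨x, -, hx⟩ := Finset.exists_mem_notMem_of_card_lt_card
    (show ({1} : Finset H).card < Finset.univ.card by rw [Finset.card_univ, h4]; simp)
  obtain ⟨y, -, hy⟩ := Finset.exists_mem_notMem_of_card_lt_card
    (show ({1, x} : Finset H).card < Finset.univ.card by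
      rw [Finset.card_univ, h4]; exact lt_of_le_of_lt Finset.card_le_two (by norm_num))
  simp only [Finset.mem_insert, Finset.mem_singleton, not_or] at hx hy
  exact ⟨x, y, hx, hy.1, Ne.symm hy.2⟩

include hf in
theorem exists_frame (Z : Triple G Ω) (hV : (Nat.card G).factorization 2 = 3) (hp8 : p % 8 = 5) :
    ∃ F : Frame G Ω, F.toTriple = Z := by
  classical
  have := Fact.mk Nat.prime_two
  have hT8 : Nat.card (Z.T : Subgroup G) = 8 := by rw [card_T_eq, hV]; norm_num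
  have h4 : Nat.card Z.T0 = 4 := by have := Z.card_T; omega
  have hpg : IsPGroup 2 Z.T0 := Z.T.2.to_le inf_le_left
  have hfree : ∀ x ∈ Z.T0, x ≠ 1 → ∀ y : Ω, x • y = y → y = Z.a ∨ y = Z.b ∨ y = Z.b' :=
    fun x hx hx1 y hy => semiregular X hf hpg Z.hab Z.hab' Z.hbb' Z.T0_le_a inf_le_right Z.T0_le_b' hx hx1 hy
  -- exponent two
  have hsq : ∀ x ∈ Z.T0, x * x = 1 := by
    intro x hx
    by_contra hne
    have hx4 : orderOf x = 4 := by
      have h : orderOf x ∣ 4 := h4 ▸ Subgroup.orderOf_dvd_natCard _ hx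
      have h' : orderOf x ≠ 1 ∧ orderOf x ≠ 2 :=
        ⟨fun e => hne (by rw [orderOf_eq_one_iff.1 e, one_mul]),
          fun e => hne (by rw [← pow_two, ← e, pow_orderOf_eq_one])⟩
      have := Nat.le_of_dvd (by norm_num) h
      interval_cases hh : orderOf x <;> omega
    set σ := toPermHom G Ω x
    have hs4 : σ ^ 4 = 1 := by rw [← map_pow, ← hx4, pow_orderOf_eq_one, map_one]
    have hfix : ∀ y : Ω, x • y = y ↔ y ∈ ({Z.a, Z.b, Z.b'} : Finset Ω) := by
      intro y
      simp only [Finset.mem_insert, Finset.mem_singleton]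
      refine ⟨hfree x hx (fun e => hne (by rw [e, one_mul])) y, ?_⟩
      rintro (rfl | rfl | rfl)
      · exact Z.T0_le_a hx
      · exact (Z.mem_T0.1 hx).2
      · exact Z.T0_le_b' hx
    obtain ⟨-, hs⟩ := DegTwoP.sign_of_free σ (n := 4) (by norm_num) hs4 (by
      intro y hy l hl
      rw [← map_pow] at hl
      have hl' : x ^ l • y = y := hl
      by_contra hl4
      have hxl : x ^ l ≠ 1 := fun e => hl4 (hx4 ▸ orderOf_dvd_of_pow_eq_one e)
      have h3 := hfree _ (pow_mem hx l) hxl y hl'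
      exact Equiv.Perm.mem_support.1 hy ((hfix y).2 (by simpa using h3)))
    have hsupp : σ.support.card = 3 * (p - 1) := by
      have e : σ.support = ({Z.a, Z.b, Z.b'} : Finset Ω)ᶜ := by
        ext y
        rw [Equiv.Perm.mem_support, Finset.mem_compl, ← hfix]
        rfl
      rw [e, Finset.card_compl, X.card_Ω,
        Finset.card_eq_three.2 ⟨_, _, _, Z.hab, Z.hab', Z.hbb', rfl⟩]
      omega
    rw [DegTwoP.sign_eq_one X.nc x, hsupp] at hs
    have hev := (neg_one_pow_eq_one_iff_even (R := ℤˣ) (by decide)).1 hs.symm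
    rw [Nat.even_iff] at hev
    omega
  have hcomm : ∀ x ∈ Z.T0, ∀ y ∈ Z.T0, x * y = y * x := fun x hx y hy => by
    have h := hsq (x * y) (mul_mem hx hy)
    calc x * y = x * (x * y * (x * y)) * y := by rw [h, mul_one]
      _ = (x * x) * (y * x) * (y * y) := by group
      _ = y * x := by rw [hsq x hx, hsq y hy, one_mul, mul_one]
  have hfour : ∀ z u : G, z ∈ Z.T0 → u ∈ Z.T0 → z ≠ 1 → u ≠ 1 → u ≠ z →
      ∀ x ∈ Z.T0, x = 1 ∨ x = z ∨ x = u ∨ x = u * z := by
    intro z u hz hu hz1 hu1 huz x hx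
    let e1 : Z.T0 := 1
    let ez : Z.T0 := ⟨z, hz⟩
    let eu : Z.T0 := ⟨u, hu⟩
    let euz : Z.T0 := ⟨u * z, mul_mem hu hz⟩
    have hc : ({e1, ez, eu, euz} : Finset Z.T0).card = 4 := by
      refine Finset.card_eq_four.2 ⟨e1, ez, eu, euz, ?_, ?_, ?_, ?_, ?_, ?_, rfl⟩ <;>
        simp only [ne_eq, e1, ez, eu, euz, Subtype.ext_iff, OneMemClass.coe_one]
      · exact Ne.symm hz1
      · exact Ne.symm hu1
      · exact fun e => huz ((eq_inv_of_mul_eq_one_left e.symm).trans (inv_eq_of_mul_eq_one_left (hsq z hz)))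
      · exact Ne.symm huz
      · exact fun e => hu1 (mul_eq_right.1 e.symm)
      · exact fun e => hz1 (mul_eq_left.1 e.symm)
    have hu' := Finset.eq_univ_of_card _ (hc.trans (h4.symm.trans Nat.card_eq_fintype_card))
    have := Finset.mem_univ (⟨x, hx⟩ : Z.T0)
    rw [← hu'] at this
    simpa [e1, ez, eu, euz, Subtype.ext_iff] using this
  obtain ⟨h, hhT, hhb⟩ := Z.Tswap
  have hout : ∀ x ∈ (Z.T : Subgroup G), x ∉ Z.T0 → x • Z.b = Z.b' := fun x hx hn =>
    (Z.Tb x hx).resolve_left fun e => hn (Z.mem_T0.2 ⟨hx, e⟩)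
  have hprod : ∀ x ∈ (Z.T : Subgroup G), x ∉ Z.T0 → ∀ y ∈ (Z.T : Subgroup G), y ∉ Z.T0 → x * y ∈ Z.T0 := by
    intro x hx hxn y hy hyn
    refine Z.mem_T0.2 ⟨mul_mem hx hy, ?_⟩
    rw [mul_smul, hout y hy hyn, Z.swap hx (hout x hx hxn)]
  have hhn : h ∉ Z.T0 := fun e => Z.hbb' ((Z.mem_T0.1 e).2.symm.trans hhb)
  have hnorm : ∀ y ∈ Z.T0, h * y * h⁻¹ ∈ Z.T0 := by
    intro y hy
    refine hprod (h * y) (mul_mem hhT hy.1) (fun e => hhn ?_) h⁻¹ (inv_mem hhT) (fun e => hhn ?_)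
    · simpa [mul_assoc] using mul_mem e (inv_mem hy)
    · simpa using inv_mem e
  have hh2 : h * h ∈ Z.T0 := hprod h hhT hhn h hhT hhn
  have hne : ¬ ∀ y ∈ Z.T0, h * y = y * h := by
    intro hall
    obtain ⟨⟨x, hx⟩, ⟨y, hy⟩, hx1, hy1, hxy⟩ := exists_of_card_four h4
    have hx1' : x ≠ 1 := fun e => hx1 (Subtype.ext e)
    have hy1' : y ≠ 1 := fun e => hy1 (Subtype.ext e)
    have hxy' : x ≠ y := fun e => hxy (Subtype.ext e)
    by_cases h21 : h * h = 1
    · -- `x`, `y` act semiregularly on the two other fixed points of `h`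
      have hh1 : h ≠ 1 := fun e => hhn (e ▸ one_mem _)
      have hcard : Nat.card (fixedBy Ω h) = 3 := (X.card_fixedBy_involution h21 hh1).trans hf
      have hne3 : ∀ r : G, r ∈ Z.T0 → r ≠ 1 → ∀ c : fixedBy Ω h, c.1 ≠ Z.a → r • c.1 ≠ c.1 := by
        intro r hr hr1 c hc e
        rcases hfree r hr hr1 c.1 e with e' | e' | e'
        · exact hc e'
        · exact Z.hbb' ((e' ▸ c.2 : h • Z.b = Z.b).symm.trans hhb)
        · exact Z.hbb' ((Z.swap hhT hhb).symm.trans (e' ▸ c.2 : h • Z.b' = Z.b'))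
      obtain ⟨c, hc⟩ : ∃ c : fixedBy Ω h, c.1 ≠ Z.a := by
        by_contra hcon
        push Not at hcon
        have : Subsingleton (fixedBy Ω h) := ⟨fun c d => Subtype.ext ((hcon c).trans (hcon d).symm)⟩
        have := Finite.card_le_one_iff_subsingleton.2 this
        omega
      have hmap : ∀ r : G, r ∈ Z.T0 → r • c.1 ∈ fixedBy Ω h := fun r hr => by
        rw [mem_fixedBy, ← mul_smul, hall r hr, mul_smul, c.2]
      have hna : ∀ r : G, r ∈ Z.T0 → r • c.1 ≠ Z.a := fun r hr e =>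
        hc (smul_left_cancel r (e.trans (Z.T0_le_a hr).symm))
      have hxy2 : x • c.1 = y • c.1 := by
        by_contra hne'
        have h4' : ({⟨Z.a, Z.Ta hhT⟩, c, ⟨x • c.1, hmap x hx⟩, ⟨y • c.1, hmap y hy⟩} :
            Finset (fixedBy Ω h)).card = 4 := by
          refine Finset.card_eq_four.2 ⟨_, _, _, _, ?_, ?_, ?_, ?_, ?_, ?_, rfl⟩ <;>
            simp only [ne_eq, Subtype.ext_iff]
          · exact Ne.symm hc
          · exact Ne.symm (hna x hx)
          · exact Ne.symm (hna y hy)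
          · exact Ne.symm (hne3 x hx hx1' c hc)
          · exact Ne.symm (hne3 y hy hy1' c hc)
          · exact hne'
        have := Finset.card_le_univ ({⟨Z.a, Z.Ta hhT⟩, c, ⟨x • c.1, hmap x hx⟩, ⟨y • c.1, hmap y hy⟩} :
            Finset (fixedBy Ω h))
        rw [h4', ← Nat.card_eq_fintype_card, hcard] at this
        omega
      refine hne3 (x * y) (mul_mem hx hy) (fun e => hxy' ?_) c hc ?_
      · rw [eq_inv_of_mul_eq_one_left e, inv_eq_of_mul_eq_one_left (hsq y hy)]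
      · rw [mul_smul, ← hxy2, ← mul_smul, hsq x hx, one_smul]
    · -- the Sylow subgroup is abelian and every square lies in `{1, h^2}`
      have hT0c : ∀ a₁ ∈ (Z.T : Subgroup G), a₁ ∈ Z.T0 ∨ ∃ t ∈ Z.T0, a₁ = h * t := by
        intro a₁ ha
        by_cases hm : a₁ ∈ Z.T0
        · exact Or.inl hm
        · exact Or.inr ⟨h⁻¹ * a₁, hprod _ (inv_mem hhT) (fun e => hhn (by simpa using inv_mem e)) _ ha hm,
            by group⟩
      have hTc : ∀ a₁ ∈ (Z.T : Subgroup G), ∀ a₂ ∈ (Z.T : Subgroup G), a₁ * a₂ = a₂ * a₁ := by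
        intro a₁ ha₁ a₂ ha₂
        rcases hT0c a₁ ha₁ with h₁ | ⟨t₁, ht₁, rfl⟩ <;> rcases hT0c a₂ ha₂ with h₂ | ⟨t₂, ht₂, rfl⟩
        · exact hcomm _ h₁ _ h₂
        · rw [← mul_assoc, ← hall a₁ h₁, mul_assoc, hcomm _ h₁ _ ht₂, ← mul_assoc]
        · rw [mul_assoc, hcomm _ ht₁ _ h₂, ← mul_assoc, hall a₂ h₂, mul_assoc]
        · calc h * t₁ * (h * t₂) = h * (t₁ * h) * t₂ := by group
            _ = h * h * (t₁ * t₂) := by rw [← hall t₁ ht₁]; group
            _ = h * h * (t₂ * t₁) := by rw [hcomm _ ht₁ _ ht₂]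
            _ = h * (t₂ * h) * t₁ := by rw [← hall t₂ ht₂]; group
            _ = h * t₂ * (h * t₁) := by group
      have hsqT : ∀ a₁ ∈ (Z.T : Subgroup G), a₁ * a₁ = 1 ∨ a₁ * a₁ = h * h := by
        intro a₁ ha₁
        rcases hT0c a₁ ha₁ with h₁ | ⟨t, ht, rfl⟩
        · exact Or.inl (hsq _ h₁)
        · refine Or.inr ?_
          calc h * t * (h * t) = h * (t * h) * t := by group
            _ = h * h * (t * t) := by rw [← hall t ht]; group
            _ = h * h := by rw [hsq t ht, mul_one]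
      obtain ⟨v, hv, hv1, hvh⟩ : ∃ v ∈ Z.T0, v ≠ 1 ∧ v ≠ h * h := by
        by_cases e : x = h * h
        · exact ⟨y, hy, hy1', fun e' => hxy' (e.trans e'.symm)⟩
        · exact ⟨x, hx, hx1', e⟩
      have : IsMulCommutative (Z.T : Subgroup G) := ⟨⟨fun a₁ a₂ => Subtype.ext (hTc _ a₁.2 _ a₂.2)⟩⟩
      obtain ⟨g, hg⟩ := isConj_iff.1 ((X.one_class (hsq _ hh2) h21).symm.trans (X.one_class (hsq v hv) hv1))
      obtain ⟨n, hn, hne'⟩ := Z.T.conj_eq_normalizer_conj_of_mem (h * h) g⁻¹ hh2.1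
        (by rw [inv_inv, hg]; exact hv.1)
      rw [inv_inv, hg] at hne'
      have hmem : n⁻¹ * h * n ∈ (Z.T : Subgroup G) := (Subgroup.mem_normalizer_iff''.1 hn h).1 hhT
      have e : n⁻¹ * h * n * (n⁻¹ * h * n) = v := by rw [hne']; group
      rcases hsqT _ hmem with e' | e' <;> rw [e] at e'
      · exact hv1 e'
      · exact hvh e'
  push Not at hne
  obtain ⟨u, hu, hhu⟩ := hne
  have hu1 : u ≠ 1 := fun e => hhu (by rw [e, mul_one, one_mul])
  set v := h * u * h⁻¹ with hv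
  have hvm : v ∈ Z.T0 := hnorm u hu
  have hvu : v ≠ u := fun e => hhu (mul_inv_eq_iff_eq_mul.1 e)
  have hv1 : v ≠ 1 := fun e => hu1 (conj_eq_one_iff.1 e)
  set z := u * v with hz
  have hzm : z ∈ Z.T0 := mul_mem hu hvm
  have hz1 : z ≠ 1 := fun e => hvu ((eq_inv_of_mul_eq_one_right e).trans (inv_eq_of_mul_eq_one_left (hsq u hu)))
  have huz : u ≠ z := fun e => hv1 (mul_eq_left.1 e.symm)
  have huz' : u * z = v := by rw [hz, ← mul_assoc, hsq u hu, one_mul]
  have hzh : h * z = z * h := by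
    have e1 : h * v * h⁻¹ = u := by
      calc h * v * h⁻¹ = (h * h) * u * (h * h)⁻¹ := by rw [hv]; group
        _ = u := by rw [hcomm _ hh2 _ hu]; group
    refine mul_inv_eq_iff_eq_mul.1 ?_
    calc h * z * h⁻¹ = (h * u * h⁻¹) * (h * v * h⁻¹) := by rw [hz]; group
      _ = v * u := by rw [← hv, e1]
      _ = z := by rw [hz, hcomm _ hvm _ hu]
  have hh2z : h * h = 1 ∨ h * h = z := by
    have hc : h * (h * h) * h⁻¹ = h * h := by group
    rcases hfour z u hzm hu hz1 hu1 huz _ hh2 with e | e | e | e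
    · exact Or.inl e
    · exact Or.inr e
    · rw [e] at hc; exact absurd hc hvu
    · exfalso
      rw [e, huz', hv] at hc
      exact hvu (mul_left_cancel (mul_right_cancel hc))
  obtain ⟨w, hwT, hwb, hww, hzw, hwuw⟩ : ∃ w ∈ (Z.T : Subgroup G), w • Z.b = Z.b' ∧ w * w = 1 ∧
      z * w = w * z ∧ w * u * w = u * z := by
    rcases hh2z with e | e
    · refine ⟨h, hhT, hhb, e, hzh.symm, ?_⟩
      rw [huz', hv, inv_eq_of_mul_eq_one_left e]
    · refine ⟨h * u, mul_mem hhT hu.1, by rw [mul_smul, (Z.mem_T0.1 hu).2, hhb], ?_, ?_, ?_⟩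
      · calc h * u * (h * u) = (h * u * h⁻¹) * (h * h) * u := by group
          _ = v * z * u := by rw [e]
          _ = (u * z) * z * u := by rw [huz']
          _ = 1 := by rw [mul_assoc u z z, hsq z hzm, mul_one, hsq u hu]
      · rw [← mul_assoc, ← hzh, mul_assoc, hcomm _ hzm _ hu, ← mul_assoc]
      · calc h * u * u * (h * u) = h * h * u := by rw [mul_assoc h u u, hsq u hu, mul_one, ← mul_assoc]
          _ = u * z := by rw [e, hcomm _ hzm _ hu]
  exact ⟨{ Z with
      z := z, u := u, w := w, card_eight := hT8, zT := hzm, uT := hu, wT := hwT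
      zz := hsq z hzm, uu := hsq u hu, ww := hww, z_ne := hz1, u_ne := hu1, uz_ne := huz
      zu := hcomm _ hzm _ hu, zw := hzw, wuw := hwuw, wb := hwb
      T0_cases := hfour z u hzm hu hz1 hu1 huz }, rfl⟩

end Cfsg.Agent.DegThreeP
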