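/-
The odd part `K` of the centralizer of the central involution of the frame.

Main results: `exists_core`, `Core.mem_centralizer_g`.
-/
import Cfsg.Agent.Lib.DegThreeP.Frame

set_option autoImplicit false

namespace Cfsg.Agent.DegThreeP

open Cfsg MulAction

variable {p : ℕ} [Fact p.Prime] {G : Type*} [Group G] [Fintype G] {Ω : Type*} [Fintype Ω] [MulAction G Ω]

namespace Frame

variable {G' Ω' : Type*} [Group G'] [MulAction G' Ω'] (F : Frame G' Ω')

/-- The element of order four. -/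
def g : G' := F.w * F.u

theorem za : F.z • F.a = F.a := F.toTriple.T0_le_a F.zT
theorem zb : F.z • F.b = F.b := (F.toTriple.mem_T0.1 F.zT).2
theorem zb' : F.z • F.b' = F.b' := F.toTriple.T0_le_b' F.zT
theorem ua : F.u • F.a = F.a := F.toTriple.T0_le_a F.uT
theorem ub : F.u • F.b = F.b := (F.toTriple.mem_T0.1 F.uT).2
theorem ub' : F.u • F.b' = F.b' := F.toTriple.T0_le_b' F.uT
theorem wa : F.w • F.a = F.a := F.Ta F.wT
theorem wb' : F.w • F.b' = F.b := F.toTriple.swap F.wT F.wb

theorem z_inv : F.z⁻¹ = F.z := inv_eq_of_mul_eq_one_left F.zz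
theorem u_inv : F.u⁻¹ = F.u := inv_eq_of_mul_eq_one_left F.uu
theorem w_inv : F.w⁻¹ = F.w := inv_eq_of_mul_eq_one_left F.ww

theorem w_notMem : F.w ∉ F.toTriple.T0 := fun h =>
  F.hbb' ((F.toTriple.mem_T0.1 h).2.symm.trans F.wb)

theorem wu : F.w * F.u = F.u * F.z * F.w := by
  rw [← F.wuw, mul_assoc, F.ww, mul_one]

theorem g_sq : F.g * F.g = F.z := by
  rw [g, ← mul_assoc, F.wuw, mul_assoc, F.zu, ← mul_assoc, F.uu, one_mul]

theorem g_b : F.g • F.b = F.b' := by rw [g, mul_smul, F.ub, F.wb]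
theorem g_b' : F.g • F.b' = F.b := by rw [g, mul_smul, F.ub', F.wb']
theorem g_a : F.g • F.a = F.a := by rw [g, mul_smul, F.ua, F.wa]
theorem g_mem : F.g ∈ (F.T : Subgroup G') := mul_mem F.wT F.uT.1

theorem g_z : F.g * F.z = F.z * F.g := by
  rw [g, mul_assoc, ← F.zu, ← mul_assoc, ← F.zw, mul_assoc]

theorem w_g : F.w * F.g * F.w = F.g⁻¹ := by
  refine eq_inv_of_mul_eq_one_left ?_
  calc F.w * F.g * F.w * F.g = (F.w * F.w) * F.u * (F.w * F.w) * F.u := by rw [g]; group
    _ = 1 := by rw [F.ww, one_mul, mul_one, F.uu]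

theorem g_inv : F.g⁻¹ = F.z * F.g := by
  refine (eq_inv_of_mul_eq_one_left ?_).symm
  rw [mul_assoc, F.g_sq, F.zz]

theorem g_ne_one : F.g ≠ 1 := fun h => F.z_ne (by rw [← F.g_sq, h, one_mul])

theorem orderOf_z : orderOf F.z = 2 := orderOf_eq_prime (by rw [pow_two, F.zz]) F.z_ne

theorem orderOf_g : orderOf F.g = 4 := by
  have h : orderOf F.g = 2 ^ (1 + 1) := orderOf_eq_prime_pow
    (by rw [pow_one, pow_two, F.g_sq]; exact F.z_ne)
    (by rw [show 2 ^ (1 + 1) = 2 * 2 from rfl, pow_mul, pow_two F.g, F.g_sq, pow_two, F.zz])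
  simpa using h

theorem T_cases {x : G'} (hx : x ∈ (F.T : Subgroup G')) : x ∈ F.toTriple.T0 ∨ x * F.w ∈ F.toTriple.T0 := by
  rcases F.Tb x hx with h | h
  · exact Or.inl (F.toTriple.mem_T0.2 ⟨hx, h⟩)
  · refine Or.inr (F.toTriple.mem_T0.2 ⟨mul_mem hx F.wT, ?_⟩)
    rw [mul_smul, F.wb]
    exact F.toTriple.swap hx h

theorem T_list {x : G'} (hx : x ∈ (F.T : Subgroup G')) :
    x = 1 ∨ x = F.z ∨ x = F.u ∨ x = F.u * F.z ∨ x = F.w ∨ x = F.z * F.w ∨ x = F.u * F.w ∨ x = F.g := by
  rcases F.T_cases hx with h | h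
  · rcases F.T0_cases x h with e | e | e | e <;> simp [e]
  · have hx' : x = x * F.w * F.w := by rw [mul_assoc, F.ww, mul_one]
    rcases F.T0_cases _ h with e | e | e | e <;> rw [e] at hx'
    · rw [one_mul] at hx'; simp [hx']
    · simp [hx']
    · simp [hx']
    · rw [← F.wu] at hx'
      simp [hx', g]

theorem commute_z {x : G'} (hx : x ∈ (F.T : Subgroup G')) : x * F.z = F.z * x := by
  have h0 : ∀ y ∈ F.toTriple.T0, y * F.z = F.z * y := fun y hy => by
    rcases F.T0_cases y hy with e | e | e | e <;> rw [e]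
    · rw [one_mul, mul_one]
    · exact F.zu.symm
    · rw [mul_assoc, ← mul_assoc F.z, F.zu, mul_assoc]
  rcases F.T_cases hx with h | h
  · exact h0 x h
  · have h' := h0 _ h
    rw [mul_assoc, ← F.zw, ← mul_assoc, ← mul_assoc] at h'
    exact mul_right_cancel h'

end Frame

/-- The frame with the odd elements of the centralizer of `z`. -/
structure Core (G Ω : Type*) [Group G] [MulAction G Ω] extends Frame G Ω where
  K : Subgroup G
  mem_K : ∀ x : G, x ∈ K ↔ x * z = z * x ∧ Odd (orderOf x)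
  conj_K : ∀ x : G, x * z = z * x → ∀ k ∈ K, x * k * x⁻¹ ∈ K
  decomp : ∀ x : G, x * z = z * x → ∃ k ∈ K, ∃ t ∈ (T : Subgroup G), x = k * t
  card_C : Nat.card (Subgroup.centralizer ({z} : Set G)) = 8 * Nat.card K

variable [IsSimpleGroup G] [IsPretransitive G Ω] [FaithfulSMul G Ω]
variable (X : Ctx p G Ω) (hf : X.f = 3)

include hf in
theorem exists_core (F : Frame G Ω) : ∃ C : Core G Ω, C.toFrame = F := by
  classical
  have := Fact.mk Nat.prime_two
  set C := Subgroup.centralizer ({F.z} : Set G) with hC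
  have memC : ∀ {x : G}, x ∈ C ↔ x * F.z = F.z * x := fun {x} => Subgroup.mem_centralizer_singleton_iff
  have hmaps : ∀ (x : C) (y : Ω), y ∈ fixedBy Ω F.z → (x : G) • y ∈ fixedBy Ω F.z := fun x y hy => by
    rw [mem_fixedBy, ← mul_smul, ← memC.1 x.2, mul_smul, hy]
  letI : MulAction C (fixedBy Ω F.z) :=
    { smul := fun x y => ⟨(x : G) • y.1, hmaps x y.1 y.2⟩
      one_smul := fun y => Subtype.ext (one_smul G y.1)
      mul_smul := fun x x' y => Subtype.ext (mul_smul (x : G) (x' : G) y.1) }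
  let s : C →* ℤˣ := Equiv.Perm.sign.comp (toPermHom C (fixedBy Ω F.z))
  set N1 := s.ker
  have hTC : (F.T : Subgroup G) ≤ C := fun x hx => memC.2 (F.commute_z hx)
  have hsT0 : ∀ x : C, (x : G) ∈ F.toTriple.T0 → x ∈ N1 := by
    intro x hx
    rw [MonoidHom.mem_ker]
    have e : toPermHom C (fixedBy Ω F.z) x = 1 := Equiv.ext fun y => Subtype.ext (by
      show (x : G) • y.1 = y.1
      rcases fix_three X hf F.zz F.z_ne F.hab F.hab' F.hbb' F.za F.zb F.zb' y.2 with e | e | e <;> rw [e]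
      · exact F.toTriple.T0_le_a hx
      · exact (F.toTriple.mem_T0.1 hx).2
      · exact F.toTriple.T0_le_b' hx)
    show Equiv.Perm.sign (toPermHom C (fixedBy Ω F.z) x) = 1
    rw [e, map_one]
  let wC : C := ⟨F.w, hTC F.wT⟩
  have hw : wC ∉ N1 := by
    rw [MonoidHom.mem_ker]
    have e : toPermHom C (fixedBy Ω F.z) wC = Equiv.swap (⟨F.b, F.zb⟩ : fixedBy Ω F.z) ⟨F.b', F.zb'⟩ := by
      refine Equiv.ext fun y => ?_
      rcases fix_three X hf F.zz F.z_ne F.hab F.hab' F.hbb' F.za F.zb F.zb' y.2 with e | e | e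
      · rw [Equiv.swap_apply_of_ne_of_ne (fun h => F.hab (e.symm.trans (congrArg Subtype.val h)))
          (fun h => F.hab' (e.symm.trans (congrArg Subtype.val h)))]
        exact Subtype.ext (show F.w • y.1 = y.1 by rw [e, F.wa])
      · rw [show y = ⟨F.b, F.zb⟩ from Subtype.ext e, Equiv.swap_apply_left]
        exact Subtype.ext F.wb
      · rw [show y = ⟨F.b', F.zb'⟩ from Subtype.ext e, Equiv.swap_apply_right]
        exact Subtype.ext F.wb'
    show ¬ Equiv.Perm.sign (toPermHom C (fixedBy Ω F.z) wC) = 1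
    rw [e, Equiv.Perm.sign_swap (fun h => F.hbb' (congrArg Subtype.val h))]
    decide
  have hodd_mem : ∀ x : C, Odd (orderOf x) → x ∈ N1 := by
    intro x hx
    rw [MonoidHom.mem_ker]
    rcases Int.units_eq_one_or (s x) with h | h
    · exact h
    · exfalso
      have h1 : s x ^ orderOf x = 1 := by rw [← map_pow, pow_orderOf_eq_one, map_one]
      rw [h, hx.neg_one_pow] at h1
      exact absurd h1 (by decide)
  have hidx : N1.index = 2 := by
    rw [Subgroup.index_ker, MonoidHom.range_eq_top.2, Subgroup.card_top, Nat.card_eq_fintype_card,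
      Fintype.card_units_int]
    intro q
    rcases Int.units_eq_one_or q with h | h
    · exact ⟨1, by rw [map_one, h]⟩
    · refine ⟨wC, ?_⟩
      rw [h]
      exact (Int.units_eq_one_or _).resolve_left fun e => hw (MonoidHom.mem_ker.2 e)
  -- the four group is a Sylow subgroup of `N1`
  have hv2C : (Nat.card C).factorization 2 = 3 := by
    have h1 := card_T_eq F.T
    rw [F.card_eight, show (8 : ℕ) = 2 ^ 3 from rfl] at h1
    rw [hC, X.card_centralizer_involution F.zz F.z_ne, X.v2_c]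
    exact (Nat.pow_right_injective (le_refl 2) h1).symm
  have hv2N : (Nat.card N1).factorization 2 = 2 := by
    have h := N1.card_mul_index
    rw [hidx] at h
    rw [← h, v2_mul Nat.card_pos.ne' two_ne_zero, v2_two] at hv2C
    omega
  let T0C : Subgroup C := F.toTriple.T0.subgroupOf C
  have hle : T0C ≤ N1 := fun x hx => hsT0 x hx
  have hcT0C : Nat.card (T0C.subgroupOf N1) = 2 ^ 2 := by
    rw [Nat.card_congr (Subgroup.subgroupOfEquivOfLe hle).toEquiv,
      Nat.card_congr (Subgroup.subgroupOfEquivOfLe (H := F.toTriple.T0) (inf_le_left.trans hTC)).toEquiv]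
    have := F.toTriple.card_T
    rw [F.card_eight] at this
    rw [show (2:ℕ) ^ 2 = 4 from rfl]
    omega
  let P : Sylow 2 N1 := Sylow.ofCard (T0C.subgroupOf N1) (by rw [hcT0C, hv2N])
  have hPmem : ∀ x : N1, x ∈ (P : Subgroup N1) ↔ ((x : C) : G) ∈ F.toTriple.T0 := fun x => Iff.rfl
  have hcen : Subgroup.normalizer ((P : Subgroup N1) : Set N1) ≤ Subgroup.centralizer ((P : Subgroup N1) : Set N1) := by
    intro n hn
    set m : G := ((n : C) : G) with hm
    have hmz : m * F.z = F.z * m := memC.1 (n : C).2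
    -- a 2-power of `n` lies in the four group
    obtain ⟨j, o, ho, hord⟩ := Nat.exists_eq_pow_mul_and_not_dvd (orderOf_pos n).ne' 2 (by norm_num)
    have hmu : m * F.u * m⁻¹ = F.u := by
      have hu1 : (⟨⟨F.u, hTC F.uT.1⟩, hsT0 _ F.uT⟩ : N1) ∈ (P : Subgroup N1) := (hPmem _).2 F.uT
      have hcu : m * F.u * m⁻¹ ∈ F.toTriple.T0 :=
        (hPmem _).1 ((Subgroup.mem_normalizer_iff.1 hn _).1 hu1)
      rcases F.T0_cases _ hcu with e | e | e | e
      · exact absurd (conj_eq_one_iff.1 e) F.u_ne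
      · exfalso
        have h2 : m * F.u * m⁻¹ = m * F.z * m⁻¹ := by rw [e, hmz, mul_inv_cancel_right]
        exact F.uz_ne (mul_left_cancel (mul_right_cancel h2))
      · exact e
      · exfalso
        have hmuz : m * (F.u * F.z) * m⁻¹ = F.u := by
          calc m * (F.u * F.z) * m⁻¹ = (m * F.u * m⁻¹) * (m * F.z * m⁻¹) := by group
            _ = F.u := by rw [e, hmz, mul_inv_cancel_right, mul_assoc, F.zz, mul_one]
        have hpow : ∀ i : ℕ, m ^ i * F.u * (m ^ i)⁻¹ = if Even i then F.u else F.u * F.z := by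
          intro i
          induction i with
          | zero => simp
          | succ i ih =>
            rw [pow_succ', mul_inv_rev, show m * m ^ i * F.u * ((m ^ i)⁻¹ * m⁻¹) = m * (m ^ i * F.u * (m ^ i)⁻¹) * m⁻¹ by group, ih]
            by_cases hi : Even i
            · rw [if_pos hi, if_neg (by simpa [Nat.even_add_one] using hi), e]
            · rw [if_neg hi, if_pos (Nat.even_add_one.2 hi), hmuz]
        have h2g : IsPGroup 2 (Subgroup.zpowers (n ^ o)) := by
          refine IsPGroup.of_card (n := j) ?_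
          rw [Nat.card_zpowers, orderOf_pow, hord, Nat.gcd_mul_left_left,
            Nat.mul_div_cancel _ (Nat.pos_of_ne_zero (fun e => ho (by rw [e]; exact dvd_zero _)))]
        have hin : n ^ o ∈ (P : Subgroup N1) := by
          have h : Subgroup.zpowers (n ^ o) ⊓ Subgroup.normalizer ((P : Subgroup N1) : Set N1) =
              Subgroup.zpowers (n ^ o) ⊓ (P : Subgroup N1) := h2g.inf_normalizer_sylow P
          have hmem : n ^ o ∈ Subgroup.zpowers (n ^ o) ⊓ Subgroup.normalizer ((P : Subgroup N1) : Set N1) :=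
            ⟨Subgroup.mem_zpowers _, pow_mem hn _⟩
          rw [h] at hmem
          exact hmem.2
        have hmo : m ^ o ∈ F.toTriple.T0 := (hPmem _).1 hin
        have hcom : m ^ o * F.u * (m ^ o)⁻¹ = F.u := by
          rcases F.T0_cases _ hmo with e' | e' | e' | e' <;> rw [e']
          · group
          · rw [F.zu, mul_inv_cancel_right]
          · rw [mul_inv_cancel_right]
          · rw [mul_assoc F.u F.z F.u, F.zu, ← mul_assoc, F.uu, one_mul, mul_inv_rev, ← mul_assoc,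
              mul_inv_cancel, one_mul, F.u_inv]
        rw [hpow o, if_neg (fun h => ho (even_iff_two_dvd.1 h))] at hcom
        exact F.z_ne (mul_eq_left.1 hcom)
    rw [Subgroup.mem_centralizer_iff]
    intro x hx
    have hxm : ((x : C) : G) * m = m * ((x : C) : G) := by
      have hu' : F.u * m = m * F.u := (mul_inv_eq_iff_eq_mul.1 hmu).symm
      rcases F.T0_cases _ ((hPmem x).1 hx) with e | e | e | e <;> rw [e]
      · rw [one_mul, mul_one]
      · exact hmz.symm
      · exact hu'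
      · rw [mul_assoc, ← hmz, ← mul_assoc, hu', mul_assoc]
    exact Subtype.ext (Subtype.ext hxm)
  obtain ⟨K1, hK1n, hK1, hK1c⟩ := exists_odd_subgroup_of_central P hcen
  set K : Subgroup G := (K1.map N1.subtype).map C.subtype with hKdef
  have hmemK : ∀ x : G, x ∈ K ↔ x * F.z = F.z * x ∧ Odd (orderOf x) := by
    intro x
    constructor
    · rintro ⟨y, ⟨n, hn, rfl⟩, rfl⟩
      refine ⟨memC.1 (n : C).2, ?_⟩
      have := (hK1 n).1 hn
      rwa [← Subgroup.orderOf_coe n, ← Subgroup.orderOf_coe (n : C)] at this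
    · rintro ⟨hxz, hxo⟩
      have hxo' : Odd (orderOf (⟨x, memC.2 hxz⟩ : C)) := by rwa [Subgroup.orderOf_mk]
      refine ⟨⟨x, memC.2 hxz⟩, ⟨⟨⟨x, memC.2 hxz⟩, hodd_mem _ hxo'⟩, (hK1 _).2 ?_, rfl⟩, rfl⟩
      rw [Subgroup.orderOf_mk]; exact hxo'
  have hcK : Nat.card C = 8 * Nat.card K := by
    rw [hKdef, Subgroup.card_map_of_injective C.subtype_injective,
      Subgroup.card_map_of_injective N1.subtype_injective, ← N1.card_mul_index, hidx, ← hK1c]
    have : Nat.card (P : Subgroup N1) = 2 ^ 2 := hcT0C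
    rw [this]
    ring
  have hconjK : ∀ x : G, x * F.z = F.z * x → ∀ k ∈ K, x * k * x⁻¹ ∈ K := by
    intro x hx k hk
    obtain ⟨h1, h2⟩ := (hmemK k).1 hk
    refine (hmemK _).2 ⟨?_, ?_⟩
    · exact memC.1 (mul_mem (mul_mem (memC.2 hx) (memC.2 h1)) (inv_mem (memC.2 hx)))
    · rwa [← MulAut.conj_apply, MulEquiv.orderOf_eq]
  have hdis : ∀ x ∈ K, x ∈ (F.T : Subgroup G) → x = 1 := by
    intro x hxK hxT
    obtain ⟨i, hi⟩ := IsPGroup.iff_orderOf.1 F.T.2 ⟨x, hxT⟩
    rw [← Subgroup.orderOf_coe] at hi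
    have h := ((hmemK x).1 hxK).2
    change orderOf x = 2 ^ i at hi
    rcases i with _ | i
    · rw [pow_zero] at hi; exact orderOf_eq_one_iff.1 hi
    · rw [hi, pow_succ, Nat.odd_mul] at h; exact absurd h.2 (by decide)
  refine ⟨{ F with
      K := K, mem_K := hmemK, conj_K := hconjK, card_C := hcK, decomp := fun x hx => ?_ }, rfl⟩
  let φ : K × (F.T : Subgroup G) → C := fun q => ⟨(q.1 : G) * q.2, mul_mem (memC.2 ((hmemK _).1 q.1.2).1) (hTC q.2.2)⟩
  have hφ : Function.Bijective φ := by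
    refine (Nat.bijective_iff_injective_and_card φ).2 ⟨?_, by rw [Nat.card_prod, F.card_eight, hcK, mul_comm]⟩
    rintro ⟨k, t⟩ ⟨k', t'⟩ e
    have e' : (k : G) * t = k' * t' := congrArg Subtype.val e
    have h : (k' : G)⁻¹ * k = (t' : G) * (t : G)⁻¹ := by
      rw [eq_mul_inv_iff_mul_eq, mul_assoc, e', inv_mul_cancel_left]
    have h1 := hdis _ (mul_mem (inv_mem k'.2) k.2) (h ▸ mul_mem t'.2 (inv_mem t.2))
    have hk : k' = k := Subtype.ext (inv_mul_eq_one.1 h1)
    subst hk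
    exact Prod.ext rfl (Subtype.ext (mul_left_cancel e'))
  obtain ⟨⟨k, t⟩, e⟩ := hφ.2 ⟨x, memC.2 hx⟩
  exact ⟨k, k.2, t, t.2, (congrArg Subtype.val e).symm⟩

namespace Core

variable {G' Ω' : Type*} [Group G'] [MulAction G' Ω'] (C : Core G' Ω')

theorem K_cent {x : G'} (hx : x ∈ C.K) : x * C.z = C.z * x := ((C.mem_K x).1 hx).1

theorem K_odd {x : G'} (hx : x ∈ C.K) : Odd (orderOf x) := ((C.mem_K x).1 hx).2

theorem odd_card [Finite G'] : Odd (Nat.card C.K) := by
  rw [← Nat.not_even_iff_odd, even_iff_two_dvd]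
  intro h
  have := Fact.mk Nat.prime_two
  obtain ⟨⟨x, hx⟩, hxo⟩ := exists_prime_orderOf_dvd_card' 2 h
  rw [Subgroup.orderOf_mk] at hxo
  have := C.K_odd hx
  rw [hxo] at this
  exact absurd this (by decide)

theorem eq_one_of_mem_T {x : G'} (hxK : x ∈ C.K) (hxT : x ∈ (C.T : Subgroup G')) : x = 1 := by
  obtain ⟨i, hi⟩ := IsPGroup.iff_orderOf.1 C.T.2 ⟨x, hxT⟩
  rw [← Subgroup.orderOf_coe] at hi
  change orderOf x = 2 ^ i at hi
  have h := C.K_odd hxK
  rcases i with _ | i
  · rw [pow_zero] at hi; exact orderOf_eq_one_iff.1 hi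
  · rw [hi, pow_succ, Nat.odd_mul] at h; exact absurd h.2 (by decide)

theorem decomp_unique {k k' t t' : G'} (hk : k ∈ C.K) (hk' : k' ∈ C.K) (ht : t ∈ (C.T : Subgroup G'))
    (ht' : t' ∈ (C.T : Subgroup G')) (e : k * t = k' * t') : k = k' ∧ t = t' := by
  have h : k'⁻¹ * k = t' * t⁻¹ := by rw [eq_mul_inv_iff_mul_eq, mul_assoc, e, inv_mul_cancel_left]
  have h1 := C.eq_one_of_mem_T (mul_mem (inv_mem hk') hk) (h ▸ mul_mem ht' (inv_mem ht))
  obtain rfl := inv_mul_eq_one.1 h1
  exact ⟨rfl, mul_left_cancel e⟩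

/-- The elements commuting with `g`. -/
theorem mem_centralizer_g {x : G'} (hx : x * C.g = C.g * x) :
    ∃ k ∈ C.K, k * C.g = C.g * k ∧ ∃ i : ℕ, i < 4 ∧ x = k * C.g ^ i := by
  have hxz : x * C.z = C.z * x := by
    rw [← C.g_sq, ← mul_assoc, hx, mul_assoc, hx, ← mul_assoc]
  obtain ⟨k, hk, t, ht, rfl⟩ := C.decomp x hxz
  have hkc : C.g * k * C.g⁻¹ ∈ C.K := C.conj_K _ C.g_z k hk
  have e : k * (t * C.g) = C.g * k * C.g⁻¹ * (C.g * t) := by
    rw [← mul_assoc, hx]; group
  obtain ⟨e1, e2⟩ := C.decomp_unique hk hkc (mul_mem ht C.g_mem) (mul_mem C.g_mem ht) e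
  refine ⟨k, hk, (eq_mul_inv_iff_mul_eq.1 e1), ?_⟩
  have hzg : C.g ^ 2 = C.z := by rw [pow_two, C.g_sq]
  have hwg : C.w * C.g = C.z * C.g * C.w := by
    rw [← C.g_inv, ← C.w_g, mul_assoc (C.w * C.g), C.ww, mul_one]
  have hbad : ∀ d : G', d * C.g = C.g * d → t = d * C.w → False := fun d hd htd => by
    rw [htd] at e2
    have h3 : d * C.g * C.w = d * C.z * (C.g * C.w) := by
      calc d * C.g * C.w = C.g * d * C.w := by rw [hd]
        _ = d * C.w * C.g := by rw [mul_assoc C.g, ← e2]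
        _ = d * C.z * (C.g * C.w) := by rw [mul_assoc d C.w, hwg]; group
    rw [← mul_assoc (d * C.z)] at h3
    exact C.z_ne (mul_eq_left.1 (mul_right_cancel (mul_right_cancel h3)).symm)
  rcases C.T_list ht with h | h | h | h | h | h | h | h
  · exact ⟨0, by norm_num, by rw [h, pow_zero]⟩
  · exact ⟨2, by norm_num, by rw [h, hzg]⟩
  · exfalso
    refine hbad (C.u * C.w) ?_ (by rw [h, mul_assoc, C.ww, mul_one])
    have e' : C.u * C.w = C.g⁻¹ := by rw [Frame.g, mul_inv_rev, C.w_inv, C.u_inv]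
    rw [e', inv_mul_cancel, mul_inv_cancel]
  · exfalso
    refine hbad C.g rfl ?_
    rw [h, Frame.g, C.wu, mul_assoc, C.ww, mul_one]
  · exact (hbad 1 (by rw [one_mul, mul_one]) (by rw [h, one_mul])).elim
  · exact (hbad C.z C.g_z.symm h).elim
  · refine ⟨3, by norm_num, ?_⟩
    rw [h, pow_succ, hzg, ← C.g_inv, Frame.g, mul_inv_rev, C.w_inv, C.u_inv]
  · exact ⟨1, by norm_num, by rw [h, pow_one]⟩

end Core

end Cfsg.Agent.DegThreeP
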