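/-
Character sums over the sections of `z` and `g`.

Main results: `sum_sect_sq`, `sum_sect_conj_single`, `Core.exists_qs`, `Core.sum_g_sq`, `Core.sum_z_sq`.
-/
import Cfsg.Agent.Lib.DegThreeP.Core

set_option autoImplicit false

namespace Cfsg.Agent.DegThreeP

open Cfsg Cfsg.Agent.Char MulAction
open Cfsg.Agent.Perm.Orbital (pi)
open scoped ComplexConjugate

variable {G : Type*} [Group G]

/-- The mean value of a function on the coset `h L`. -/
noncomputable def sect (L : Subgroup G) [Fintype L] (h : G) (χ : G → ℂ) : ℂ :=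
  (Nat.card L : ℂ)⁻¹ * ∑ y : L, χ (h * y)

theorem sect_add_const (L : Subgroup G) [Fintype L] (h : G) {χ ψ : G → ℂ} {c : ℂ}
    (e : ∀ y : L, χ (h * y) = ψ (h * y) + c) : sect L h χ = sect L h ψ + c := by
  have hL : (Nat.card L : ℂ) ≠ 0 := Nat.cast_ne_zero.2 Nat.card_pos.ne'
  rw [sect, sect, Finset.sum_congr rfl fun y _ => e y, Finset.sum_add_distrib, Finset.sum_const,
    Finset.card_univ, ← Nat.card_eq_fintype_card, nsmul_eq_mul, mul_add, ← mul_assoc, inv_mul_cancel₀ hL,
    one_mul]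

theorem sect_const (L : Subgroup G) [Fintype L] (h : G) {χ : G → ℂ} {c : ℂ}
    (e : ∀ y : L, χ (h * y) = c) : sect L h χ = c := by
  have h0 : sect L h (fun _ => (0 : ℂ)) = 0 := by simp [sect]
  rw [sect_add_const L h (ψ := fun _ => (0 : ℂ)) (c := c) (fun y => by rw [e y, zero_add]), h0, zero_add]

variable [Fintype G]

/-- Orthogonality of a section with itself. -/
theorem sum_sect_sq [Fintype (IrrCharacter G)] {h : G} (L : Subgroup G) [Fintype L]
    (hL : ∀ x : G, x ∈ L ↔ x * h = h * x ∧ Odd (orderOf x)) (hcop : (orderOf h).Coprime (Nat.card L)) :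
    ∑ χ : IrrCharacter G, sect L h (χ : G → ℂ) * conj (sect L h (χ : G → ℂ)) =
      (Nat.card (Subgroup.centralizer ({h} : Set G)) : ℂ) / (Nat.card L : ℂ) := by
  classical
  have hcomm : ∀ z : L, Commute h (z : G) := fun z => ((hL z).1 z.2).1.symm
  have hc : ∀ g : G, g * h = h * g → ∀ y : L, g * (h * y) * g⁻¹ = h * (g * y * g⁻¹) := by
    intro g hg y
    rw [← mul_assoc g, hg]; group
  have step : ∀ y y' : L, ∑ χ : IrrCharacter G, (χ : G → ℂ) (h * y) * conj ((χ : G → ℂ) (h * y')) =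
      ((Finset.univ.filter fun g : G => g * (h * y) * g⁻¹ = h * y').card : ℂ) := by
    intro y y'
    rw [column_orth (h * (y : G)) (h * y')]
    split_ifs with hh
    · obtain ⟨c, hc'⟩ := isConj_iff.1 hh
      rw [← Fintype.card_coe, ← Nat.card_eq_fintype_card]
      congr 1
      refine Nat.card_congr
        { toFun := fun z => ⟨c * z.1, Finset.mem_filter.2 ⟨Finset.mem_univ _, ?_⟩⟩
          invFun := fun g => ⟨c⁻¹ * g.1, ?_⟩
          left_inv := fun z => by simp
          right_inv := fun g => by simp }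
      · have hz := Subgroup.mem_centralizer_singleton_iff.1 z.2
        calc c * z.1 * (h * y) * (c * z.1)⁻¹ = c * (z.1 * (h * y)) * z.1⁻¹ * c⁻¹ := by group
          _ = c * (h * y) * c⁻¹ := by rw [hz]; group
          _ = _ := hc'
      · have hg := (Finset.mem_filter.1 g.2).2
        rw [Subgroup.mem_centralizer_singleton_iff]
        calc c⁻¹ * g.1 * (h * y) = c⁻¹ * (g.1 * (h * y) * g.1⁻¹) * c * (c⁻¹ * g.1) := by group
          _ = c⁻¹ * (c * (h * y) * c⁻¹) * c * (c⁻¹ * g.1) := by rw [hg, hc']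
          _ = _ := by group
    · rw [Finset.filter_false_of_mem fun g _ hg => hh (isConj_iff.2 ⟨g, hg⟩), Finset.card_empty, Nat.cast_zero]
  obtain ⟨m, hm⟩ := exists_pow_eq_self_of_coprime hcop.symm
  have fib : ∀ y : L, ∑ y' : L, (Finset.univ.filter fun g : G => g * (h * y) * g⁻¹ = h * y').card =
      Nat.card (Subgroup.centralizer ({h} : Set G)) := by
    intro y
    rw [Nat.card_eq_fintype_card, Fintype.card_subtype, ← Finset.card_biUnion]
    · congr 1
      ext g
      simp only [Finset.mem_biUnion, Finset.mem_univ, true_and, Finset.mem_filter]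
      constructor
      · rintro ⟨y', hy'⟩
        have pw : ∀ z : L, (h * (z : G)) ^ Nat.card L = h ^ Nat.card L := by
          intro z
          have h1 : (z : G) ^ Nat.card L = 1 := by rw [← Subgroup.coe_pow, pow_card_eq_one']; rfl
          rw [(hcomm z).mul_pow, h1, mul_one]
        have h' := congrArg (· ^ Nat.card L) hy'
        simp only [conj_pow, pw] at h'
        rw [Subgroup.mem_centralizer_singleton_iff]
        have h2 : Commute g (h ^ Nat.card L) := mul_inv_eq_iff_eq_mul.1 h'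
        rw [← hm]
        exact (h2.pow_right m).eq
      · intro hg
        have hg' := Subgroup.mem_centralizer_singleton_iff.1 hg
        have hmem : g * (y : G) * g⁻¹ ∈ L := by
          refine (hL _).2 ⟨?_, ?_⟩
          · have hy := ((hL y).1 y.2).1
            exact Subgroup.mem_centralizer_singleton_iff.1
              (mul_mem (mul_mem hg (Subgroup.mem_centralizer_singleton_iff.2 hy)) (inv_mem hg))
          · rw [← MulAut.conj_apply, MulEquiv.orderOf_eq]; exact ((hL y).1 y.2).2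
        exact ⟨⟨_, hmem⟩, hc g hg' y⟩
    · intro a _ b _ hab
      refine Finset.disjoint_left.2 fun g ha hb => hab (Subtype.ext (mul_left_cancel (a := h) ?_))
      exact ((Finset.mem_filter.1 ha).2).symm.trans (Finset.mem_filter.1 hb).2
  have hS : ∑ χ : IrrCharacter G, (∑ y : L, (χ : G → ℂ) (h * y)) * conj (∑ y : L, (χ : G → ℂ) (h * y)) =
      (Nat.card L : ℂ) * (Nat.card (Subgroup.centralizer ({h} : Set G)) : ℂ) := by
    simp only [map_sum, Finset.sum_mul_sum]
    rw [Finset.sum_comm, Finset.sum_congr rfl fun y _ => Finset.sum_comm,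
      Finset.sum_congr rfl fun y _ => Finset.sum_congr rfl fun y' _ => step y y']
    simp_rw [← Nat.cast_sum, fib]
    simp [Nat.card_eq_fintype_card]
  have hL0 : (Nat.card L : ℂ) ≠ 0 := Nat.cast_ne_zero.2 Nat.card_pos.ne'
  simp only [sect, map_mul, map_inv₀, map_natCast]
  rw [Finset.sum_congr rfl (g := fun χ : IrrCharacter G => (Nat.card L : ℂ)⁻¹ * (Nat.card L : ℂ)⁻¹ *
    ((∑ y : L, (χ : G → ℂ) (h * y)) * conj (∑ y : L, (χ : G → ℂ) (h * y)))) (fun χ _ => by ring),
    ← Finset.mul_sum, hS]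
  field_simp

/-- A section against a single element. -/
theorem sum_sect_conj_single [Fintype (IrrCharacter G)] {h x : G} (L : Subgroup G) [Fintype L]
    [DecidableEq L] [∀ y : L, Decidable (IsConj (h * (y : G)) x)] :
    ∑ χ : IrrCharacter G, sect L h (χ : G → ℂ) * conj ((χ : G → ℂ) x) =
      (Nat.card L : ℂ)⁻¹ * ∑ y : L,
        if IsConj (h * (y : G)) x then (Nat.card (Subgroup.centralizer ({h * (y : G)} : Set G)) : ℂ) else 0 := by
  simp only [sect, Finset.sum_mul, mul_assoc, ← Finset.mul_sum]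
  rw [Finset.sum_comm]
  congr 1
  exact Finset.sum_congr rfl fun y _ => column_orth _ _

/-- Two sections with no conjugate elements are orthogonal. -/
theorem sum_sect_cross [Fintype (IrrCharacter G)] {h h' : G} (L L' : Subgroup G) [Fintype L] [Fintype L']
    (hne : ∀ (y : L) (y' : L'), ¬ IsConj (h * (y : G)) (h' * (y' : G))) :
    ∑ χ : IrrCharacter G, sect L h (χ : G → ℂ) * conj (sect L' h' (χ : G → ℂ)) = 0 := by
  classical
  simp only [sect, map_mul, map_sum]
  rw [Finset.sum_congr rfl (g := fun χ : IrrCharacter G => ((Nat.card L : ℂ)⁻¹ * conj (Nat.card L' : ℂ)⁻¹) *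
    ∑ y : L, ∑ y' : L', (χ : G → ℂ) (h * y) * conj ((χ : G → ℂ) (h' * y'))) (fun χ _ => by
      rw [← Finset.sum_mul_sum]; ring), ← Finset.mul_sum]
  rw [Finset.sum_comm, Finset.sum_eq_zero fun y _ => ?_, mul_zero]
  rw [Finset.sum_comm, Finset.sum_eq_zero fun y' _ => ?_]
  rw [column_orth, if_neg (hne y y')]

namespace Core

variable {Ω : Type*} [MulAction G Ω] (C : Core G Ω)

/-- `C_K(g)`. -/
def Kg : Subgroup G := C.K ⊓ Subgroup.centralizer ({C.g} : Set G)

theorem mem_Kg {x : G} : x ∈ C.Kg ↔ x ∈ C.K ∧ x * C.g = C.g * x :=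
  and_congr Iff.rfl Subgroup.mem_centralizer_singleton_iff

theorem mem_K' (x : G) : x ∈ C.K ↔ x * C.z = C.z * x ∧ Odd (orderOf x) := C.mem_K x

theorem mem_Kg' (x : G) : x ∈ C.Kg ↔ x * C.g = C.g * x ∧ Odd (orderOf x) := by
  rw [mem_Kg, C.mem_K]
  refine ⟨fun h => ⟨h.2, h.1.2⟩, fun h => ⟨⟨?_, h.2⟩, h.1⟩⟩
  rw [← C.g_sq, ← mul_assoc, h.1, mul_assoc, h.1, ← mul_assoc]

theorem coprime_g : (orderOf C.g).Coprime (Nat.card C.K) := by
  rw [C.orderOf_g, show 4 = 2 ^ 2 from rfl]
  exact (Nat.coprime_two_left.2 C.odd_card).pow_left 2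

theorem coprime_g' : (orderOf C.g).Coprime (Nat.card C.Kg) :=
  C.coprime_g.coprime_dvd_right (Subgroup.card_dvd_of_le inf_le_left)

theorem card_centralizer_g : Nat.card (Subgroup.centralizer ({C.g} : Set G)) = 4 * Nat.card C.Kg := by
  classical
  let φ : C.Kg × Fin 4 → Subgroup.centralizer ({C.g} : Set G) := fun q =>
    ⟨(q.1 : G) * C.g ^ (q.2 : ℕ), mul_mem (Subgroup.mem_centralizer_singleton_iff.2 (C.mem_Kg.1 q.1.2).2)
      (pow_mem (Subgroup.mem_centralizer_singleton_iff.2 rfl) _)⟩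
  have hφ : Function.Bijective φ := by
    constructor
    · rintro ⟨k, i⟩ ⟨k', i'⟩ e
      have e' : (k : G) * C.g ^ (i : ℕ) = k' * C.g ^ (i' : ℕ) := congrArg Subtype.val e
      obtain ⟨e1, e2⟩ := C.decomp_unique (C.mem_Kg.1 k.2).1 (C.mem_Kg.1 k'.2).1 (pow_mem C.g_mem _)
        (pow_mem C.g_mem _) e'
      refine Prod.ext (Subtype.ext e1) (Fin.ext ?_)
      exact pow_injOn_Iio_orderOf (by rw [Set.mem_Iio, C.orderOf_g]; exact i.2)
        (by rw [Set.mem_Iio, C.orderOf_g]; exact i'.2) e2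
    · rintro ⟨x, hx⟩
      obtain ⟨k, hk, hkg, i, hi, rfl⟩ := C.mem_centralizer_g (Subgroup.mem_centralizer_singleton_iff.1 hx)
      exact ⟨(⟨k, C.mem_Kg.2 ⟨hk, hkg⟩⟩, ⟨i, hi⟩), rfl⟩
  rw [← Nat.card_congr (Equiv.ofBijective φ hφ), Nat.card_prod, Nat.card_eq_fintype_card (α := Fin 4),
    Fintype.card_fin, mul_comm]

theorem sum_z_sq [Fintype (IrrCharacter G)] [Fintype C.K] :
    ∑ χ : IrrCharacter G, sect C.K C.z (χ : G → ℂ) * conj (sect C.K C.z (χ : G → ℂ)) = 8 := by
  rw [sum_sect_sq C.K C.mem_K' (by rw [C.orderOf_z]; exact Nat.coprime_two_left.2 C.odd_card), C.card_C]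
  have : (Nat.card C.K : ℂ) ≠ 0 := Nat.cast_ne_zero.2 Nat.card_pos.ne'
  push_cast
  field_simp

theorem sum_g_sq [Fintype (IrrCharacter G)] [Fintype C.Kg] :
    ∑ χ : IrrCharacter G, sect C.Kg C.g (χ : G → ℂ) * conj (sect C.Kg C.g (χ : G → ℂ)) = 4 := by
  rw [sum_sect_sq C.Kg C.mem_Kg' C.coprime_g', C.card_centralizer_g]
  have : (Nat.card C.Kg : ℂ) ≠ 0 := Nat.cast_ne_zero.2 Nat.card_pos.ne'
  push_cast
  field_simp

theorem zy_pow (y : C.K) : (C.z * (y : G)) ^ Nat.card C.K = C.z := by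
  have h1 : (y : G) ^ Nat.card C.K = 1 := by rw [← Subgroup.coe_pow, pow_card_eq_one']; rfl
  obtain ⟨k, hk⟩ := C.odd_card
  rw [(show Commute C.z (y : G) from (C.K_cent y.2).symm).mul_pow, h1, mul_one, hk, pow_succ, pow_mul,
    pow_two, C.zz, one_pow, one_mul]

theorem gy_pow (y : C.Kg) : (C.g * (y : G)) ^ (2 * Nat.card C.K) = C.z := by
  have h0 : (⟨(y : G), (C.mem_Kg.1 y.2).1⟩ : C.K) ^ Nat.card C.K = 1 := pow_card_eq_one'
  have h1 : (y : G) ^ Nat.card C.K = 1 := congrArg Subtype.val h0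
  obtain ⟨k, hk⟩ := C.odd_card
  rw [(show Commute C.g (y : G) from (C.mem_Kg.1 y.2).2.symm).mul_pow, mul_comm 2, pow_mul (y : G), h1,
    one_pow, mul_one, mul_comm (Nat.card C.K), pow_mul, pow_two, C.g_sq, hk, pow_succ, pow_mul, pow_two,
    C.zz, one_pow, one_mul]

theorem gy_ne (y : C.Kg) {x : G} (hx : x * x = 1) : ¬ IsConj (C.g * (y : G)) x := by
  intro h
  obtain ⟨c, hc⟩ := isConj_iff.1 h
  have e := congrArg (· ^ (2 * Nat.card C.K)) hc
  simp only [conj_pow, C.gy_pow] at e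
  rw [pow_mul, pow_two, hx, one_pow] at e
  exact C.z_ne (conj_eq_one_iff.1 e)

theorem zy_ne_gy (y : C.K) (y' : C.Kg) : ¬ IsConj (C.g * (y' : G)) (C.z * (y : G)) := by
  intro h
  obtain ⟨c, hc⟩ := isConj_iff.1 h
  have e := congrArg (· ^ (2 * Nat.card C.K)) hc
  simp only [conj_pow, C.gy_pow] at e
  rw [mul_comm 2, pow_mul, C.zy_pow, pow_two, C.zz] at e
  exact C.z_ne (conj_eq_one_iff.1 e)

theorem sum_gz [Fintype (IrrCharacter G)] [Fintype C.K] [Fintype C.Kg] :
    ∑ χ : IrrCharacter G, sect C.Kg C.g (χ : G → ℂ) * conj (sect C.K C.z (χ : G → ℂ)) = 0 :=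
  sum_sect_cross C.Kg C.K fun y y' => C.zy_ne_gy y' y

theorem sum_g_degree [Fintype (IrrCharacter G)] [Fintype C.Kg] :
    ∑ χ : IrrCharacter G, sect C.Kg C.g (χ : G → ℂ) * (χ : G → ℂ) 1 = 0 := by
  classical
  have h := sum_sect_conj_single (h := C.g) (x := (1 : G)) C.Kg
  rw [Finset.sum_eq_zero (s := (Finset.univ : Finset C.Kg)) (fun y _ => if_neg (C.gy_ne y (one_mul 1))),
    mul_zero] at h
  rw [← h]
  exact Finset.sum_congr rfl fun χ _ => by rw [IsCharacter.conj_apply_one (IsIrrCharacter.isCharacter χ.2)]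

theorem sum_g_col [Fintype (IrrCharacter G)] [Fintype C.Kg] :
    ∑ χ : IrrCharacter G, sect C.Kg C.g (χ : G → ℂ) * conj ((χ : G → ℂ) C.z) = 0 := by
  classical
  rw [sum_sect_conj_single, Finset.sum_eq_zero (fun y _ => if_neg (C.gy_ne y C.zz)), mul_zero]

theorem sum_z_degree [Fintype (IrrCharacter G)] [Fintype C.K] :
    ∑ χ : IrrCharacter G, sect C.K C.z (χ : G → ℂ) * (χ : G → ℂ) 1 = 0 := by
  classical
  have h := sum_sect_conj_single (h := C.z) (x := (1 : G)) C.K
  rw [Finset.sum_eq_zero (s := (Finset.univ : Finset C.K)) (fun y _ => if_neg fun e => C.z_ne ?_), mul_zero] at h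
  · rw [← h]
    exact Finset.sum_congr rfl fun χ _ => by rw [IsCharacter.conj_apply_one (IsIrrCharacter.isCharacter χ.2)]
  · rw [← C.zy_pow y, isConj_one_left.1 e, one_pow]

theorem sum_z_col [Fintype (IrrCharacter G)] [Fintype C.K] :
    ∑ χ : IrrCharacter G, sect C.K C.z (χ : G → ℂ) * conj ((χ : G → ℂ) C.z) = 8 := by
  classical
  rw [sum_sect_conj_single, Finset.sum_eq_single (1 : C.K) (fun y _ hy => if_neg fun e => hy ?_)
    (fun h => absurd (Finset.mem_univ _) h)]
  · rw [if_pos (by rw [Subgroup.coe_one, mul_one]), Subgroup.coe_one, mul_one, C.card_C]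
    have : (Nat.card C.K : ℂ) ≠ 0 := Nat.cast_ne_zero.2 Nat.card_pos.ne'
    push_cast
    field_simp
  · obtain ⟨c, hc⟩ := isConj_iff.1 e
    have h2 : (C.z * (y : G)) * (C.z * (y : G)) = 1 := by
      have e' : C.z * (y : G) = c⁻¹ * C.z * c := by
        calc C.z * (y : G) = c⁻¹ * (c * (C.z * (y : G)) * c⁻¹) * c := by group
          _ = _ := by rw [hc]
      rw [e', show c⁻¹ * C.z * c * (c⁻¹ * C.z * c) = c⁻¹ * (C.z * C.z) * c by group, C.zz, mul_one,
        inv_mul_cancel]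
    have h3 : (y : G) * y = 1 := by
      have hc' := (C.K_cent y.2).symm
      calc (y : G) * y = C.z * C.z * ((y : G) * y) := by rw [C.zz, one_mul]
        _ = C.z * (y : G) * (C.z * y) := by
          rw [mul_assoc C.z (y : G), ← mul_assoc (y : G) C.z, ← hc']; group
        _ = 1 := h2
    refine Subtype.ext (orderOf_eq_one_iff.1 ?_)
    have h4 := C.K_odd y.2
    rcases (Nat.dvd_prime Nat.prime_two).1 (orderOf_dvd_of_pow_eq_one (by rw [pow_two]; exact h3 : (y : G) ^ 2 = 1))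
      with h5 | h5
    · exact h5
    · rw [h5] at h4; exact absurd h4 (by decide)

end Core

end Cfsg.Agent.DegThreeP
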