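/-
Integrality and parity of the section means, and the values of the permutation character.

Main results: `Core.exists_qs`, `Core.sect_g_pi`, `Core.sect_z_pi`.
-/
import Cfsg.Agent.Lib.DegThreeP.Section

set_option autoImplicit false

namespace Cfsg.Agent.DegThreeP

open Cfsg Cfsg.Agent.Char MulAction
open Cfsg.Agent.Perm.Orbital (pi)
open scoped ComplexConjugate

variable {G : Type*} [Group G] [Fintype G] {Ω : Type*} [MulAction G Ω]

namespace Core

variable (C : Core G Ω)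

/-- A sum over the group generated by `K` and a subgroup of `T`. -/
theorem exists_sum_group {χ : G → ℂ} (hχ : IsCharacter G χ) (R : Subgroup G) [Fintype R] [Fintype C.K]
    (hR : R ≤ (C.T : Subgroup G)) :
    ∃ n : ℕ, ∑ r : R, sect C.K (r : G) χ = (Nat.card R : ℂ) * n := by
  classical
  have hRz : ∀ r ∈ R, r * C.z = C.z * r := fun r hr => C.commute_z (hR hr)
  let L : Subgroup G :=
    { carrier := {x | ∃ r ∈ R, ∃ k ∈ C.K, x = r * k}
      one_mem' := ⟨1, one_mem _, 1, one_mem _, (one_mul 1).symm⟩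
      mul_mem' := by
        rintro _ _ ⟨r, hr, k, hk, rfl⟩ ⟨r', hr', k', hk', rfl⟩
        refine ⟨r * r', mul_mem hr hr', r'⁻¹ * k * r' * k', mul_mem ?_ hk', by group⟩
        have := C.conj_K r'⁻¹ (C.commute_z (hR (inv_mem hr'))) k hk
        rwa [inv_inv] at this
      inv_mem' := by
        rintro _ ⟨r, hr, k, hk, rfl⟩
        exact ⟨r⁻¹, inv_mem hr, r * k⁻¹ * r⁻¹, C.conj_K r (hRz r hr) _ (inv_mem hk), by group⟩ }
  let φ : R × C.K → L := fun q => ⟨(q.1 : G) * q.2, q.1, q.1.2, q.2, q.2.2, rfl⟩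
  have hφ : Function.Bijective φ := by
    constructor
    · rintro ⟨r, k⟩ ⟨r', k'⟩ e
      have e' : (r : G) * k = r' * k' := congrArg Subtype.val e
      have h : (r' : G)⁻¹ * r = (k' : G) * (k : G)⁻¹ := by
        rw [eq_mul_inv_iff_mul_eq, mul_assoc, e', inv_mul_cancel_left]
      have h1 := C.eq_one_of_mem_T (h ▸ mul_mem k'.2 (inv_mem k.2)) (mul_mem (inv_mem (hR r'.2)) (hR r.2))
      obtain rfl : r' = r := Subtype.ext (inv_mul_eq_one.1 h1)
      exact Prod.ext rfl (Subtype.ext (mul_left_cancel e'))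
    · rintro ⟨x, r, hr, k, hk, rfl⟩
      exact ⟨(⟨r, hr⟩, ⟨k, hk⟩), rfl⟩
  have : Fintype L := Fintype.ofFinite L
  obtain ⟨n, hn⟩ := IsCharacter.classInner_nat (IsCharacter.restrict hχ L) (isCharacter_one (G := L))
  refine ⟨n, ?_⟩
  have hcard : Nat.card L = Nat.card R * Nat.card C.K := by
    rw [← Nat.card_congr (Equiv.ofBijective φ hφ), Nat.card_prod]
  have hK0 : (Nat.card C.K : ℂ) ≠ 0 := Nat.cast_ne_zero.2 Nat.card_pos.ne'
  have hR0 : (Nat.card R : ℂ) ≠ 0 := Nat.cast_ne_zero.2 Nat.card_pos.ne'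
  have e1 : ∑ y : L, χ y = (Nat.card L : ℂ) * (n : ℂ) := by
    rw [← hn, classInner, ← mul_assoc, mul_inv_cancel₀ (Nat.cast_ne_zero.2 Nat.card_pos.ne'), one_mul]
    simp
  rw [← Fintype.sum_equiv (Equiv.ofBijective φ hφ) _ _ (fun q => rfl), Fintype.sum_prod_type, hcard] at e1
  simp only [sect, ← Finset.mul_sum]
  rw [show (∑ r : R, ∑ y : C.K, χ ((r : G) * y)) = ((Nat.card R * Nat.card C.K : ℕ) : ℂ) * (n : ℂ) from e1]
  push_cast
  field_simp

theorem sect_conj_w [Fintype C.K] {χ : G → ℂ} (hχ : IsClassFunction G χ) (h : G) :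
    sect C.K (C.w * h * C.w) χ = sect C.K h χ := by
  have hw : ∀ y : C.K, C.w * (y : G) * C.w ∈ C.K := fun y => by
    have h := C.conj_K C.w C.zw.symm y y.2
    rwa [C.w_inv] at h
  let e : C.K ≃ C.K :=
    { toFun := fun y => ⟨C.w * y * C.w, hw y⟩
      invFun := fun y => ⟨C.w * y * C.w, hw y⟩
      left_inv := fun y => Subtype.ext (by
        show C.w * (C.w * (y : G) * C.w) * C.w = y
        simp only [mul_assoc]; rw [C.ww, mul_one, ← mul_assoc, C.ww, one_mul])
      right_inv := fun y => Subtype.ext (by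
        show C.w * (C.w * (y : G) * C.w) * C.w = y
        simp only [mul_assoc]; rw [C.ww, mul_one, ← mul_assoc, C.ww, one_mul]) }
  simp only [sect]
  congr 1
  refine Fintype.sum_equiv e _ _ fun y => ?_
  show χ (C.w * h * C.w * y) = χ (h * (C.w * (y : G) * C.w))
  rw [← hχ (h * (C.w * (y : G) * C.w)) C.w, C.w_inv]
  congr 1
  simp only [mul_assoc]
  rw [C.ww, mul_one]

theorem sect_Kg [Fintype C.K] [Fintype C.Kg] {χ : G → ℂ} (hχ : IsClassFunction G χ) :
    sect C.K C.g χ = sect C.Kg C.g χ := by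
  have h := sum_coset C.K (h := C.g) (fun y hy => C.conj_K _ C.g_z y hy) C.coprime_g C.Kg
    (fun y => C.mem_Kg.trans ⟨fun h => ⟨h.1, h.2.symm⟩, fun h => ⟨h.1, h.2.symm⟩⟩) hχ
  have h0 : (Nat.card C.K : ℂ) ≠ 0 := Nat.cast_ne_zero.2 Nat.card_pos.ne'
  have h1 : (Nat.card C.Kg : ℂ) ≠ 0 := Nat.cast_ne_zero.2 Nat.card_pos.ne'
  simp only [sect]
  field_simp
  linear_combination h

/-- The section means of `z` and `g` are integers of the same parity. -/
theorem exists_qs [Fintype C.K] [Fintype C.Kg] {χ : G → ℂ} (hχ : IsCharacter G χ) :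
    ∃ m n : ℤ, sect C.K C.z χ = (m : ℂ) ∧ sect C.Kg C.g χ = (n : ℂ) ∧ 2 ∣ m - n := by
  classical
  have hcl := IsCharacter.isClassFunction hχ
  obtain ⟨a, ha⟩ : ∃ a : ℕ, sect C.K (1 : G) χ = (a : ℂ) := by
    obtain ⟨n, hn⟩ := C.exists_sum_group hχ ⊥ bot_le
    refine ⟨n, ?_⟩
    simp only [Subgroup.card_bot, Nat.cast_one, one_mul] at hn
    rw [← hn, Fintype.sum_unique]
    congr 1
  -- the subgroup generated by `u`
  let R1 : Subgroup G :=
    { carrier := {x | x = 1 ∨ x = C.u}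
      one_mem' := Or.inl rfl
      mul_mem' := by
        rintro x y (rfl | rfl) (rfl | rfl)
        · exact Or.inl (one_mul 1)
        · exact Or.inr (one_mul _)
        · exact Or.inr (mul_one _)
        · exact Or.inl C.uu
      inv_mem' := by
        rintro x (rfl | rfl)
        · exact Or.inl inv_one
        · exact Or.inr C.u_inv }
  have hR1 : R1 ≤ (C.T : Subgroup G) := by
    rintro x (rfl | rfl)
    · exact one_mem _
    · exact C.uT.1
  obtain ⟨n1, hn1⟩ := C.exists_sum_group hχ R1 hR1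
  have hu1 : (Finset.univ : Finset R1) = {⟨1, Or.inl rfl⟩, ⟨C.u, Or.inr rfl⟩} := by
    ext ⟨x, hx⟩; rcases hx with rfl | rfl <;> simp
  have hd1 : (⟨1, Or.inl rfl⟩ : R1) ≠ ⟨C.u, Or.inr rfl⟩ := fun e => C.u_ne (congrArg Subtype.val e).symm
  rw [hu1, Finset.sum_pair hd1, Nat.card_eq_fintype_card, ← Finset.card_univ, hu1, Finset.card_pair hd1] at hn1
  -- the four group
  have hT0m : ∀ x ∈ C.toTriple.T0, x = 1 ∨ x = C.z ∨ x = C.u ∨ x = C.u * C.z := C.T0_cases
  obtain ⟨n2, hn2⟩ := C.exists_sum_group hχ C.toTriple.T0 inf_le_left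
  have huz : C.u * C.z ∈ C.toTriple.T0 := mul_mem C.uT C.zT
  have huz1 : C.u * C.z ≠ 1 := fun e => C.uz_ne ((eq_inv_of_mul_eq_one_left e).trans C.z_inv)
  have hu2 : (Finset.univ : Finset C.toTriple.T0) = {⟨1, one_mem _⟩, ⟨C.z, C.zT⟩, ⟨C.u, C.uT⟩, ⟨C.u * C.z, huz⟩} := by
    ext ⟨x, hx⟩; rcases hT0m x hx with rfl | rfl | rfl | rfl <;> simp
  have hc2 : ({⟨1, one_mem _⟩, ⟨C.z, C.zT⟩, ⟨C.u, C.uT⟩, ⟨C.u * C.z, huz⟩} : Finset C.toTriple.T0).card = 4 := by
    refine Finset.card_eq_four.2 ⟨_, _, _, _, ?_, ?_, ?_, ?_, ?_, ?_, rfl⟩ <;> simp only [ne_eq, Subtype.mk.injEq]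
    · exact Ne.symm C.z_ne
    · exact Ne.symm C.u_ne
    · exact Ne.symm huz1
    · exact Ne.symm C.uz_ne
    · exact fun e => C.u_ne (mul_eq_right.1 e.symm)
    · exact fun e => C.z_ne (mul_eq_left.1 e.symm)
  rw [hu2, Nat.card_eq_fintype_card, ← Finset.card_univ, hu2, hc2, Finset.sum_insert, Finset.sum_insert,
    Finset.sum_pair] at hn2
  rotate_left
  · simpa [Subtype.ext_iff] using C.z_ne
  · simp [Subtype.ext_iff, Ne.symm C.uz_ne, C.u_ne]
  · simp [Subtype.ext_iff, Ne.symm C.z_ne, Ne.symm C.u_ne, Ne.symm huz1]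
  -- the cyclic group generated by `g`
  obtain ⟨n3, hn3⟩ := C.exists_sum_group hχ (Subgroup.zpowers C.g) (Subgroup.zpowers_le.2 C.g_mem)
  have e3 : ∑ r : Subgroup.zpowers C.g, sect C.K (r : G) χ = ∑ i : Fin 4, sect C.K (C.g ^ (i : ℕ)) χ := by
    refine (Fintype.sum_equiv ((finCongr C.orderOf_g.symm).trans (finEquivZPowers (isOfFinOrder_of_finite C.g)))
      _ _ fun i => ?_).symm
    rfl
  rw [e3, Fin.sum_univ_four, Nat.card_zpowers, C.orderOf_g] at hn3
  have hg2 : C.g ^ 2 = C.z := by rw [pow_two, C.g_sq]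
  have hg3 : C.g ^ 3 = C.z * C.g := by rw [pow_succ, hg2]
  simp only [Fin.val_zero, Fin.val_one, Fin.val_two, pow_zero, pow_one, hg2,
    show ((3 : Fin 4) : ℕ) = 3 from rfl, hg3] at hn3
  have e4 : sect C.K (C.u * C.z) χ = sect C.K C.u χ := by
    rw [← C.wuw, C.sect_conj_w hcl]
  have e5 : sect C.K (C.z * C.g) χ = sect C.K C.g χ := by
    rw [← C.g_inv, ← C.w_g, C.sect_conj_w hcl]
  simp only [ha, e4, e5] at hn1 hn2 hn3
  push_cast at hn1 hn2 hn3
  refine ⟨4 * n2 - 4 * n1 + a, 2 * n3 - 2 * n2 + 2 * n1 - a, ?_, ?_,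
    ⟨3 * n2 - 3 * n1 - n3 + a, by ring⟩⟩
  · push_cast
    linear_combination hn2 - 2 * hn1
  · rw [← C.sect_Kg hcl]
    push_cast
    linear_combination (1 / 2 : ℂ) * hn3 - (1 / 2 : ℂ) * hn2 + hn1

end Core

variable {p : ℕ} [Fact p.Prime] [Fintype Ω] [IsSimpleGroup G] [IsPretransitive G Ω] [FaithfulSMul G Ω]
variable (X : Ctx p G Ω) (hf : X.f = 3) (C : Core G Ω)

include X in
omit [IsPretransitive G Ω] [FaithfulSMul G Ω] in
/-- Elements commuting with `z` are `p`-regular. -/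
theorem regular_of_commute {x : G} (hx : x * C.z = C.z * x) : ¬ p ∣ orderOf x := fun h =>
  X.not_dvd_c (X.card_centralizer_involution C.zz C.z_ne ▸
    h.trans (Subgroup.orderOf_dvd_natCard _ (Subgroup.mem_centralizer_singleton_iff.2 hx)))

include hf in
/-- Fixed points of an element having `z` as a power. -/
theorem fixed_of_pow {x : G} {n : ℕ} (hx : x ^ n = C.z) {y : Ω} (hy : x • y = y) :
    y = C.a ∨ y = C.b ∨ y = C.b' :=
  fix_three X hf C.zz C.z_ne C.hab C.hab' C.hbb' C.za C.zb C.zb'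
    (by rw [← hx]; exact mem_stabilizer_iff.1 (pow_mem (mem_stabilizer_iff.2 hy) n))

omit [IsSimpleGroup G] [IsPretransitive G Ω] [FaithfulSMul G Ω] [Fintype G] [Fintype Ω] in
theorem maps_triple [Finite G] {x : G} (hx : x * C.z = C.z * x)
    (h3 : ∀ y : Ω, C.z • y = y → y = C.a ∨ y = C.b ∨ y = C.b') {y : Ω} (hy : C.z • y = y) :
    x • y = C.a ∨ x • y = C.b ∨ x • y = C.b' :=
  h3 _ (by rw [← mul_smul, ← hx, mul_smul, hy])

include hf in
/-- `π = 1` on the section of `g`. -/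
theorem pi_gy (y : C.Kg) : pi G Ω (C.g * (y : G)) = 1 := by
  have h3 : ∀ v : Ω, C.z • v = v → v = C.a ∨ v = C.b ∨ v = C.b' := fun v hv =>
    fix_three X hf C.zz C.z_ne C.hab C.hab' C.hbb' C.za C.zb C.zb' hv
  obtain ⟨hyK, hyg⟩ := C.mem_Kg.1 y.2
  have hyz := C.K_cent hyK
  have hymap : ∀ {v : Ω}, C.z • v = v → C.g • ((y : G) • v) = (y : G) • (C.g • v) := fun {v} _ => by
    rw [← mul_smul, ← hyg, mul_smul]
  have hya : (y : G) • C.a = C.a := by
    have h := maps_triple C hyz h3 C.za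
    have e := hymap (v := C.a) C.za
    rw [C.g_a] at e
    rcases h with h | h | h
    · exact h
    · rw [h, C.g_b] at e; exact absurd e.symm C.hbb'
    · rw [h, C.g_b'] at e; exact absurd e C.hbb'
  have hyb : (y : G) • C.b = C.b := by
    by_contra hne
    have hb1 : (y : G) • C.b = C.b' := by
      rcases maps_triple C hyz h3 C.zb with h | h | h
      · exact absurd (smul_left_cancel (y : G) (h.trans hya.symm)) C.hab.symm
      · exact absurd h hne
      · exact h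
    have e := hymap (v := C.b) C.zb
    rw [hb1, C.g_b', C.g_b] at e
    have hper : ∀ n : ℕ, (y : G) ^ n • C.b = if Even n then C.b else C.b' := by
      intro n
      induction n with
      | zero => simp
      | succ n ih =>
        rw [pow_succ', mul_smul, ih]
        by_cases hn : Even n
        · rw [if_pos hn, if_neg (by simpa [Nat.even_add_one] using hn), hb1]
        · rw [if_neg hn, if_pos (Nat.even_add_one.2 hn), e.symm]
    have h := hper (orderOf (y : G))
    rw [pow_orderOf_eq_one, one_smul, if_neg (Nat.not_even_iff_odd.2 (C.K_odd hyK))] at h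
    exact C.hbb' h
  have hyb' : (y : G) • C.b' = C.b' := by
    rw [← C.g_b, ← hymap (v := C.b) C.zb, hyb]
  have huniq : fixedBy Ω (C.g * (y : G)) = {C.a} := by
    ext v
    rw [mem_fixedBy, Set.mem_singleton_iff]
    refine ⟨fun hv => ?_, fun hv => by rw [hv, mul_smul, hya, C.g_a]⟩
    rcases fixed_of_pow X hf C (C.gy_pow y) hv with e | e | e
    · exact e
    · rw [e, mul_smul, hyb, C.g_b] at hv; exact absurd hv.symm C.hbb'
    · rw [e, mul_smul, hyb', C.g_b'] at hv; exact absurd hv C.hbb'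
  simp only [pi]
  rw [huniq, Nat.card_unique, Nat.cast_one]

include hf in
theorem sect_g_pi [Fintype C.Kg] : sect C.Kg C.g (pi G Ω) = 1 := sect_const C.Kg C.g (pi_gy X hf C)

include hf in
/-- The mean of `π` on the section of `z` is one or three; in the latter case `K` fixes the triple. -/
theorem sect_z_pi [Fintype C.K] [Fintype C.Kg] :
    ∃ m : ℤ, sect C.K C.z (pi G Ω) = (m : ℂ) ∧ (m = 1 ∨ m = 3) ∧
      (m = 3 → ∀ y ∈ C.K, y • C.a = C.a ∧ y • C.b = C.b ∧ y • C.b' = C.b') := by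
  classical
  obtain ⟨m, n, hm, hn, hmn⟩ := C.exists_qs (Perm.Orbital.isCharacter_pi (G := G) (Ω := Ω))
  rw [sect_g_pi X hf C] at hn
  have hn1 : n = 1 := by exact_mod_cast hn.symm
  let F : C.K → ℕ := fun y => Nat.card (fixedBy Ω (C.z * (y : G)))
  have hF : ∀ y, F y ≤ 3 := by
    intro y
    have h3 : Nat.card (fixedBy Ω C.z) = 3 := (X.card_fixedBy_involution C.zz C.z_ne).trans hf
    rw [← h3]
    refine Nat.card_le_card_of_injective (fun v => (⟨v.1, ?_⟩ : fixedBy Ω C.z))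
      (fun v v' h => Subtype.ext (congrArg (fun z : fixedBy Ω C.z => (z : Ω)) h))
    have h := mem_stabilizer_iff.1 (pow_mem (mem_stabilizer_iff.2 v.2) (Nat.card C.K))
    rwa [C.zy_pow] at h
  have hK0 : (Nat.card C.K : ℂ) ≠ 0 := Nat.cast_ne_zero.2 Nat.card_pos.ne'
  have hsum : ((∑ y, F y : ℕ) : ℤ) = (Nat.card C.K : ℤ) * m := by
    have h : ((∑ y, F y : ℕ) : ℂ) = (Nat.card C.K : ℂ) * (m : ℂ) := by
      rw [← hm, sect, ← mul_assoc, mul_inv_cancel₀ hK0, one_mul, Nat.cast_sum]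
      rfl
    exact_mod_cast h
  have hle : ∑ y, F y ≤ 3 * Nat.card C.K := by
    refine (Finset.sum_le_card_nsmul _ _ 3 fun y _ => hF y).trans_eq ?_
    rw [Finset.card_univ, ← Nat.card_eq_fintype_card, smul_eq_mul, mul_comm]
  have hKpos : (0 : ℤ) < Nat.card C.K := by exact_mod_cast Nat.card_pos
  have hm0 : 0 ≤ m := by
    by_contra h
    nlinarith [Int.natCast_nonneg (∑ y, F y)]
  have hm3 : m ≤ 3 := by
    by_contra h
    have : ((∑ y, F y : ℕ) : ℤ) ≤ ((3 * Nat.card C.K : ℕ) : ℤ) := by exact_mod_cast hle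
    push_cast at this hsum
    nlinarith
  refine ⟨m, hm, by omega, fun h3m y hy => ?_⟩
  have hall : F ⟨y, hy⟩ = 3 := by
    by_contra hne
    have hlt : ∑ y, F y < ∑ _y : C.K, 3 :=
      Finset.sum_lt_sum (fun y _ => hF y) ⟨⟨y, hy⟩, Finset.mem_univ _, lt_of_le_of_ne (hF _) hne⟩
    rw [Finset.sum_const, Finset.card_univ, ← Nat.card_eq_fintype_card, smul_eq_mul] at hlt
    have : ((∑ y, F y : ℕ) : ℤ) < ((Nat.card C.K * 3 : ℕ) : ℤ) := by exact_mod_cast hlt
    rw [hsum, h3m] at this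
    push_cast at this
    omega
  -- all fixed points of `z` are fixed by `z y`
  have hsub : fixedBy Ω (C.z * y) = fixedBy Ω C.z := by
    refine Set.eq_of_subset_of_ncard_le (fun v hv => ?_) ?_
    · rw [mem_fixedBy, ← C.zy_pow ⟨y, hy⟩]
      exact mem_stabilizer_iff.1 (pow_mem (mem_stabilizer_iff.2 hv) _)
    · rw [← Nat.card_coe_set_eq, ← Nat.card_coe_set_eq]
      exact ((X.card_fixedBy_involution C.zz C.z_ne).trans hf).le.trans_eq hall.symm
  have hfix : ∀ v : Ω, C.z • v = v → y • v = v := by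
    intro v hv
    have h : v ∈ fixedBy Ω (C.z * y) := hsub ▸ hv
    rw [mem_fixedBy, ← C.K_cent hy, mul_smul, hv] at h
    exact h
  exact ⟨hfix _ C.za, hfix _ C.zb, hfix _ C.zb'⟩

end Cfsg.Agent.DegThreeP
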