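/-
The case `e = 3p - 1` with involutions fixing three points is impossible.

Main result: `threeP_three_false`.
-/
import Cfsg.Agent.Lib.DegThreeP.Values
import Cfsg.Agent.Lib.SmallOrders.SymSylow
import Cfsg.Agent.Lib.Golay.SimpleCriteria

set_option autoImplicit false

namespace Cfsg.Agent.DegThreeP

open Cfsg Cfsg.Agent.Char MulAction
open Cfsg.Agent.Perm.Orbital (pi)
open scoped ComplexConjugate

variable {p : ℕ} [Fact p.Prime] {G : Type*} [Group G] [Fintype G] {Ω : Type*} [Fintype Ω] [MulAction G Ω]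

omit [Fintype G] in
/-- In degree fifteen an element of order thirteen is self-centralizing, with normalizer index dividing twelve. -/
theorem thirteen_normalizer [Finite G] [FaithfulSMul G Ω] (hΩ : Fintype.card Ω = 15)
    (hinv : ∀ x : G, x * x = 1 → x ≠ 1 → Nat.card (fixedBy Ω x) = 3)
    (h13 : 13 ∣ Nat.card G) (h169 : ¬ 13 ^ 2 ∣ Nat.card G) :
    ∃ j, j ∣ 12 ∧ (Nat.card G / 13) % 13 = j % 13 := by
  classical
  have : Fact (Nat.Prime 13) := ⟨by norm_num⟩
  obtain ⟨R⟩ := (inferInstance : Nonempty (Sylow 13 G))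
  obtain ⟨j, hj, hjmod⟩ := Golay.normalizer_card_split h13 h169 R
  have hR := Golay.card_sylow_prime h13 h169 R
  obtain ⟨⟨y, hy⟩, hyo⟩ := exists_prime_orderOf_dvd_card' (G := (R : Subgroup G)) 13 hR.symm.dvd
  rw [Subgroup.orderOf_mk] at hyo
  have hinj : Function.Injective (toPermHom G Ω) := fun a b h =>
    FaithfulSMul.eq_of_smul_eq_smul fun ω => congrArg (fun e : Equiv.Perm Ω => e ω) h
  set C := Subgroup.centralizer ((R : Subgroup G) : Set G)
  have hcy : ∀ x ∈ C, y * x = x * y := fun x hx => Subgroup.mem_centralizer_iff.1 hx y hy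
  let φ : C →* Subgroup.centralizer ({toPermHom G Ω y} : Set (Equiv.Perm Ω)) :=
    ((toPermHom G Ω).comp C.subtype).codRestrict _ fun x => Subgroup.mem_centralizer_singleton_iff.2 (by
      rw [MonoidHom.comp_apply, Subgroup.coe_subtype, ← map_mul, ← map_mul, hcy x x.2])
  have hφ : Function.Injective φ := fun a b h => Subtype.ext (hinj (congrArg Subtype.val h))
  have h26 : Nat.card C ∣ 13 * 2 := by
    refine (Subgroup.card_dvd_of_injective φ hφ).trans ?_
    rw [Equiv.Perm.nat_card_centralizer, SmallOrders.cycleType_of_orderOf (p := 13) (by omega)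
      (by rw [orderOf_injective _ hinj, hyo]), hΩ]
    simp
  have hodd : ¬ 2 ∣ Nat.card C := by
    intro h
    obtain ⟨⟨x, hx⟩, hxo⟩ := exists_prime_orderOf_dvd_card' (G := C) 2 h
    rw [Subgroup.orderOf_mk] at hxo
    have hx2 : x * x = 1 := by rw [← pow_two, ← hxo, pow_orderOf_eq_one]
    have hx1 : x ≠ 1 := fun e => by rw [e, orderOf_one] at hxo; omega
    have hf := hinv x hx2 hx1
    have : y = 1 := eq_one_of_commute (Ω := Ω) hx2 (hcy x hx) (r := 13) (by norm_num) (by norm_num)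
      (by rw [← hyo, pow_orderOf_eq_one]) (by omega) (by rw [Nat.card_eq_fintype_card, hΩ]; omega)
    rw [this, orderOf_one] at hyo
    omega
  have hC : Nat.card C ∣ 13 :=
    ((Nat.prime_two.coprime_iff_not_dvd.2 hodd).symm).dvd_of_dvd_mul_right h26
  refine ⟨j, ?_, hjmod⟩
  have h : 13 * j ∣ 13 * 12 := hj ▸ (Golay.card_normalizer_dvd h13 h169 R).trans (Nat.mul_dvd_mul_right hC 12)
  exact Nat.dvd_of_mul_dvd_mul_left (by norm_num) h

theorem d_cases : ∀ d < 237, d * d ∣ 56133 → d % 3 = 0 → d = 3 ∨ d = 9 ∨ d = 27 := by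
  decide +kernel

variable [IsSimpleGroup G] [IsPretransitive G Ω] [FaithfulSMul G Ω]
variable (X : Ctx p G Ω) (hf : X.f = 3)

include hf in
/-- The section of `g` gives `p = 5`. -/
theorem threeP_p_eq_five (C : Core G Ω) (hp8 : p % 8 = 5) (hσ : X.C.σ = -1)
    (hπ : ∀ g, pi G Ω g = 1 + (X.C.E : G → ℂ) g) : p = 5 := by
  classical
  have := Fintype.ofFinite (IrrCharacter G)
  let one : IrrCharacter G := ⟨1, isIrrCharacter_one⟩
  have hone : sect C.Kg C.g (one : G → ℂ) = 1 := sect_const C.Kg C.g fun _ => rfl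
  have hE : sect C.Kg C.g (X.C.E : G → ℂ) = 0 := by
    have h := sect_g_pi X hf C
    rw [sect_add_const C.Kg C.g (ψ := (X.C.E : G → ℂ)) (c := 1) (fun y => by rw [hπ, add_comm])] at h
    linear_combination h
  have hF : ∀ χ ∈ X.C.F, sect C.Kg C.g (χ : G → ℂ) = -1 := by
    intro χ hχ
    rw [sect_add_const C.Kg C.g (ψ := (X.C.E : G → ℂ)) (c := -1) (fun y => ?_), hE, zero_add]
    have hreg : ¬ p ∣ orderOf (C.g * (y : G)) := regular_of_commute X C (by
      rw [mul_assoc, C.K_cent (C.mem_Kg.1 y.2).1, ← mul_assoc, C.g_z, mul_assoc])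
    rw [X.C.F_reg χ hχ _ hreg, hσ]
    push_cast
    ring
  have hsum := C.sum_g_sq
  simp only [Complex.mul_conj] at hsum
  have hsum' : ∑ χ : IrrCharacter G, Complex.normSq (sect C.Kg C.g (χ : G → ℂ)) = 4 := by
    exact_mod_cast hsum
  have h1 : one ∉ X.C.F := fun h => X.C.F_ne one h rfl
  have hle : ∑ χ ∈ insert one X.C.F, Complex.normSq (sect C.Kg C.g (χ : G → ℂ)) ≤ 4 :=
    hsum' ▸ Finset.sum_le_sum_of_subset_of_nonneg (Finset.subset_univ _) fun χ _ _ => Complex.normSq_nonneg _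
  rw [Finset.sum_insert h1, hone, map_one,
    Finset.sum_congr rfl (fun χ hχ => by rw [hF χ hχ, Complex.normSq_neg, map_one]), Finset.sum_const,
    nsmul_eq_mul, mul_one] at hle
  have h3 : X.C.F.card ≤ 3 := by
    have : (X.C.F.card : ℝ) ≤ 3 := by linarith
    exact_mod_cast this
  have := X.C.card_F
  omega

include hf in
/-- `e = 3p - 1` is impossible with three fixed points. -/
theorem threeP_three_false (hσ : X.C.σ = -1) (he : X.C.e + 1 = 3 * p)
    (hπ : ∀ g, pi G Ω g = 1 + (X.C.E : G → ℂ) g)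
    (hG : (Nat.card G : ℤ) * ((X.C.e : ℤ) - 2) ^ 2 = p * (X.c : ℤ) ^ 2 * X.C.e * (X.C.e + X.C.σ)) :
    False := by
  classical
  have := Fact.mk Nat.prime_two
  obtain ⟨hV, hp8, ⟨Z⟩⟩ := structure_threeP X hf hσ he hG
  obtain ⟨Fr, -⟩ := exists_frame X hf Z hV hp8
  obtain ⟨C, -⟩ := exists_core X hf Fr
  have hp := threeP_p_eq_five X hf C hp8 hσ hπ
  have hG' : 72 * Nat.card G = 455 * X.c ^ 2 := by
    have : (((72 * Nat.card G : ℕ)) : ℤ) = ((455 * X.c ^ 2 : ℕ) : ℤ) := by
      rw [hσ, show (X.C.e : ℤ) = 14 by omega, show (p : ℤ) = 5 by omega] at hG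
      push_cast
      linarith
    exact_mod_cast this
  have h8 : 8 ∣ X.c := by
    have h := Nat.ordProj_dvd X.c 2
    rwa [X.v2_c, hV] at h
  obtain ⟨c1, hc1⟩ := h8
  have hS : 9 * Nat.card G = 3640 * (c1 * c1) := by
    rw [hc1] at hG'
    ring_nf at hG' ⊢
    omega
  obtain ⟨d, rfl⟩ : 3 ∣ c1 := by
    have : 9 ∣ c1 * c1 := by omega
    exact (or_self_iff).1 (Nat.prime_three.dvd_mul.1 (dvd_trans (by norm_num) this))
  have hd : Nat.card G = 3640 * (d * d) := by
    ring_nf at hS ⊢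
    omega
  have hd3 : 3 ∣ d := by
    have h15 := natDvd_card (G := G) X.card_Ω
    rw [hd, hp] at h15
    have : 3 ∣ d * d := by omega
    exact (or_self_iff).1 (Nat.prime_three.dvd_mul.1 this)
  have hd2 : ¬ 2 ∣ d := fun h => by
    have h16 : 2 ^ 4 ∣ Nat.card G := by
      obtain ⟨k, rfl⟩ := h
      exact ⟨910 * (k * k), by rw [hd]; ring⟩
    have := (Nat.prime_two.pow_dvd_iff_le_factorization Nat.card_pos.ne').1 h16
    omega
  have hd5 : ¬ 5 ∣ d := fun h => DegTwoP.not_sq_dvd X.P X.card_P (by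
    subst hp
    obtain ⟨k, rfl⟩ := h
    exact ⟨728 * (5 * (k * k)), by rw [hd]; ring⟩)
  have hdvd : d * d ∣ 56133 := by
    have h15 : Nat.card G ∣ 1307674368000 := by
      have h := card_dvd_factorial (G := G) (Ω := Ω)
      rw [X.card_Ω, hp] at h
      exact h.trans (by norm_num [Nat.factorial])
    rw [hd, show (1307674368000 : ℕ) = 3640 * (6400 * 56133) by norm_num] at h15
    have hcop : Nat.Coprime (d * d) 6400 := by
      have h2 := Nat.prime_two.coprime_iff_not_dvd.2 hd2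
      have h5 := (by norm_num : Nat.Prime 5).coprime_iff_not_dvd.2 hd5
      have h : Nat.Coprime d 6400 := by
        rw [show (6400 : ℕ) = 2 ^ 8 * 5 ^ 2 by norm_num]
        exact (h2.symm.pow_right 8).mul_right (h5.symm.pow_right 2)
      exact h.mul_left h
    exact hcop.dvd_of_dvd_mul_left (Nat.dvd_of_mul_dvd_mul_left (by norm_num) h15)
  have hdle : d < 237 := by
    have := Nat.le_of_dvd (by norm_num) hdvd
    nlinarith
  obtain ⟨k, hk⟩ := X.exists_sylow_count
  have hinv : ∀ x : G, x * x = 1 → x ≠ 1 → Nat.card (fixedBy Ω x) = 3 := fun x hx hx1 =>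
    (X.card_fixedBy_involution hx hx1).trans hf
  have hN := thirteen_normalizer (by rw [X.card_Ω, hp]) hinv
  rw [hd, hp] at hk
  rcases d_cases d hdle hdvd (Nat.mod_eq_zero_of_dvd hd3) with rfl | rfl | rfl
  · obtain ⟨j, hj, hmod⟩ := hN (by rw [hd]; norm_num) (by rw [hd]; norm_num)
    have := Nat.le_of_dvd (by norm_num) hj
    rw [hd] at hmod
    interval_cases j <;> omega
  · omega
  · obtain ⟨j, hj, hmod⟩ := hN (by rw [hd]; norm_num) (by rw [hd]; norm_num)
    have := Nat.le_of_dvd (by norm_num) hj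
    rw [hd] at hmod
    interval_cases j <;> omega

end Cfsg.Agent.DegThreeP
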