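/-
`p = 5` and `e = 2p - 1`: the group is `A_6` acting primitively on fifteen points.

Main result: `twoP_five`.
-/
import Cfsg.Agent.Lib.DegThreeP.Triple
import Cfsg.Agent.Lib.SmallOrders.Order360.Coords

set_option autoImplicit false

namespace Cfsg.Agent.DegThreeP

open Cfsg Cfsg.Agent.Char MulAction
open Cfsg.Agent.Perm.Orbital (pi)

variable {G : Type*} [Group G] {Ω : Type*} [MulAction G Ω]

/-- A simple group of order at least 360 is primitive in degree fifteen. -/
theorem preprimitive_fifteen [Finite G] [Fintype Ω] [IsSimpleGroup G] [IsPretransitive G Ω]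
    (hnc : ¬ IsMulCommutative G) (hΩ : Fintype.card Ω = 15) (hG : 61 ≤ Nat.card G) :
    IsPreprimitive G Ω := by
  have : Nontrivial Ω := Fintype.one_lt_card_iff_nontrivial.1 (by omega)
  obtain ⟨a⟩ : Nonempty Ω := inferInstance
  have hidx : (stabilizer G a).index = 15 := by
    rw [index_stabilizer_of_transitive G a, Nat.card_eq_fintype_card, hΩ]
  refine (isCoatom_stabilizer_iff_preprimitive (G := G) a).1
    ⟨fun h => by rw [h, Subgroup.index_top] at hidx; omega, fun K hK => ?_⟩
  by_contra hne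
  have h5 := SmallOrders.five_le_index hnc hne
  have hd : K.index ∣ 15 := hidx ▸ Subgroup.index_dvd_of_le hK.le
  have hlt : K.index ≠ 15 := fun e => by
    have h := Subgroup.relIndex_mul_index hK.le
    rw [e, hidx] at h
    have h1 : (stabilizer G a).relIndex K = 1 := by omega
    exact hK.not_ge (Subgroup.relIndex_eq_one.1 h1)
  have hle := Nat.le_of_dvd (by norm_num) hd
  have h : K.index = 5 := by
    interval_cases hk : K.index <;> omega
  have h2 := SmallOrders.two_mul_card_dvd_factorial_index hnc hne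
  rw [h] at h2
  have := Nat.le_of_dvd (Nat.factorial_pos _) h2
  simp only [Nat.factorial] at this
  omega

theorem d_cases_five : ∀ d < 108, d * d ∣ 11583 → d = 1 ∨ d = 3 ∨ d = 9 := by
  decide +kernel

variable {p : ℕ} [Fact p.Prime] [Fintype G] [Fintype Ω] [IsSimpleGroup G] [IsPretransitive G Ω]
  [FaithfulSMul G Ω] (X : Ctx p G Ω) (hf : X.f = 3)

omit [Fintype G] in
/-- A transitive simple group of degree fifteen has order prime to `3^6` or is alternating. -/
theorem not_three_pow_six [Finite G] (hprim : IsPreprimitive G Ω) (hΩ : Fintype.card Ω = 15)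
    (hG : Nat.card G = 29160) : False := by
  classical
  have := Fact.mk Nat.prime_three
  have hinj : Function.Injective (toPermHom G Ω) := fun a b h =>
    FaithfulSMul.eq_of_smul_eq_smul fun ω => congrArg (fun e : Equiv.Perm Ω => e ω) h
  obtain ⟨S⟩ := (inferInstance : Nonempty (Sylow 3 G))
  have hS : Nat.card (S : Subgroup G) = 3 ^ 6 := by
    rw [SmallOrders.card_sylow_subgroup (p := 3) (e := 6) (m := 40) (by rw [hG]; norm_num) (by norm_num) S]
  have hfac : (Nat.card (Equiv.Perm Ω)).factorization 3 = 6 := by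
    rw [Nat.card_perm, Nat.card_eq_fintype_card, hΩ,
      show Nat.factorial 15 = 3 ^ 6 * 1793792000 by norm_num [Nat.factorial],
      Nat.factorization_mul (by norm_num) (by norm_num), Finsupp.add_apply,
      Nat.factorization_eq_zero_of_not_dvd (n := 1793792000) (by norm_num), add_zero,
      Nat.factorization_pow_self Nat.prime_three]
  let R : Sylow 3 (Equiv.Perm Ω) := Sylow.ofCard ((S : Subgroup G).map (toPermHom G Ω))
    (by rw [Subgroup.card_map_of_injective hinj, hS, hfac])
  obtain ⟨a, b, c, hab, hac, hbc⟩ := Fintype.two_lt_card_iff.1 (show 2 < Fintype.card Ω by omega)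
  set τ := Equiv.swap a b * Equiv.swap a c
  have hτ : τ.IsThreeCycle := Equiv.Perm.isThreeCycle_swap_mul_swap_same hab hac hbc
  obtain ⟨Q, hQ⟩ := (IsPGroup.of_card (p := 3) (n := 1)
    (by rw [Nat.card_zpowers, hτ.orderOf, pow_one]) : IsPGroup 3 (Subgroup.zpowers τ)).exists_le_sylow
  obtain ⟨π, hπ⟩ := MulAction.exists_smul_eq (Equiv.Perm Ω) Q R
  have hmem : π * τ * π⁻¹ ∈ (R : Subgroup (Equiv.Perm Ω)) := by
    rw [← hπ, Sylow.coe_subgroup_smul]
    exact ⟨τ, hQ (Subgroup.mem_zpowers _), rfl⟩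
  have h3 : (π * τ * π⁻¹).IsThreeCycle := by
    rw [Equiv.Perm.IsThreeCycle, Equiv.Perm.cycleType_conj]
    exact hτ
  have hprim' : IsPreprimitive (toPermHom G Ω).range Ω :=
    IsPreprimitive.of_surjective (f := ({ toFun := id, map_smul' := fun _ _ => rfl } :
      Ω →ₑ[(toPermHom G Ω).rangeRestrict] Ω)) Function.surjective_id
  have halt := Equiv.Perm.alternatingGroup_le_of_isPreprimitive_of_isThreeCycle_mem hprim' h3
    (Subgroup.map_le_range _ _ hmem)
  have : Nontrivial Ω := Fintype.one_lt_card_iff_nontrivial.1 (by omega)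
  have h := Subgroup.card_le_of_le halt
  have h2 := two_mul_nat_card_alternatingGroup (α := Ω)
  rw [Nat.card_perm, Nat.card_eq_fintype_card (α := Ω), hΩ] at h2
  rw [← Nat.card_congr (MonoidHom.ofInjective hinj).toEquiv, hG] at h
  rw [show Nat.factorial 15 = 1307674368000 by norm_num [Nat.factorial]] at h2
  omega

include hf in
/-- `p = 5`, `e = 2p - 1`. -/
theorem twoP_five (hp : p = 5) (hσ : X.C.σ = -1) (he : X.C.e + 1 = 2 * p)
    (hV : (Nat.card G).factorization 2 = 3)
    (hG : (Nat.card G : ℤ) * ((X.C.e : ℤ) - 1) ^ 2 = p * (X.c : ℤ) ^ 2 * X.C.e * (X.C.e + X.C.σ)) :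
    IsPreprimitive G Ω ∧ Nonempty (G ≃* alternatingGroup (Fin 6)) := by
  subst hp
  have hG' : 8 * Nat.card G = 45 * X.c ^ 2 := by
    have : (((8 * Nat.card G : ℕ)) : ℤ) = ((45 * X.c ^ 2 : ℕ) : ℤ) := by
      rw [hσ, show (X.C.e : ℤ) = 9 by omega] at hG
      push_cast at hG ⊢
      linarith
    exact_mod_cast this
  have h8 : 8 ∣ X.c := by
    have h := Nat.ordProj_dvd X.c 2
    rwa [X.v2_c, hV] at h
  obtain ⟨d, hd⟩ := h8
  have hd' : Nat.card G = 360 * (d * d) := by
    rw [hd] at hG'
    ring_nf at hG' ⊢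
    omega
  have hd2 : ¬ 2 ∣ d := fun h => by
    have h16 : 2 ^ 4 ∣ Nat.card G := by
      obtain ⟨k, rfl⟩ := h
      exact ⟨90 * (k * k), by rw [hd']; ring⟩
    have := (Nat.prime_two.pow_dvd_iff_le_factorization Nat.card_pos.ne').1 h16
    omega
  have hd5 : ¬ 5 ∣ d := fun ⟨k, hk⟩ => X.not_dvd_c ⟨8 * k, by rw [hd, hk]; ring⟩
  have hd7 : ¬ 7 ∣ d := by
    intro h7
    have := Fact.mk (show Nat.Prime 7 by norm_num)
    obtain ⟨y, hy⟩ := exists_prime_orderOf_dvd_card' (G := Subgroup.centralizer ({X.D.t} : Set G)) 7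
      (show 7 ∣ X.c by rw [hd]; exact h7.mul_left _)
    have h1 := eq_one_of_commute (Ω := Ω) X.D.t_sq (Subgroup.mem_centralizer_singleton_iff.1 y.2)
      (r := 7) (by norm_num) (by norm_num)
      (by rw [← hy, ← Subgroup.coe_pow, pow_orderOf_eq_one]; rfl)
      (show X.f < 7 by omega)
      (by rw [Nat.card_eq_fintype_card, X.card_Ω, show Nat.card (fixedBy Ω X.D.t) = X.f from rfl]; omega)
    rw [← Subgroup.orderOf_coe, h1, orderOf_one] at hy
    norm_num at hy
  have hdvd : d * d ∣ 11583 := by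
    have h15 : Nat.card G ∣ 360 * (313600 * 11583) := by
      have h := card_dvd_factorial (G := G) (Ω := Ω)
      rw [X.card_Ω] at h
      exact h.trans (by norm_num [Nat.factorial])
    rw [hd'] at h15
    have hcop : Nat.Coprime (d * d) 313600 := by
      have h2 := Nat.prime_two.coprime_iff_not_dvd.2 hd2
      have h5 := (by norm_num : Nat.Prime 5).coprime_iff_not_dvd.2 hd5
      have h7 := (by norm_num : Nat.Prime 7).coprime_iff_not_dvd.2 hd7
      have h : Nat.Coprime d 313600 := by
        rw [show (313600 : ℕ) = 2 ^ 8 * 5 ^ 2 * 7 ^ 2 by norm_num]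
        exact ((h2.symm.pow_right 8).mul_right (h5.symm.pow_right 2)).mul_right (h7.symm.pow_right 2)
      exact h.mul_left h
    exact hcop.dvd_of_dvd_mul_left (Nat.dvd_of_mul_dvd_mul_left (by norm_num) h15)
  have hdle : d < 108 := by
    have := Nat.le_of_dvd (by norm_num) hdvd
    nlinarith
  have hd0 : 0 < d * d := by
    rcases Nat.eq_zero_or_pos (d * d) with h | h
    · rw [h, mul_zero] at hd'; exact absurd hd' Nat.card_pos.ne'
    · exact h
  have hprim : IsPreprimitive G Ω :=
    preprimitive_fifteen X.not_comm (by rw [X.card_Ω]) (by rw [hd']; omega)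
  obtain ⟨k, hk⟩ := X.exists_sylow_count
  rw [hd'] at hk
  rcases d_cases_five d hdle hdvd with rfl | rfl | rfl
  · exact ⟨hprim, SmallOrders.S360.mulEquiv (by rw [hd'])⟩
  · omega
  · exact (not_three_pow_six hprim (by rw [X.card_Ω]) (by rw [hd'])).elim

end Cfsg.Agent.DegThreeP
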