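/-
Counting products of two involutions in the sections of `z` and `g`.

Main results: `card_pairs_section`, `Core.pairs_K`, `Core.pairs_Kg`, `Core.card_relations`.
-/
import Cfsg.Agent.Lib.DegThreeP.Values

set_option autoImplicit false

namespace Cfsg.Agent.DegThreeP

open Cfsg MulAction

variable {G : Type*} [Group G]

/-- Conjugation by `t` on a finite subgroup normalized by `t`. -/
noncomputable def cj [Finite G] (L : Subgroup G) (t : G) (h : ∀ y ∈ L, t * y * t⁻¹ ∈ L) : MulAut L :=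
  MulEquiv.ofBijective
    ({ toFun := fun y => ⟨t * (y : G) * t⁻¹, h y y.2⟩
       map_one' := Subtype.ext (show t * 1 * t⁻¹ = 1 by rw [mul_one, mul_inv_cancel])
       map_mul' := fun a b => Subtype.ext
         (show t * ((a : G) * b) * t⁻¹ = t * a * t⁻¹ * (t * b * t⁻¹) by group) } : L →* L)
    (Finite.injective_iff_bijective.1 fun a b e =>
      Subtype.ext (mul_left_cancel (mul_right_cancel (congrArg Subtype.val e))))

theorem coe_cj [Finite G] (L : Subgroup G) (t : G) (h : ∀ y ∈ L, t * y * t⁻¹ ∈ L) (y : L) :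
    (cj L t h y : G) = t * y * t⁻¹ := rfl

theorem cj_sq [Finite G] (L : Subgroup G) (t : G) (h : ∀ y ∈ L, t * y * t⁻¹ ∈ L) (ht : t * t = 1) :
    cj L t h * cj L t h = 1 := by
  refine MulEquiv.ext fun y => Subtype.ext ?_
  rw [MulAut.mul_apply, coe_cj, coe_cj, MulAut.one_apply, inv_eq_of_mul_eq_one_left ht]
  simp only [mul_assoc]
  rw [ht, mul_one, ← mul_assoc, ht, one_mul]

/-- The number of elements of `L` fixed by conjugation with `t`. -/
noncomputable def fixCard (L : Subgroup G) (t : G) : ℕ :=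
  Nat.card ↥(L ⊓ Subgroup.centralizer ({t} : Set G))

/-- The number of elements of `L` inverted by `t`. -/
noncomputable def invCard (L : Subgroup G) (t : G) : ℕ :=
  Nat.card {y : L // t * (y : G) * t⁻¹ = (y : G)⁻¹}

theorem card_fixAut_cj [Finite G] (L : Subgroup G) (t : G) (h : ∀ y ∈ L, t * y * t⁻¹ ∈ L) :
    Nat.card (fixAut (cj L t h)) = fixCard L t :=
  Nat.card_congr
    { toFun := fun y => ⟨(y.1 : G), y.1.2, Subgroup.mem_centralizer_singleton_iff.2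
        (mul_inv_eq_iff_eq_mul.1 (congrArg Subtype.val (mem_fixAut.1 y.2))).symm⟩
      invFun := fun y => ⟨⟨y.1, y.2.1⟩, mem_fixAut.2 (Subtype.ext (by
        rw [coe_cj, mul_inv_eq_iff_eq_mul]
        exact (Subgroup.mem_centralizer_singleton_iff.1 y.2.2).symm))⟩
      left_inv := fun _ => rfl
      right_inv := fun _ => rfl }

theorem card_inverted_cj [Finite G] (L : Subgroup G) (t : G) (h : ∀ y ∈ L, t * y * t⁻¹ ∈ L) :
    Nat.card {y : L // cj L t h y = y⁻¹} = invCard L t :=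
  Nat.card_congr (Equiv.subtypeEquivRight fun _ => Subtype.ext_iff)

theorem fixCard_mul_invCard [Finite G] (L : Subgroup G) (t : G) (h : ∀ y ∈ L, t * y * t⁻¹ ∈ L)
    (ht : t * t = 1) (hodd : Odd (Nat.card L)) : fixCard L t * invCard L t = Nat.card L := by
  rw [← card_fixAut_cj L t h, ← card_inverted_cj L t h]
  exact card_fix_mul_inverted hodd _ (cj_sq L t h ht)

theorem invCard_congr (L : Subgroup G) {t t' : G} (e : ∀ y ∈ L, t * y * t⁻¹ = t' * y * t'⁻¹) :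
    invCard L t = invCard L t' :=
  Nat.card_congr (Equiv.subtypeEquivRight fun y => by rw [e y y.2])

/-- For an involutory automorphism of a group of odd order: pairs of an inverted `k` and an element
inverted by `α` followed by conjugation with `k`. -/
theorem card_twisted {V : Type*} [Group V] [Finite V] (hV : Odd (Nat.card V)) (α : MulAut V) :
    Nat.card {q : V × V // α q.1 = q.1⁻¹ ∧ q.1 * α q.2 * q.1⁻¹ = q.2⁻¹} =
      Nat.card {x : V // α x = x⁻¹} ^ 2 := by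
  obtain ⟨m, hm⟩ := hV
  have hr : ∀ k : V, k ^ (m + 1) * k ^ (m + 1) = k := fun k => by
    rw [← pow_add, show m + 1 + (m + 1) = Nat.card V + 1 by omega, pow_succ, pow_card_eq_one', one_mul]
  have hαr : ∀ k : V, α k = k⁻¹ → α (k ^ (m + 1)) = (k ^ (m + 1))⁻¹ := fun k hk => by
    rw [map_pow, hk, inv_pow]
  rw [pow_two, ← Nat.card_prod]
  refine Nat.card_congr
    { toFun := fun q => (⟨q.1.1, q.2.1⟩, ⟨(q.1.1 ^ (m + 1))⁻¹ * q.1.2 * q.1.1 ^ (m + 1), ?_⟩)
      invFun := fun s => ⟨((s.1 : V), (s.1 : V) ^ (m + 1) * s.2 * ((s.1 : V) ^ (m + 1))⁻¹), s.1.2, ?_⟩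
      left_inv := fun q => Subtype.ext (Prod.ext rfl (by simp [mul_assoc]))
      right_inv := fun s => Prod.ext rfl (Subtype.ext (by simp [mul_assoc])) }
  · obtain ⟨⟨k, v⟩, hk, hv⟩ := q
    rw [map_mul, map_mul, map_inv, hαr k hk, inv_inv]
    set r := k ^ (m + 1)
    rw [← hr k] at hv
    change r * r * α v * (r * r)⁻¹ = v⁻¹ at hv
    calc r * α v * r⁻¹ = r⁻¹ * (r * r * α v * (r * r)⁻¹) * r := by group
      _ = _ := by rw [hv]; group
  · obtain ⟨⟨k, hk⟩, ⟨v, hv⟩⟩ := s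
    show k * α (k ^ (m + 1) * v * (k ^ (m + 1))⁻¹) * k⁻¹ = (k ^ (m + 1) * v * (k ^ (m + 1))⁻¹)⁻¹
    rw [map_mul, map_mul, map_inv, hαr k hk, inv_inv, hv]
    set r := k ^ (m + 1)
    rw [← hr k]
    change r * r * (r⁻¹ * v⁻¹ * r) * (r * r)⁻¹ = _
    group

/-- Products of two involutions in a section, counted through the involutions inverting it. -/
theorem card_pairs_section [Finite G] {t h : G} (ht2 : t * t = 1) (ht1 : t ≠ 1)
    (hcl : ∀ x : G, x * x = 1 → x ≠ 1 → IsConj t x) (L : Subgroup G) [Fintype L]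
    {ι : Type*} [Fintype ι] (S : ι → G)
    (hLh : ∀ v ∈ L, Commute h v) (hcop : (orderOf h).Coprime (Nat.card L)) (hodd : Odd (Nat.card L))
    (hS : ∀ i, S i * S i = 1) (hSh : ∀ i, S i * h * (S i)⁻¹ = h⁻¹)
    (hSL : ∀ i, ∀ y ∈ L, S i * y * (S i)⁻¹ ∈ L)
    (huniq : ∀ i j, ∀ k ∈ L, ∀ k' ∈ L, k * S i = k' * S j → i = j ∧ k = k')
    (hne : ∀ i, S i * h ∉ L) (hnot : ∀ i, S i ∉ L)
    (hcover : ∀ x : G, x * x = 1 → x ≠ 1 → x * h * x⁻¹ = h⁻¹ →
      (∃ v ∈ L, x * (h * v) * (x * (h * v)) = 1 ∧ x * (h * v) ≠ 1) → ∃ i, ∃ k ∈ L, x = k * S i) :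
    ∑ v : L, Nat.card {q : G × G // IsConj t q.1 ∧ IsConj t q.2 ∧ q.1 * q.2 = h * (v : G)} =
      ∑ i, invCard L (S i) ^ 2 := by
  classical
  have hcv : ∀ x : G, IsConj t x → x * x = 1 ∧ x ≠ 1 := fun x hx =>
    ⟨DegTwoP.sq_of_isConj ht2 hx, fun e => ht1 (isConj_one_left.1 (e ▸ hx))⟩
  have hb : ∀ i, invCard L (S i) ^ 2 = Nat.card {q : L × L //
      cj L (S i) (hSL i) q.1 = q.1⁻¹ ∧ q.1 * cj L (S i) (hSL i) q.2 * q.1⁻¹ = q.2⁻¹} := fun i => by
    rw [card_twisted hodd, card_inverted_cj]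
  simp only [hb]
  rw [← Nat.card_sigma, ← Nat.card_sigma]
  symm
  have key : ∀ (i : ι) (k v : L), cj L (S i) (hSL i) k = k⁻¹ →
      k * cj L (S i) (hSL i) v * k⁻¹ = v⁻¹ →
      IsConj t ((k : G) * S i) ∧ IsConj t ((k : G) * S i * (h * v)) ∧
        (k : G) * S i * ((k : G) * S i * (h * v)) = h * v := by
    intro i k v hk hv
    have hk' : S i * (k : G) * (S i)⁻¹ = (k : G)⁻¹ := congrArg Subtype.val hk
    have hv' : (k : G) * (S i * v * (S i)⁻¹) * (k : G)⁻¹ = (v : G)⁻¹ := congrArg Subtype.val hv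
    have hx2 : (k : G) * S i * ((k : G) * S i) = 1 := by
      calc (k : G) * S i * ((k : G) * S i) = (k : G) * (S i * k * (S i)⁻¹) * (S i * S i) := by group
        _ = 1 := by rw [hk', hS, mul_one, mul_inv_cancel]
    have hx1 : (k : G) * S i ≠ 1 := fun e => hnot i (by
      rw [eq_inv_of_mul_eq_one_right e]; exact inv_mem k.2)
    have hxi : ((k : G) * S i)⁻¹ = (k : G) * S i := inv_eq_of_mul_eq_one_left hx2
    have hy : (k : G) * S i * (h * v) * ((k : G) * S i)⁻¹ = (h * v)⁻¹ := by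
      calc (k : G) * S i * (h * v) * ((k : G) * S i)⁻¹ =
          (k : G) * (S i * h * (S i)⁻¹) * (k : G)⁻¹ * ((k : G) * (S i * v * (S i)⁻¹) * (k : G)⁻¹) := by group
        _ = _ := by
          rw [hv', hSh, ((hLh k k.2).inv_left).symm.eq, mul_inv_cancel_right, ← mul_inv_rev,
            (hLh v v.2).eq]
    refine ⟨hcl _ hx2 hx1, hcl _ ?_ ?_, by rw [← mul_assoc, hx2, one_mul]⟩
    · rw [hxi] at hy
      calc (k : G) * S i * (h * v) * ((k : G) * S i * (h * v)) =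
          (k : G) * S i * (h * v) * ((k : G) * S i) * (h * v) := by group
        _ = 1 := by rw [hy, inv_mul_cancel]
    · intro e
      refine hne i ?_
      have e' : S i * h = (k : G)⁻¹ * (v : G)⁻¹ := by
        calc S i * h = (k : G)⁻¹ * ((k : G) * S i * (h * v)) * (v : G)⁻¹ := by group
          _ = _ := by rw [e, mul_one]
      rw [e']
      exact mul_mem (inv_mem k.2) (inv_mem v.2)
  refine Nat.card_congr (Equiv.ofBijective (fun s => ⟨s.2.1.2,
    ⟨((s.2.1.1 : G) * S s.1, (s.2.1.1 : G) * S s.1 * (h * (s.2.1.2 : G))),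
      key s.1 s.2.1.1 s.2.1.2 s.2.2.1 s.2.2.2⟩⟩) ⟨?_, ?_⟩)
  · rintro ⟨i, ⟨⟨k, v⟩, hq⟩⟩ ⟨j, ⟨⟨k', v'⟩, hq'⟩⟩ e
    simp only [Sigma.mk.injEq] at e
    obtain ⟨rfl, e2⟩ := e
    have e1 : (k : G) * S i = k' * S j :=
      congrArg Prod.fst (congrArg Subtype.val (eq_of_heq e2))
    obtain ⟨rfl, e3⟩ := huniq i j k k.2 k' k'.2 e1
    obtain rfl : k = k' := Subtype.ext e3
    rfl
  · rintro ⟨v, ⟨x, y⟩, hx, hy, hxy⟩
    obtain ⟨hx2, hx1⟩ := hcv x hx
    obtain ⟨hy2, hy1⟩ := hcv y hy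
    have hxi : x⁻¹ = x := inv_eq_of_mul_eq_one_left hx2
    have hyx : y = x * (h * v) := by rw [← hxy, ← mul_assoc, hx2, one_mul]
    have hconj : x * (h * v) * x⁻¹ = (h * v)⁻¹ := by
      rw [← hxy, mul_inv_rev, inv_eq_of_mul_eq_one_left hy2, ← mul_assoc x, hx2, one_mul, hxi]
    have hvn : ((v : G)) ^ Nat.card L = 1 := by rw [← Subgroup.coe_pow, pow_card_eq_one']; rfl
    have hh : x * h * x⁻¹ = h⁻¹ := by
      have e := congrArg (· ^ Nat.card L) hconj
      simp only [conj_pow, inv_pow, (hLh v v.2).mul_pow, hvn, mul_one] at e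
      obtain ⟨m, hm⟩ := exists_pow_eq_self_of_coprime hcop.symm
      have e' := congrArg (· ^ m) e
      simp only [conj_pow, inv_pow, hm] at e'
      exact e'
    have hv : x * v * x⁻¹ = (v : G)⁻¹ := by
      calc x * v * x⁻¹ = (x * h * x⁻¹)⁻¹ * (x * (h * v) * x⁻¹) := by group
        _ = _ := by rw [hconj, hh, inv_inv, mul_inv_rev, ((hLh v v.2).inv_left.inv_right).symm.eq,
              mul_inv_cancel_left]
    obtain ⟨i, k, hk, rfl⟩ := hcover x hx2 hx1 hh ⟨v, v.2, hyx ▸ hy2, hyx ▸ hy1⟩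
    have hkS : S i * k * (S i)⁻¹ = k⁻¹ := by
      calc S i * k * (S i)⁻¹ = k⁻¹ * (k * S i * (k * S i)) * (S i * S i)⁻¹ := by group
        _ = _ := by rw [hx2, hS, inv_one, mul_one, mul_one]
    have hvS : k * (S i * v * (S i)⁻¹) * k⁻¹ = (v : G)⁻¹ := by
      rw [← hv]; group
    refine ⟨⟨i, ⟨(⟨k, hk⟩, v), Subtype.ext hkS, Subtype.ext hvS⟩⟩, ?_⟩
    simp [hyx]

namespace Core

variable [Fintype G] {Ω : Type*} [MulAction G Ω] (C : Core G Ω)

/-- The four involutions inverting `g` and `z`. -/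
def S : Fin 4 → G := ![C.u, C.u * C.z, C.w, C.z * C.w]

theorem uz_sq : C.u * C.z * (C.u * C.z) = 1 := by
  calc C.u * C.z * (C.u * C.z) = C.u * (C.z * C.u) * C.z := by group
    _ = 1 := by rw [C.zu, ← mul_assoc, C.uu, one_mul, C.zz]

theorem zw_sq : C.z * C.w * (C.z * C.w) = 1 := by
  calc C.z * C.w * (C.z * C.w) = C.z * (C.w * C.z) * C.w := by group
    _ = 1 := by rw [← C.zw, ← mul_assoc, C.zz, one_mul, C.ww]

theorem S_sq (i : Fin 4) : C.S i * C.S i = 1 := by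
  fin_cases i
  · exact C.uu
  · exact C.uz_sq
  · exact C.ww
  · exact C.zw_sq

theorem S_mem (i : Fin 4) : C.S i ∈ (C.T : Subgroup G) := by
  fin_cases i
  · exact C.uT.1
  · exact mul_mem C.uT.1 C.zT.1
  · exact C.wT
  · exact mul_mem C.zT.1 C.wT

theorem S_ne (i : Fin 4) : C.S i ≠ 1 ∧ C.S i ≠ C.z := by
  fin_cases i
  · exact ⟨C.u_ne, C.uz_ne⟩
  · exact ⟨fun e => C.uz_ne ((eq_inv_of_mul_eq_one_left e).trans C.z_inv), fun e => C.u_ne (mul_eq_right.1 e)⟩
  · change C.w ≠ 1 ∧ C.w ≠ C.z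
    exact ⟨fun e => C.w_notMem (e ▸ one_mem _), fun e => C.w_notMem (e ▸ C.zT)⟩
  · refine ⟨fun e => C.w_notMem ?_, fun e => C.w_notMem ?_⟩
    · have : C.w = C.z := by rw [eq_inv_of_mul_eq_one_right e, C.z_inv]
      exact this ▸ C.zT
    · have : C.w = 1 := mul_eq_left.1 e
      exact this ▸ one_mem _

theorem S_injective : Function.Injective C.S := by
  have h1 : C.u ≠ C.u * C.z := fun e => C.z_ne (mul_eq_left.1 e.symm)
  have h2 : C.u ≠ C.w := fun e => C.w_notMem (e ▸ C.uT)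
  have h3 : C.u ≠ C.z * C.w := fun e => C.w_notMem (by
    have : C.w = C.z * C.u := by rw [e, ← mul_assoc, C.zz, one_mul]
    rw [this]; exact mul_mem C.zT C.uT)
  have h4 : C.u * C.z ≠ C.w := fun e => C.w_notMem (e ▸ mul_mem C.uT C.zT)
  have h5 : C.u * C.z ≠ C.z * C.w := fun e => h2 (mul_left_cancel (a := C.z) (by rw [C.zu, e]))
  have h6 : C.w ≠ C.z * C.w := fun e => C.z_ne (mul_eq_right.1 e.symm)
  intro i j
  fin_cases i <;> fin_cases j <;> simp [S, h1, h2, h3, h4, h5, h6, h1.symm, h2.symm, h3.symm, h4.symm, h5.symm, h6.symm]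

theorem u_g : C.u * C.g * C.u = C.g⁻¹ := by
  rw [Frame.g, mul_inv_rev, C.w_inv, C.u_inv, mul_assoc C.u, mul_assoc C.w, C.uu, mul_one]

theorem S_g (i : Fin 4) : C.S i * C.g * (C.S i)⁻¹ = C.g⁻¹ := by
  have hz : ∀ x : G, C.g⁻¹ = x * C.g * x⁻¹ → x * C.z = C.z * x → C.z * x * C.g * (C.z * x)⁻¹ = C.g⁻¹ := by
    intro x hx _
    calc C.z * x * C.g * (C.z * x)⁻¹ = C.z * (x * C.g * x⁻¹) * C.z⁻¹ := by group
      _ = C.g⁻¹ := by
        rw [← hx, (show Commute C.z C.g from C.g_z.symm).inv_right.eq, mul_inv_cancel_right]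
  fin_cases i
  · show C.u * C.g * C.u⁻¹ = _
    rw [C.u_inv, C.u_g]
  · show C.u * C.z * C.g * (C.u * C.z)⁻¹ = _
    rw [← C.zu]
    exact hz _ (by rw [C.u_inv, C.u_g]) C.zu.symm
  · show C.w * C.g * C.w⁻¹ = _
    rw [C.w_inv, C.w_g]
  · exact hz _ (by rw [C.w_inv, C.w_g]) C.zw.symm

theorem S_z (i : Fin 4) : C.S i * C.z * (C.S i)⁻¹ = C.z⁻¹ := by
  rw [C.commute_z (C.S_mem i), mul_inv_cancel_right, C.z_inv]

theorem S_K (i : Fin 4) : ∀ y ∈ C.K, C.S i * y * (C.S i)⁻¹ ∈ C.K :=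
  C.conj_K _ (C.commute_z (C.S_mem i))

theorem S_Kg (i : Fin 4) : ∀ y ∈ C.Kg, C.S i * y * (C.S i)⁻¹ ∈ C.Kg := by
  intro y hy
  obtain ⟨hyK, hyg⟩ := C.mem_Kg.1 hy
  refine C.mem_Kg.2 ⟨C.S_K i y hyK, ?_⟩
  have h : Commute (C.S i * y * (C.S i)⁻¹) (C.S i * C.g * (C.S i)⁻¹) :=
    (show Commute y C.g from hyg).map (MulAut.conj (C.S i)).toMonoidHom
  rw [C.S_g] at h
  simpa using h.inv_right.eq

theorem S_uniq (i j : Fin 4) {k k' : G} (hk : k ∈ C.K) (hk' : k' ∈ C.K) (e : k * C.S i = k' * C.S j) :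
    i = j ∧ k = k' := by
  obtain ⟨e1, e2⟩ := C.decomp_unique hk hk' (C.S_mem i) (C.S_mem j) e
  exact ⟨C.S_injective e2, e1⟩

theorem S_notMem (i : Fin 4) : C.S i ∉ C.K := fun h => (C.S_ne i).1 (C.eq_one_of_mem_T h (C.S_mem i))

/-- An involution commuting with `z` is `z` or in `K S`. -/
theorem exists_S {x : G} (hxz : x * C.z = C.z * x) (hx : x * x = 1) (hx1 : x ≠ 1) :
    x = C.z ∨ ∃ i, ∃ k ∈ C.K, x = k * C.S i := by
  obtain ⟨k, hk, t, ht, rfl⟩ := C.decomp x hxz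
  have e : k * (t * k * t⁻¹) * (t * t) = 1 * 1 := by rw [one_mul, ← hx]; group
  obtain ⟨e1, e2⟩ := C.decomp_unique (mul_mem hk (C.conj_K t (C.commute_z ht) k hk)) (one_mem _)
    (mul_mem ht ht) (one_mem _) e
  have hk1 : (t = 1 ∨ t = C.z) → k = 1 := by
    intro h
    have e3 : k * k = 1 := by
      rcases h with rfl | rfl
      · simpa using e1
      · rw [C.z_inv, ← C.K_cent hk, mul_assoc k C.z, C.zz, mul_one] at e1
        exact e1
    have h4 := C.K_odd hk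
    rcases (Nat.dvd_prime Nat.prime_two).1 (orderOf_dvd_of_pow_eq_one (by rw [pow_two]; exact e3 : k ^ 2 = 1))
      with h5 | h5
    · exact orderOf_eq_one_iff.1 h5
    · rw [h5] at h4; exact absurd h4 (by decide)
  rcases C.T_list ht with h | h | h | h | h | h | h | h
  · exact absurd (by rw [hk1 (Or.inl h), h, one_mul]) hx1
  · exact Or.inl (by rw [hk1 (Or.inr h), h, one_mul])
  · exact Or.inr ⟨0, k, hk, by rw [h]; rfl⟩
  · exact Or.inr ⟨1, k, hk, by rw [h]; rfl⟩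
  · exact Or.inr ⟨2, k, hk, by rw [h]; rfl⟩
  · exact Or.inr ⟨3, k, hk, by rw [h]; rfl⟩
  · exfalso
    have h' : C.u * C.w = C.g⁻¹ := by rw [Frame.g, mul_inv_rev, C.w_inv, C.u_inv]
    rw [h, h', ← mul_inv_rev, C.g_sq, C.z_inv] at e2
    exact C.z_ne e2
  · exfalso
    rw [h, C.g_sq] at e2
    exact C.z_ne e2

theorem invCard_uz (L : Subgroup G) (hL : L ≤ C.K) : invCard L (C.u * C.z) = invCard L C.u := by
  refine invCard_congr L fun y hy => ?_
  calc C.u * C.z * y * (C.u * C.z)⁻¹ = C.u * (C.z * y * C.z⁻¹) * C.u⁻¹ := by group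
    _ = _ := by rw [← C.K_cent (hL hy), mul_inv_cancel_right]

theorem invCard_zw (L : Subgroup G) (hL : L ≤ C.K) : invCard L (C.z * C.w) = invCard L C.w := by
  refine invCard_congr L fun y hy => ?_
  rw [C.zw]
  calc C.w * C.z * y * (C.w * C.z)⁻¹ = C.w * (C.z * y * C.z⁻¹) * C.w⁻¹ := by group
    _ = _ := by rw [← C.K_cent (hL hy), mul_inv_cancel_right]

variable {t : G} (ht2 : t * t = 1) (ht1 : t ≠ 1)
  (hcl : ∀ x : G, x * x = 1 → x ≠ 1 → IsConj t x)

include ht2 ht1 hcl in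
theorem pairs_K [Fintype C.K] :
    ∑ v : C.K, Nat.card {q : G × G // IsConj t q.1 ∧ IsConj t q.2 ∧ q.1 * q.2 = C.z * (v : G)} =
      2 * invCard C.K C.u ^ 2 + 2 * invCard C.K C.w ^ 2 := by
  rw [card_pairs_section ht2 ht1 hcl C.K C.S (fun v hv => (C.K_cent hv).symm)
    (by rw [C.orderOf_z]; exact Nat.coprime_two_left.2 C.odd_card) C.odd_card C.S_sq C.S_z C.S_K
    (fun i j k hk k' hk' => C.S_uniq i j hk hk') ?_ C.S_notMem ?_, Fin.sum_univ_four]
  · show invCard C.K C.u ^ 2 + invCard C.K (C.u * C.z) ^ 2 + invCard C.K C.w ^ 2 +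
      invCard C.K (C.z * C.w) ^ 2 = _
    rw [C.invCard_uz C.K le_rfl, C.invCard_zw C.K le_rfl]
    ring
  · intro i h
    have e := C.eq_one_of_mem_T h (mul_mem (C.S_mem i) C.zT.1)
    exact (C.S_ne i).2 ((eq_inv_of_mul_eq_one_left e).trans C.z_inv)
  · rintro x hx hx1 hxz ⟨v, hv, hv2, hv1⟩
    rw [C.z_inv, mul_inv_eq_iff_eq_mul] at hxz
    refine (C.exists_S hxz hx hx1).resolve_left fun e => hv1 ?_
    have e' : x * (C.z * v) = v := by rw [e, ← mul_assoc, C.zz, one_mul]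
    rw [e'] at hv2 ⊢
    have h4 := C.K_odd hv
    rcases (Nat.dvd_prime Nat.prime_two).1 (orderOf_dvd_of_pow_eq_one (by rw [pow_two]; exact hv2 : v ^ 2 = 1))
      with h5 | h5
    · exact orderOf_eq_one_iff.1 h5
    · rw [h5] at h4; exact absurd h4 (by decide)

include ht2 ht1 hcl in
theorem pairs_Kg [Fintype C.Kg] :
    ∑ v : C.Kg, Nat.card {q : G × G // IsConj t q.1 ∧ IsConj t q.2 ∧ q.1 * q.2 = C.g * (v : G)} =
      4 * invCard C.Kg C.w ^ 2 := by
  have hle : C.Kg ≤ C.K := inf_le_left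
  rw [card_pairs_section ht2 ht1 hcl C.Kg C.S (fun v hv => (C.mem_Kg.1 hv).2.symm) C.coprime_g'
    (C.odd_card.of_dvd_nat (Subgroup.card_dvd_of_le hle)) C.S_sq C.S_g C.S_Kg
    (fun i j k hk k' hk' => C.S_uniq i j (hle hk) (hle hk')) ?_ (fun i h => C.S_notMem i (hle h)) ?_,
    Fin.sum_univ_four]
  · show invCard C.Kg C.u ^ 2 + invCard C.Kg (C.u * C.z) ^ 2 + invCard C.Kg C.w ^ 2 +
      invCard C.Kg (C.z * C.w) ^ 2 = _
    rw [C.invCard_uz C.Kg hle, C.invCard_zw C.Kg hle, invCard_congr C.Kg (t := C.u) (t' := C.w) ?_]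
    · ring
    intro y hy
    rw [show C.u = C.w * C.g by rw [Frame.g, ← mul_assoc, C.ww, one_mul]]
    calc C.w * C.g * y * (C.w * C.g)⁻¹ = C.w * (C.g * y * C.g⁻¹) * C.w⁻¹ := by group
      _ = _ := by rw [← (C.mem_Kg.1 hy).2, mul_inv_cancel_right]
  · intro i h
    have e := C.eq_one_of_mem_T (hle h) (mul_mem (C.S_mem i) C.g_mem)
    have e' := eq_inv_of_mul_eq_one_left e
    have h2 := C.S_sq i
    rw [e', ← mul_inv_rev, C.g_sq, C.z_inv] at h2
    exact C.z_ne h2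
  · rintro x hx hx1 hxg -
    have hxz : x * C.z = C.z * x := by
      have h := congrArg (fun a => a * a) hxg
      simp only [← pow_two, conj_pow] at h
      rw [pow_two C.g, C.g_sq, inv_pow, pow_two C.g, C.g_sq, C.z_inv, mul_inv_eq_iff_eq_mul] at h
      exact h
    rcases C.exists_S hxz hx hx1 with e | ⟨i, k, hk, e⟩
    · exfalso
      rw [e, ← C.g_z, mul_inv_cancel_right, C.g_inv] at hxg
      exact C.z_ne (mul_eq_right.1 hxg.symm)
    · refine ⟨i, k, C.mem_Kg.2 ⟨hk, ?_⟩, e⟩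
      have h : k * (C.S i * C.g * (C.S i)⁻¹) * k⁻¹ = C.g⁻¹ := by rw [← hxg, e]; group
      rw [C.S_g, mul_inv_eq_iff_eq_mul] at h
      simpa using (show Commute k C.g⁻¹ from h).inv_right.eq

/-- `C_K(T)`. -/
def KT : Subgroup G :=
  C.K ⊓ Subgroup.centralizer ({C.u} : Set G) ⊓ Subgroup.centralizer ({C.w} : Set G)

theorem card_relations :
    fixCard C.K C.u * invCard C.K C.u = Nat.card C.K ∧
    fixCard C.K C.w * invCard C.K C.w = Nat.card C.K ∧
    Nat.card C.KT * invCard C.Kg C.w = Nat.card C.Kg ∧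
    Nat.card C.K * Nat.card C.KT ^ 2 = fixCard C.K C.u * fixCard C.K C.w * Nat.card C.Kg := by
  have hu := C.conj_K C.u C.zu.symm
  have hw := C.conj_K C.w C.zw.symm
  have hKT : C.Kg ⊓ Subgroup.centralizer ({C.w} : Set G) = C.KT := by
    ext y
    simp only [KT, Kg, Subgroup.mem_inf, Subgroup.mem_centralizer_singleton_iff]
    constructor
    · rintro ⟨⟨hy, hyg⟩, hyw⟩
      refine ⟨⟨hy, ?_⟩, hyw⟩
      rw [show C.u = C.w * C.g by rw [Frame.g, ← mul_assoc, C.ww, one_mul]]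
      exact Commute.mul_right hyw hyg
    · rintro ⟨⟨hy, hyu⟩, hyw⟩
      exact ⟨⟨hy, Commute.mul_right hyw hyu⟩, hyw⟩
  refine ⟨fixCard_mul_invCard _ _ hu C.uu C.odd_card, fixCard_mul_invCard _ _ hw C.ww C.odd_card, ?_, ?_⟩
  · have h := fixCard_mul_invCard C.Kg C.w (C.S_Kg 2) C.ww
      (C.odd_card.of_dvd_nat (Subgroup.card_dvd_of_le inf_le_left))
    rwa [fixCard, hKT] at h
  · have hcomm : Commute (cj C.K C.u hu) (cj C.K C.w hw) := by
      refine MulEquiv.ext fun y => Subtype.ext ?_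
      rw [MulAut.mul_apply, MulAut.mul_apply, coe_cj, coe_cj, coe_cj, coe_cj]
      have hy : C.z * (y : G) * C.z⁻¹ = y := by rw [← C.K_cent y.2, mul_inv_cancel_right]
      calc C.u * (C.w * (y : G) * C.w⁻¹) * C.u⁻¹ = C.u * C.w * (y : G) * (C.u * C.w)⁻¹ := by group
        _ = C.u * C.w * (C.z * (y : G) * C.z⁻¹) * (C.u * C.w)⁻¹ := by rw [hy]
        _ = C.u * C.w * C.z * (y : G) * (C.u * C.w * C.z)⁻¹ := by group
        _ = C.w * (C.u * (y : G) * C.u⁻¹) * C.w⁻¹ := by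
          rw [mul_assoc C.u C.w C.z, ← C.zw, ← mul_assoc, ← C.wu]; group
    have h := wielandt_four C.odd_card (cj C.K C.u hu) (cj C.K C.w hw) (cj_sq _ _ _ C.uu) (cj_sq _ _ _ C.ww)
      hcomm
    rw [card_fixAut_cj, card_fixAut_cj] at h
    have h1 : Nat.card (fixAut (cj C.K C.u hu * cj C.K C.w hw)) = Nat.card C.Kg := by
      refine Nat.card_congr
        { toFun := fun y => ⟨(y.1 : G), C.mem_Kg.2 ⟨y.1.2, ?_⟩⟩
          invFun := fun y => ⟨⟨y.1, (C.mem_Kg.1 y.2).1⟩, mem_fixAut.2 (Subtype.ext ?_)⟩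
          left_inv := fun _ => rfl
          right_inv := fun _ => rfl }
      · have e : C.u * (C.w * (y.1 : G) * C.w⁻¹) * C.u⁻¹ = y.1 := congrArg Subtype.val (mem_fixAut.1 y.2)
        have e' : C.g⁻¹ * (y.1 : G) * C.g = y.1 := by
          refine Eq.trans ?_ e
          rw [Frame.g, mul_inv_rev, C.w_inv, C.u_inv]
          group
        calc (y.1 : G) * C.g = C.g * (C.g⁻¹ * (y.1 : G) * C.g) := by group
          _ = C.g * y.1 := by rw [e']
      · show C.u * (C.w * (y : G) * C.w⁻¹) * C.u⁻¹ = y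
        calc C.u * (C.w * (y : G) * C.w⁻¹) * C.u⁻¹ = C.g⁻¹ * ((y : G) * C.g) := by
              rw [Frame.g, mul_inv_rev, C.w_inv, C.u_inv]; group
          _ = y := by rw [(C.mem_Kg.1 y.2).2, inv_mul_cancel_left]
    have h2 : Nat.card ↥(fixAut (cj C.K C.u hu) ⊓ fixAut (cj C.K C.w hw)) = Nat.card C.KT := by
      refine Nat.card_congr
        { toFun := fun y => ⟨(y.1 : G), ⟨y.1.2, ?_⟩, ?_⟩
          invFun := fun y => ⟨⟨y.1, y.2.1.1⟩, mem_fixAut.2 (Subtype.ext ?_), mem_fixAut.2 (Subtype.ext ?_)⟩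
          left_inv := fun _ => rfl
          right_inv := fun _ => rfl }
      · exact Subgroup.mem_centralizer_singleton_iff.2
          (mul_inv_eq_iff_eq_mul.1 (congrArg Subtype.val (mem_fixAut.1 y.2.1))).symm
      · exact Subgroup.mem_centralizer_singleton_iff.2
          (mul_inv_eq_iff_eq_mul.1 (congrArg Subtype.val (mem_fixAut.1 y.2.2))).symm
      · show C.u * (y : G) * C.u⁻¹ = y
        rw [mul_inv_eq_iff_eq_mul]; exact (Subgroup.mem_centralizer_singleton_iff.1 y.2.1.2).symm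
      · show C.w * (y : G) * C.w⁻¹ = y
        rw [mul_inv_eq_iff_eq_mul]; exact (Subgroup.mem_centralizer_singleton_iff.1 y.2.2).symm
    rwa [h1, h2] at h

end Core

end Cfsg.Agent.DegThreeP
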