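/-
`e = 2p - 1`, `p ≥ 13`: the characters on the sections of `z` and `g`.

Main results: `twoP_sections`, `twoP_relations`.
-/
import Cfsg.Agent.Lib.DegThreeP.Counting

set_option autoImplicit false

namespace Cfsg.Agent.DegThreeP

open Cfsg Cfsg.Agent.Char MulAction
open Cfsg.Agent.Perm.Orbital (pi)
open scoped ComplexConjugate

theorem exists_single {α : Type*} [DecidableEq α] (s : Finset α) (n : α → ℤ) {N : ℤ} (hN : 0 < N)
    (hsum : ∑ a ∈ s, n a * n a = N) (hbig : ∀ a ∈ s, n a ≠ 0 → N ≤ n a * n a) :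
    ∃ a ∈ s, n a * n a = N ∧ ∀ b ∈ s, b ≠ a → n b = 0 := by
  obtain ⟨a, ha, hne⟩ : ∃ a ∈ s, n a ≠ 0 := by
    by_contra h
    push Not at h
    rw [Finset.sum_eq_zero (fun a ha => by rw [h a ha, mul_zero])] at hsum
    omega
  rw [← Finset.add_sum_erase _ _ ha] at hsum
  have h1 := hbig a ha hne
  have h2 : (0 : ℤ) ≤ ∑ b ∈ s.erase a, n b * n b := Finset.sum_nonneg fun b _ => mul_self_nonneg _
  have h3 : ∑ b ∈ s.erase a, n b * n b = 0 := by omega
  refine ⟨a, ha, by omega, fun b hb hba => ?_⟩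
  exact mul_self_eq_zero.1 ((Finset.sum_eq_zero_iff_of_nonneg fun b _ => mul_self_nonneg (n b)).1 h3 b
    (Finset.mem_erase.2 ⟨hba, hb⟩))

theorem sum_four {α M : Type*} [Fintype α] [DecidableEq α] [AddCommMonoid M] (f : α → M) {a b c d : α}
    (hab : a ≠ b) (hac : a ≠ c) (had : a ≠ d) (hbc : b ≠ c) (hbd : b ≠ d) (hcd : c ≠ d)
    (h : ∀ x, x ≠ a → x ≠ b → x ≠ c → x ≠ d → f x = 0) : ∑ x, f x = f a + (f b + (f c + f d)) := by
  rw [← Finset.sum_subset (Finset.subset_univ {a, b, c, d}) (fun x _ hx => by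
    simp only [Finset.mem_insert, Finset.mem_singleton, not_or] at hx
    exact h x hx.1 hx.2.1 hx.2.2.1 hx.2.2.2)]
  rw [Finset.sum_insert (by simp [hab, hac, had]), Finset.sum_insert (by simp [hbc, hbd]),
    Finset.sum_pair hcd]

theorem sum_five {α M : Type*} [Fintype α] [DecidableEq α] [AddCommMonoid M] (f : α → M) {a b c d e : α}
    (hab : a ≠ b) (hac : a ≠ c) (had : a ≠ d) (hae : a ≠ e) (hbc : b ≠ c) (hbd : b ≠ d) (hbe : b ≠ e)
    (hcd : c ≠ d) (hce : c ≠ e) (hde : d ≠ e)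
    (h : ∀ x, x ≠ a → x ≠ b → x ≠ c → x ≠ d → x ≠ e → f x = 0) :
    ∑ x, f x = f a + (f b + (f c + (f d + f e))) := by
  rw [← Finset.sum_subset (Finset.subset_univ {a, b, c, d, e}) (fun x _ hx => by
    simp only [Finset.mem_insert, Finset.mem_singleton, not_or] at hx
    exact h x hx.1 hx.2.1 hx.2.2.1 hx.2.2.2.1 hx.2.2.2.2)]
  rw [Finset.sum_insert (by simp [hab, hac, had, hae]), Finset.sum_insert (by simp [hbc, hbd, hbe]),
    Finset.sum_insert (by simp [hcd, hce]), Finset.sum_pair hde]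

/-- The class multiplication formula summed over a section. -/
theorem pairs_sum_eq {G : Type*} [Group G] [Fintype G] [Fintype (IrrCharacter G)] (a h : G) (L : Subgroup G)
    [Fintype L] :
    ((∑ v : L, Nat.card {q : G × G // IsConj a q.1 ∧ IsConj a q.2 ∧ q.1 * q.2 = h * (v : G)} : ℕ) : ℂ) =
      (Nat.card {x : G // IsConj a x} : ℂ) * (Nat.card {x : G // IsConj a x} : ℂ) / (Nat.card G : ℂ) *
        ((Nat.card L : ℂ) * ∑ χ : IrrCharacter G,
          (χ : G → ℂ) a * (χ : G → ℂ) a * conj (sect L h (χ : G → ℂ)) / (χ : G → ℂ) 1) := by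
  push_cast
  rw [Finset.sum_congr rfl fun (v : L) _ => class_mult_formula a a (h * (v : G)), ← Finset.mul_sum]
  congr 1
  rw [Finset.sum_comm, Finset.mul_sum]
  refine Finset.sum_congr rfl fun χ _ => ?_
  have hL : (Nat.card L : ℂ) ≠ 0 := Nat.cast_ne_zero.2 Nat.card_pos.ne'
  simp only [sect, map_mul, map_inv₀, map_natCast, map_sum]
  rw [← Finset.sum_div, ← Finset.mul_sum]
  field_simp

variable {p : ℕ} [Fact p.Prime] {G : Type*} [Group G] [Fintype G] {Ω : Type*} [Fintype Ω] [MulAction G Ω]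
variable [IsSimpleGroup G] [IsPretransitive G Ω] [FaithfulSMul G Ω]
variable (X : Ctx p G Ω) (hf : X.f = 3) (C : Core G Ω)

include hf in
/-- The sums over the irreducible characters and the fixed triple of `K`. -/
theorem twoP_sections [Fintype (IrrCharacter G)] [Fintype C.K] [Fintype C.Kg] (hp : 13 ≤ p)
    (hσ : X.C.σ = -1) (he : X.C.e + 1 = 2 * p) (hEt : (X.C.E : G → ℂ) X.D.t = 1)
    (θ : IrrCharacter G) (hθF : θ ∉ X.C.F) (hθE : θ ≠ X.C.E) (hθ1 : (θ : G → ℂ) ≠ 1)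
    (hθd : (θ : G → ℂ) 1 = (p : ℂ)) (hθt : (θ : G → ℂ) X.D.t = 1)
    (hπ : ∀ g, pi G Ω g = 1 + (X.C.E : G → ℂ) g + (θ : G → ℂ) g) :
    (∑ χ : IrrCharacter G, (χ : G → ℂ) X.D.t * (χ : G → ℂ) X.D.t *
        conj (sect C.Kg C.g (χ : G → ℂ)) / (χ : G → ℂ) 1 =
      2 * ((p : ℂ) - 1) ^ 2 / ((p : ℂ) * (2 * (p : ℂ) - 1))) ∧
    (∑ χ : IrrCharacter G, (χ : G → ℂ) X.D.t * (χ : G → ℂ) X.D.t *
        conj (sect C.K C.z (χ : G → ℂ)) / (χ : G → ℂ) 1 =
      2 * ((p : ℂ) - 1) ^ 2 / ((p : ℂ) * (2 * (p : ℂ) - 1))) ∧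
    (∀ y ∈ C.K, y • C.a = C.a ∧ y • C.b = C.b ∧ y • C.b' = C.b') := by
  classical
  let one : IrrCharacter G := ⟨1, isIrrCharacter_one⟩
  have hcl : ∀ χ : IrrCharacter G, IsClassFunction G (χ : G → ℂ) := fun χ => IsIrrCharacter.isClassFunction χ.2
  obtain ⟨c0, hc0⟩ := isConj_iff.1 (X.one_class C.zz C.z_ne)
  have ht : ∀ χ : IrrCharacter G, (χ : G → ℂ) X.D.t = (χ : G → ℂ) C.z := fun χ => by rw [← hc0, hcl χ]
  choose nz ng hnz hng hpar using fun χ : IrrCharacter G => C.exists_qs (IsIrrCharacter.isCharacter χ.2)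
  choose dg hdgpos hdg using fun χ : IrrCharacter G => IsIrrCharacter.exists_degree χ.2
  have hdg1 : ∀ χ, 1 ≤ dg χ := fun χ => Nat.one_le_iff_ne_zero.2 fun h =>
    IsIrrCharacter.apply_one_ne_zero χ.2 (by rw [hdg, h, Nat.cast_zero])
  have hsq : ∀ (q : IrrCharacter G → ℤ) (L : Subgroup G) [Fintype L] (h : G) (N : ℤ),
      (∀ χ : IrrCharacter G, sect L h (χ : G → ℂ) = (q χ : ℂ)) →
      ∑ χ : IrrCharacter G, sect L h (χ : G → ℂ) * conj (sect L h (χ : G → ℂ)) = (N : ℂ) →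
      ∑ χ, q χ * q χ = N := fun q L _ h N hq hN => by
    simp only [hq, map_intCast] at hN
    exact_mod_cast hN
  have hg2 : ∑ χ, ng χ * ng χ = 4 := hsq ng C.Kg C.g 4 hng (by rw [C.sum_g_sq]; norm_num)
  have hz2 : ∑ χ, nz χ * nz χ = 8 := hsq nz C.K C.z 8 hnz (by rw [C.sum_z_sq]; norm_num)
  have hg1 : ng one = 1 := by
    have h := hng one
    rw [show sect C.Kg C.g (one : G → ℂ) = 1 from sect_const C.Kg C.g fun _ => rfl] at h
    exact_mod_cast h.symm
  have hz1 : nz one = 1 := by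
    have h := hnz one
    rw [show sect C.K C.z (one : G → ℂ) = 1 from sect_const C.K C.z fun _ => rfl] at h
    exact_mod_cast h.symm
  have hsect : ∀ (L : Subgroup G) [Fintype L] (h : G),
      sect L h (pi G Ω) = 1 + sect L h (X.C.E : G → ℂ) + sect L h (θ : G → ℂ) := fun L _ h => by
    have hL : (Nat.card L : ℂ) ≠ 0 := Nat.cast_ne_zero.2 Nat.card_pos.ne'
    simp only [sect, hπ, Finset.sum_add_distrib, Finset.sum_const, Finset.card_univ, nsmul_eq_mul, mul_one,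
      ← Nat.card_eq_fintype_card]
    rw [mul_add, mul_add, inv_mul_cancel₀ hL]
  have hgπ : 1 + ng X.C.E + ng θ = 1 := by
    have h := hsect C.Kg C.g
    rw [sect_g_pi X hf C, hng, hng] at h
    exact_mod_cast h.symm
  obtain ⟨m, hm, hm13, hm3⟩ := sect_z_pi X hf C
  have hzπ : m = 1 + nz X.C.E + nz θ := by
    have h := hsect C.K C.z
    rw [hm, hnz, hnz] at h
    exact_mod_cast h
  have hgF : ∀ χ ∈ X.C.F, ng χ = ng X.C.E - 1 := by
    intro χ hχ
    have h : sect C.Kg C.g (χ : G → ℂ) = sect C.Kg C.g (X.C.E : G → ℂ) + (-1) :=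
      sect_add_const C.Kg C.g fun y => by
        rw [X.C.F_reg χ hχ _ (regular_of_commute X C (by
          rw [mul_assoc, C.K_cent (C.mem_Kg.1 y.2).1, ← mul_assoc, C.g_z, mul_assoc])), hσ]
        push_cast; ring
    rw [hng, hng] at h
    have : ((ng χ : ℤ) : ℂ) = ((ng X.C.E - 1 : ℤ) : ℂ) := by push_cast; linear_combination h
    exact_mod_cast this
  have hzF : ∀ χ ∈ X.C.F, nz χ = nz X.C.E - 1 := by
    intro χ hχ
    have h : sect C.K C.z (χ : G → ℂ) = sect C.K C.z (X.C.E : G → ℂ) + (-1) :=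
      sect_add_const C.K C.z fun y => by
        rw [X.C.F_reg χ hχ _ (regular_of_commute X C (by
          rw [mul_assoc, C.K_cent y.2])), hσ]
        push_cast; ring
    rw [hnz, hnz] at h
    have : ((nz χ : ℤ) : ℂ) = ((nz X.C.E - 1 : ℤ) : ℂ) := by push_cast; linear_combination h
    exact_mod_cast this
  -- the irreducible characters split
  have h1E : one ≠ X.C.E := fun e => X.C.E_ne (congrArg Subtype.val e).symm
  have h1θ : one ≠ θ := fun e => hθ1 (congrArg Subtype.val e).symm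
  have h1F : one ∉ X.C.F := fun h => X.C.F_ne one h rfl
  set R := ((((Finset.univ : Finset (IrrCharacter G)).erase one).erase X.C.E).erase θ) \ X.C.F with hR
  have hsplit : ∀ n : IrrCharacter G → ℤ, ∑ χ, n χ * n χ = n one * n one + n X.C.E * n X.C.E +
      n θ * n θ + ∑ χ ∈ X.C.F, n χ * n χ + ∑ χ ∈ R, n χ * n χ := by
    intro n
    rw [← Finset.add_sum_erase _ _ (Finset.mem_univ one),
      ← Finset.add_sum_erase _ _ (show X.C.E ∈ Finset.univ.erase one by simp [h1E.symm]),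
      ← Finset.add_sum_erase _ _ (show θ ∈ ((Finset.univ : Finset (IrrCharacter G)).erase one).erase X.C.E by
        simp [h1θ.symm, hθE]),
      ← Finset.sum_sdiff (show X.C.F ⊆ (((Finset.univ : Finset (IrrCharacter G)).erase one).erase X.C.E).erase θ
        from fun χ hχ => by
          simp only [Finset.mem_erase, Finset.mem_univ, and_true, ne_eq]
          exact ⟨fun e => hθF (e ▸ hχ), fun e => X.C.E_notMem (e ▸ hχ), fun e => h1F (e ▸ hχ)⟩), ← hR]
    ring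
  have hFc : (6 : ℤ) ≤ X.C.F.card := by
    have := X.C.card_F
    omega
  have hFsum : ∀ (n : IrrCharacter G → ℤ) (v : ℤ), (∀ χ ∈ X.C.F, n χ = v) →
      ∑ χ ∈ X.C.F, n χ * n χ = (X.C.F.card : ℤ) * (v * v) := fun n v hv => by
    rw [Finset.sum_congr rfl fun χ hχ => show n χ * n χ = v * v by rw [hv χ hχ], Finset.sum_const,
      nsmul_eq_mul]
  have hpos : ∀ (n : IrrCharacter G → ℤ) (s : Finset (IrrCharacter G)), (0 : ℤ) ≤ ∑ χ ∈ s, n χ * n χ :=
    fun n s => Finset.sum_nonneg fun χ _ => mul_self_nonneg _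
  rw [hsplit, hFsum ng _ hgF, hg1] at hg2
  have hgE : ng X.C.E = 1 := by
    by_contra hne
    have h1 : (1 : ℤ) ≤ (ng X.C.E - 1) * (ng X.C.E - 1) := by
      have : ng X.C.E - 1 ≠ 0 := by omega
      have := mul_self_pos.2 this
      omega
    have := hpos ng R
    have := mul_self_nonneg (ng X.C.E)
    have := mul_self_nonneg (ng θ)
    nlinarith
  have hgθ : ng θ = -1 := by omega
  rw [hgE, hgθ] at hg2
  obtain ⟨χ4, h4R, h4sq, h4rest⟩ := exists_single R ng one_pos (by linarith) (fun a _ ha => by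
    have := mul_self_pos.2 ha
    omega)
  have hmemR : ∀ χ, χ ∈ R ↔ χ ≠ one ∧ χ ≠ X.C.E ∧ χ ≠ θ ∧ χ ∉ X.C.F := fun χ => by
    simp only [hR, Finset.mem_sdiff, Finset.mem_erase, Finset.mem_univ, ne_eq, and_true]
    tauto
  obtain ⟨h41, h4E, h4θ, h4F⟩ := (hmemR χ4).1 h4R
  have hgzero : ∀ χ, χ ≠ one → χ ≠ X.C.E → χ ≠ θ → χ ≠ χ4 → ng χ = 0 := by
    intro χ a b c d
    by_cases hχ : χ ∈ X.C.F
    · rw [hgF χ hχ, hgE, sub_self]
    · exact h4rest χ ((hmemR χ).2 ⟨a, b, c, hχ⟩) d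
  have hone1 : (one : G → ℂ) 1 = 1 := rfl
  have honez : (one : G → ℂ) C.z = 1 := rfl
  have hEz : (X.C.E : G → ℂ) C.z = 1 := by rw [← ht, hEt]
  have hθz : (θ : G → ℂ) C.z = 1 := by rw [← ht, hθt]
  have hgdeg : (1 : ℤ) + X.C.e - p + ng χ4 * dg χ4 = 0 := by
    have h := C.sum_g_degree
    simp only [hng] at h
    rw [sum_four (fun χ : IrrCharacter G => (ng χ : ℂ) * (χ : G → ℂ) 1) h1E h1θ h41.symm hθE.symm h4E.symm
      h4θ.symm (fun x a b c d => by simp [hgzero x a b c d]), hg1, hgE, hgθ, hone1, X.C.deg_E, hθd, hdg] at h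
    have : (((1 : ℤ) + X.C.e - p + ng χ4 * dg χ4 : ℤ) : ℂ) = ((0 : ℤ) : ℂ) := by
      push_cast at h ⊢; linear_combination h
    exact_mod_cast this
  have hg4 : ng χ4 = -1 := by
    rcases mul_self_eq_one_iff.1 h4sq with h | h
    · exfalso
      have := hdg1 χ4
      rw [h, one_mul] at hgdeg
      omega
    · exact h
  have hd4 : dg χ4 = p := by
    rw [hg4] at hgdeg
    omega
  have hz4 : (χ4 : G → ℂ) C.z = 1 := by
    have h := C.sum_g_col
    simp only [hng] at h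
    rw [sum_four (fun χ : IrrCharacter G => (ng χ : ℂ) * conj ((χ : G → ℂ) C.z)) h1E h1θ h41.symm hθE.symm
      h4E.symm h4θ.symm (fun x a b c d => by simp [hgzero x a b c d]), hg1, hgE, hgθ, hg4, honez, hEz, hθz,
      map_one] at h
    push_cast at h
    have : conj ((χ4 : G → ℂ) C.z) = 1 := by linear_combination -h
    simpa using congrArg conj this
  -- the section of `z`
  have hgz : 1 + nz X.C.E - nz θ - nz χ4 = 0 := by
    have h := C.sum_gz
    simp only [hng, hnz, map_intCast] at h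
    rw [sum_four (fun χ : IrrCharacter G => (ng χ : ℂ) * (nz χ : ℂ)) h1E h1θ h41.symm hθE.symm h4E.symm
      h4θ.symm (fun x a b c d => by simp [hgzero x a b c d]), hg1, hgE, hgθ, hg4, hz1] at h
    have : (((1 : ℤ) + nz X.C.E - nz θ - nz χ4 : ℤ) : ℂ) = ((0 : ℤ) : ℂ) := by
      push_cast at h ⊢; linear_combination h
    exact_mod_cast this
  have hoddE : nz X.C.E % 2 ≠ 0 := by have := hpar X.C.E; omega
  have hodd4 : nz χ4 % 2 ≠ 0 := by have := hpar χ4; omega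
  have hoddθ : nz θ % 2 ≠ 0 := by have := hpar θ; omega
  rw [hsplit, hFsum nz _ hzF, hz1, ← Finset.add_sum_erase _ _ h4R] at hz2
  have hsq1 : ∀ a : ℤ, a % 2 ≠ 0 → 1 ≤ a * a := fun a ha => by
    have : a ≠ 0 := fun e => ha (by rw [e]; rfl)
    have := mul_self_pos.2 this
    omega
  have hzE : nz X.C.E = 1 := by
    by_contra hne
    have h1 : (4 : ℤ) ≤ (nz X.C.E - 1) * (nz X.C.E - 1) := by
      have h : 2 ≤ |nz X.C.E - 1| := by rcases abs_cases (nz X.C.E - 1) with ⟨h, h'⟩ | ⟨h, h'⟩ <;> omega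
      nlinarith [abs_mul_abs_self (nz X.C.E - 1)]
    have := hpos nz (R.erase χ4)
    have := mul_self_nonneg (nz X.C.E)
    have := mul_self_nonneg (nz θ)
    have := mul_self_nonneg (nz χ4)
    nlinarith
  rw [hzE] at hz2 hgz hzπ
  have hm_three : m = 3 := by
    rcases hm13 with h | h
    · exfalso
      have hθ' : nz θ = -1 := by omega
      have h4' : nz χ4 = 3 := by omega
      have := hpos nz (R.erase χ4)
      rw [hθ', h4'] at hz2
      omega
    · exact h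
  have hzθ : nz θ = 1 := by omega
  have hz4' : nz χ4 = 1 := by omega
  rw [hzθ, hz4'] at hz2
  obtain ⟨χR, hRR, hRsq, hRrest⟩ := exists_single (R.erase χ4) nz (show (0 : ℤ) < 4 by norm_num) (by linarith)
    (fun a ha hne => by
      obtain ⟨ha4, haR⟩ := Finset.mem_erase.1 ha
      have h := hpar a
      rw [h4rest a haR ha4, sub_zero] at h
      obtain ⟨j, hj⟩ := h
      have : j ≠ 0 := fun e => hne (by rw [hj, e, mul_zero])
      have := mul_self_pos.2 this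
      rw [hj]
      nlinarith)
  obtain ⟨hR4, hRR'⟩ := Finset.mem_erase.1 hRR
  obtain ⟨hR1, hRE, hRθ, hRF⟩ := (hmemR χR).1 hRR'
  have hzzero : ∀ χ, χ ≠ one → χ ≠ X.C.E → χ ≠ θ → χ ≠ χ4 → χ ≠ χR → nz χ = 0 := by
    intro χ a b c d e
    by_cases hχ : χ ∈ X.C.F
    · rw [hzF χ hχ, hzE, sub_self]
    · exact hRrest χ (Finset.mem_erase.2 ⟨d, (hmemR χ).2 ⟨a, b, c, hχ⟩⟩) e
  have hzdeg : (1 : ℤ) + X.C.e + p + p + nz χR * dg χR = 0 := by
    have h := C.sum_z_degree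
    simp only [hnz] at h
    rw [sum_five (fun χ : IrrCharacter G => (nz χ : ℂ) * (χ : G → ℂ) 1) h1E h1θ h41.symm hR1.symm hθE.symm
      h4E.symm hRE.symm h4θ.symm hRθ.symm hR4.symm (fun x a b c d e => by simp [hzzero x a b c d e]), hz1, hzE,
      hzθ, hz4', hone1, X.C.deg_E, hθd, hdg χ4, hd4, hdg χR] at h
    have : (((1 : ℤ) + X.C.e + p + p + nz χR * dg χR : ℤ) : ℂ) = ((0 : ℤ) : ℂ) := by
      push_cast at h ⊢; linear_combination h
    exact_mod_cast this
  have hzR : nz χR = -2 := by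
    have h : nz χR * nz χR = 2 * 2 := by rw [hRsq]; norm_num
    rcases mul_self_eq_mul_self_iff.1 h with h | h
    · exfalso
      have := hdg1 χR
      rw [h] at hzdeg
      omega
    · exact h
  have hdR : dg χR = 2 * p := by
    rw [hzR] at hzdeg
    omega
  have hRz : (χR : G → ℂ) C.z = -2 := by
    have h := C.sum_z_col
    simp only [hnz] at h
    rw [sum_five (fun χ : IrrCharacter G => (nz χ : ℂ) * conj ((χ : G → ℂ) C.z)) h1E h1θ h41.symm hR1.symm
      hθE.symm h4E.symm hRE.symm h4θ.symm hRθ.symm hR4.symm (fun x a b c d e => by simp [hzzero x a b c d e]),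
      hz1, hzE, hzθ, hz4', hzR, honez, hEz, hθz, hz4, map_one] at h
    push_cast at h
    have : conj ((χR : G → ℂ) C.z) = -2 := by linear_combination (-1 / 2 : ℂ) * h
    simpa [map_ofNat] using congrArg conj this
  have hp0 : (p : ℂ) ≠ 0 := Nat.cast_ne_zero.2 (by omega)
  have he' : (X.C.e : ℂ) = 2 * (p : ℂ) - 1 := by
    have : ((X.C.e + 1 : ℕ) : ℂ) = ((2 * p : ℕ) : ℂ) := by rw [he]
    push_cast at this
    linear_combination this
  have hp1 : (2 : ℂ) * (p : ℂ) - 1 ≠ 0 := by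
    rw [← he']
    exact Nat.cast_ne_zero.2 (by omega)
  have hpq : (p : ℂ) * (2 * (p : ℂ) - 1) ≠ 0 := mul_ne_zero hp0 hp1
  refine ⟨?_, ?_, hm3 hm_three⟩
  · simp only [hng, map_intCast, ht]
    rw [sum_four (fun χ : IrrCharacter G => (χ : G → ℂ) C.z * (χ : G → ℂ) C.z * (ng χ : ℂ) / (χ : G → ℂ) 1)
      h1E h1θ h41.symm hθE.symm h4E.symm h4θ.symm (fun x a b c d => by simp [hgzero x a b c d]), hg1, hgE, hgθ,
      hg4, honez, hEz, hθz, hz4, hone1, X.C.deg_E, hθd, hdg χ4, hd4, he']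
    push_cast
    field_simp
    ring
  · simp only [hnz, map_intCast, ht]
    rw [sum_five (fun χ : IrrCharacter G => (χ : G → ℂ) C.z * (χ : G → ℂ) C.z * (nz χ : ℂ) / (χ : G → ℂ) 1)
      h1E h1θ h41.symm hR1.symm hθE.symm h4E.symm hRE.symm h4θ.symm hRθ.symm hR4.symm
      (fun x a b c d e => by simp [hzzero x a b c d e]), hz1, hzE, hzθ, hz4', hzR, honez, hEz, hθz, hz4, hRz,
      hone1, X.C.deg_E, hθd, hdg χ4, hd4, hdg χR, hdR, he']
    push_cast
    field_simp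
    ring

include hf in
/-- The orders of the fixed subgroups in `K`. -/
theorem twoP_relations (hp : 13 ≤ p) (hp8 : p % 8 = 5) (hσ : X.C.σ = -1) (he : X.C.e + 1 = 2 * p)
    (hEt : (X.C.E : G → ℂ) X.D.t = 1)
    (hG : (Nat.card G : ℤ) * ((X.C.e : ℤ) - 1) ^ 2 = p * (X.c : ℤ) ^ 2 * X.C.e * (X.C.e + X.C.σ))
    (θ : IrrCharacter G) (hθF : θ ∉ X.C.F) (hθE : θ ≠ X.C.E) (hθ1 : (θ : G → ℂ) ≠ 1)
    (hθd : (θ : G → ℂ) 1 = (p : ℂ)) (hθt : (θ : G → ℂ) X.D.t = 1)
    (hπ : ∀ g, pi G Ω g = 1 + (X.C.E : G → ℂ) g + (θ : G → ℂ) g) :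
    ∃ w D : ℕ, p = 4 * w + 1 ∧ 0 < D ∧ fixCard C.K C.u = D ∧ Nat.card C.K = w * D ^ 2 ∧
      (∀ y ∈ C.K, y • C.a = C.a ∧ y • C.b = C.b ∧ y • C.b' = C.b') := by
  classical
  have := Fintype.ofFinite (IrrCharacter G)
  obtain ⟨h1, h2, h3⟩ := twoP_sections X hf C hp hσ he hEt θ hθF hθE hθ1 hθd hθt hπ
  obtain ⟨w, hw⟩ : ∃ w, p = 4 * w + 1 := ⟨p / 4, by omega⟩
  have hGC : (Nat.card G : ℂ) * (2 * (p : ℂ) - 2) = (p : ℂ) * (X.c : ℂ) ^ 2 * (2 * (p : ℂ) - 1) := by
    rw [hσ, show (X.C.e : ℤ) = 2 * p - 1 by omega] at hG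
    have h : (Nat.card G : ℤ) * (2 * p - 2) = p * (X.c : ℤ) ^ 2 * (2 * p - 1) := by
      refine mul_right_cancel₀ (show (2 * (p : ℤ) - 2) ≠ 0 by omega) ?_
      linear_combination hG
    have h' := congrArg (fun x : ℤ => (x : ℂ)) h
    push_cast at h'
    exact h'
  have hk : (Nat.card {x : G // IsConj X.D.t x} : ℂ) * (X.c : ℂ) = (Nat.card G : ℂ) := by exact_mod_cast X.card_eq
  have key : ∀ (L : Subgroup G) [Fintype L] (h : G) (N : ℕ),
      (∑ χ : IrrCharacter G, (χ : G → ℂ) X.D.t * (χ : G → ℂ) X.D.t *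
        conj (sect L h (χ : G → ℂ)) / (χ : G → ℂ) 1 =
      2 * ((p : ℂ) - 1) ^ 2 / ((p : ℂ) * (2 * (p : ℂ) - 1))) →
      ∑ v : L, Nat.card {q : G × G // IsConj X.D.t q.1 ∧ IsConj X.D.t q.2 ∧ q.1 * q.2 = h * (v : G)} = N →
      N = 4 * w * Nat.card L := by
    intro L _ h N hs hN
    have e := pairs_sum_eq X.D.t h L
    rw [hs, hN] at e
    have hp0 : (p : ℂ) ≠ 0 := Nat.cast_ne_zero.2 (by omega)
    have hp1 : (2 : ℂ) * (p : ℂ) - 1 ≠ 0 := fun e => by
      have : ((2 * p : ℕ) : ℂ) = ((1 : ℕ) : ℂ) := by push_cast; linear_combination e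
      have : 2 * p = 1 := by exact_mod_cast this
      omega
    have hG0 : (Nat.card G : ℂ) ≠ 0 := Nat.cast_ne_zero.2 Nat.card_pos.ne'
    have hc0 : (X.c : ℂ) ≠ 0 := Nat.cast_ne_zero.2 X.c_pos.ne'
    generalize (Nat.card {x : G // IsConj X.D.t x} : ℂ) = k at e hk
    have hk' : k = (Nat.card G : ℂ) / (X.c : ℂ) := by field_simp; linear_combination hk
    subst hk'
    have hfinal : (N : ℂ) = ((4 * w * Nat.card L : ℕ) : ℂ) := by
      have hpw : (p : ℂ) = 4 * (w : ℂ) + 1 := by rw [hw]; push_cast; ring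
      rw [e]
      push_cast
      field_simp
      linear_combination ((p : ℂ) - 1) * hGC + (p : ℂ) * (X.c : ℂ) ^ 2 * (2 * (p : ℂ) - 1) * hpw
    exact_mod_cast hfinal
  have hA := key C.Kg C.g _ h1 (C.pairs_Kg X.D.t_sq X.t_ne_one (fun x a b => X.one_class a b))
  have hB := key C.K C.z _ h2 (C.pairs_K X.D.t_sq X.t_ne_one (fun x a b => X.one_class a b))
  obtain ⟨r1, r2, r3, r4⟩ := C.card_relations
  set A := invCard C.K C.u
  set B := invCard C.K C.w
  set A' := invCard C.Kg C.w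
  set D1 := fixCard C.K C.u
  set D2 := fixCard C.K C.w
  set k := Nat.card C.K
  set F := Nat.card C.KT
  have hkpos : 0 < k := Nat.card_pos
  have hKg : 0 < Nat.card C.Kg := Nat.card_pos
  have hFpos : 0 < F := Nat.card_pos
  have hD1 : 0 < D1 := Nat.pos_of_ne_zero fun e => by rw [e, zero_mul] at r1; omega
  have hD2 : 0 < D2 := Nat.pos_of_ne_zero fun e => by rw [e, zero_mul] at r2; omega
  have hA' : A' = w * F := by
    rw [← r3] at hA
    refine Nat.eq_of_mul_eq_mul_left (show 0 < 4 * A' from ?_) ?_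
    · have : A' ≠ 0 := fun e => by rw [e, mul_zero] at r3; omega
      omega
    · linear_combination hA
  have hk : k = w * D1 * D2 := by
    refine Nat.eq_of_mul_eq_mul_right (show 0 < F ^ 2 by positivity) ?_
    rw [r4, ← r3, hA']
    ring
  have hA2 : A = w * D2 := Nat.eq_of_mul_eq_mul_left hD1 (by rw [r1, hk]; ring)
  have hB2 : B = w * D1 := Nat.eq_of_mul_eq_mul_left hD2 (by rw [r2, hk]; ring)
  have hD : D1 = D2 := by
    rw [hA2, hB2, hk] at hB
    have hB' : (D1 : ℤ) ^ 2 + (D2 : ℤ) ^ 2 = 2 * D1 * D2 := by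
      have h : ((2 * (w * D2) ^ 2 + 2 * (w * D1) ^ 2 : ℕ) : ℤ) = ((4 * w * (w * D1 * D2) : ℕ) : ℤ) := by rw [hB]
      push_cast at h
      refine mul_left_cancel₀ (show (2 : ℤ) * (w : ℤ) ^ 2 ≠ 0 from ?_) ?_
      · have : (w : ℤ) ≠ 0 := by omega
        positivity
      · linear_combination h
    have h0 : ((D1 : ℤ) - D2) ^ 2 = 0 := by linear_combination hB'
    have := pow_eq_zero_iff (n := 2) two_ne_zero |>.1 h0
    omega
  exact ⟨w, D1, hw, hD1, rfl, by rw [hk, ← hD]; ring, h3⟩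

end Cfsg.Agent.DegThreeP
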