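/-
`e = 2p - 1`, three fixed points, `p > 5`: impossible.

Main result: `twoP_three`.
-/
import Cfsg.Agent.Lib.DegThreeP.TwoPValues
import Cfsg.Agent.Lib.DegThreeP.Five

set_option autoImplicit false

namespace Cfsg.Agent.DegThreeP

open Cfsg Cfsg.Agent.Char MulAction
open Cfsg.Agent.Perm.Orbital (pi)

variable {p : ℕ} [Fact p.Prime] {G : Type*} [Group G] [Fintype G] {Ω : Type*} [Fintype Ω] [MulAction G Ω]

/-- `y` is fixed by `x` and by its centralizer. -/
def Spec (x : G) (y : Ω) : Prop := x • y = y ∧ ∀ c : G, c * x = x * c → c • y = y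

omit [Fintype G] [Fintype Ω] in
theorem Spec.conj {x : G} {y : Ω} (h : Spec x y) (g : G) : Spec (g * x * g⁻¹) (g • y) := by
  refine ⟨by rw [mul_smul, mul_smul, inv_smul_smul, h.1], fun c hc => ?_⟩
  have h1 : g⁻¹ * c * g * x = x * (g⁻¹ * c * g) := by
    calc g⁻¹ * c * g * x = g⁻¹ * (c * (g * x * g⁻¹)) * g := by group
      _ = g⁻¹ * ((g * x * g⁻¹) * c) * g := by rw [hc]
      _ = _ := by group
  have h2 := h.2 _ h1
  rw [mul_smul, mul_smul, inv_smul_eq_iff] at h2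
  exact h2

omit [Fintype Ω] [Fintype G] in
theorem cj_mul [Finite G] (L : Subgroup G) (s t : G) (hs : ∀ y ∈ L, s * y * s⁻¹ ∈ L)
    (ht : ∀ y ∈ L, t * y * t⁻¹ ∈ L) (hst : ∀ y ∈ L, s * t * y * (s * t)⁻¹ ∈ L) :
    cj L s hs * cj L t ht = cj L (s * t) hst := by
  refine MulEquiv.ext fun y => Subtype.ext ?_
  rw [MulAut.mul_apply, coe_cj, coe_cj, coe_cj]
  group

variable [IsSimpleGroup G] [IsPretransitive G Ω] [FaithfulSMul G Ω]
variable (X : Ctx p G Ω) (hf : X.f = 3) (C : Core G Ω)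
variable (hK : ∀ y ∈ C.K, y • C.a = C.a ∧ y • C.b = C.b ∧ y • C.b' = C.b')

include hK in
omit [Fintype Ω] [IsSimpleGroup G] [IsPretransitive G Ω] [FaithfulSMul G Ω] [Fintype G] in
theorem spec_z : Spec C.z C.a := by
  refine ⟨C.za, fun c hc => ?_⟩
  obtain ⟨k, hk, t, ht, rfl⟩ := C.decomp c hc
  rw [mul_smul, mem_stabilizer_iff.1 (C.Ta ht), (hK k hk).1]

include hf in
omit [IsPretransitive G Ω] [FaithfulSMul G Ω] in
/-- A common fixed point of `z` and `w` is `a`. -/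
theorem eq_a {y : Ω} (hz : C.z • y = y) (hw : C.w • y = y) : y = C.a := by
  rcases fix_three X hf C.zz C.z_ne C.hab C.hab' C.hbb' C.za C.zb C.zb' hz with e | e | e
  · exact e
  · rw [e, C.wb] at hw; exact absurd hw.symm C.hbb'
  · rw [e, C.wb'] at hw; exact absurd hw C.hbb'

include hf C in
omit [IsPretransitive G Ω] [FaithfulSMul G Ω] in
theorem spec_unique {x : G} (hx : x * x = 1) (hx1 : x ≠ 1) {y y' : Ω} (h : Spec x y) (h' : Spec x y') :
    y = y' := by
  obtain ⟨c, hc⟩ := isConj_iff.1 ((X.one_class C.zz C.z_ne).symm.trans (X.one_class hx hx1))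
  have hz : c⁻¹ * x * c⁻¹⁻¹ = C.z := by rw [← hc]; group
  have key : ∀ {v : Ω}, Spec x v → c⁻¹ • v = C.a := fun {v} hv => by
    have h1 := hv.conj c⁻¹
    rw [hz] at h1
    exact eq_a X hf C h1.1 (h1.2 _ C.zw.symm)
  exact smul_left_cancel c⁻¹ ((key h).trans (key h').symm)

include hf hK in
omit [IsPretransitive G Ω] [FaithfulSMul G Ω] in
theorem spec_exists {x : G} (hx : x * x = 1) (hx1 : x ≠ 1) : ∃ y : Ω, Spec x y := by
  have := hf
  obtain ⟨c, hc⟩ := isConj_iff.1 ((X.one_class C.zz C.z_ne).symm.trans (X.one_class hx hx1))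
  exact ⟨c • C.a, hc ▸ (spec_z C hK).conj c⟩

include hf hK in
/-- The distinguished point of `u` is not `a`. -/
theorem spec_u_ne : ∃ y : Ω, Spec C.u y ∧ y ≠ C.a ∧ (y = C.b ∨ y = C.b') := by
  classical
  have := Fact.mk Nat.prime_two
  obtain ⟨y, hy⟩ := spec_exists X hf C hK C.uu C.u_ne
  have hy3 : y = C.a ∨ y = C.b ∨ y = C.b' :=
    fix_three X hf C.zz C.z_ne C.hab C.hab' C.hbb' C.za C.zb C.zb' (hy.2 _ C.zu)
  suffices hne : y ≠ C.a from ⟨y, hy, hne, hy3.resolve_left hne⟩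
  intro e
  rw [e] at hy
  have hw' : ∀ {x : G}, x * x = 1 → x ≠ 1 → C.z * x = x * C.z → C.w * x = x * C.w → Spec x C.a := by
    intro x hx hx1 hzx hwx
    obtain ⟨v, hv⟩ := spec_exists X hf C hK hx hx1
    exact eq_a X hf C (hv.2 _ hzx) (hv.2 _ hwx) ▸ hv
  have hT : ∀ t ∈ (C.T : Subgroup G), t * t = 1 → t ≠ 1 → Spec t C.a := by
    intro t ht ht2 ht1
    rcases C.T_list ht with h | h | h | h | h | h | h | h
    · exact absurd h ht1
    · exact h ▸ spec_z C hK
    · exact h ▸ hy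
    · rw [h, ← C.wuw]
      have h' := hy.conj C.w
      rwa [C.w_inv, C.wa] at h'
    · rw [h]
      exact hw' C.ww (fun e => C.w_notMem (e ▸ one_mem _)) C.zw rfl
    · rw [h] at ht2 ht1 ⊢
      refine hw' ht2 ht1 ?_ ?_
      · rw [mul_assoc C.z C.w C.z, C.zw]
      · rw [← mul_assoc, ← C.zw]
    · exfalso
      have h' : C.u * C.w = C.g⁻¹ := by rw [Frame.g, mul_inv_rev, C.w_inv, C.u_inv]
      rw [h, h', ← mul_inv_rev, C.g_sq, C.z_inv] at ht2
      exact C.z_ne ht2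
    · exfalso
      rw [h, C.g_sq] at ht2
      exact C.z_ne ht2
  have hall : ∀ x : G, x * x = 1 → x ≠ 1 → x • C.a = C.a → Spec x C.a := by
    intro x hx hx1 hxa
    set H := stabilizer G C.a
    have hxH : x ∈ H := hxa
    have ho : orderOf x = 2 := orderOf_eq_prime (by rw [pow_two, hx]) hx1
    obtain ⟨Q, hQ⟩ := (IsPGroup.of_card (p := 2) (n := 1) (by
      rw [Nat.card_zpowers, Subgroup.orderOf_mk, ho, pow_one]) :
        IsPGroup 2 (Subgroup.zpowers (⟨x, hxH⟩ : H))).exists_le_sylow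
    obtain ⟨h, hh⟩ := MulAction.exists_smul_eq H Q (C.T.subtype C.Ta)
    have hmem : h * ⟨x, hxH⟩ * h⁻¹ ∈ ((C.T.subtype C.Ta : Sylow 2 H) : Subgroup H) := by
      rw [← hh, Sylow.coe_subgroup_smul]
      exact ⟨⟨x, hxH⟩, hQ (Subgroup.mem_zpowers _), rfl⟩
    have hmem' : (h : G) * x * (h : G)⁻¹ ∈ (C.T : Subgroup G) := hmem
    have h2 : (h : G) * x * (h : G)⁻¹ * ((h : G) * x * (h : G)⁻¹) = 1 := by
      rw [← pow_two, conj_pow, pow_two, hx, mul_one, mul_inv_cancel]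
    have h3 := (hT _ hmem' h2 (fun e => hx1 (conj_eq_one_iff.1 e))).conj ((h : G)⁻¹)
    have e' : (h : G)⁻¹ • C.a = C.a := mem_stabilizer_iff.1 (inv_mem h.2)
    rw [e', show (h : G)⁻¹ * ((h : G) * x * (h : G)⁻¹) * (h : G)⁻¹⁻¹ = x by group] at h3
    exact h3
  obtain ⟨g, hg⟩ := exists_smul_eq G C.b C.a
  have h1 : g * C.z * g⁻¹ * (g * C.z * g⁻¹) = 1 := by
    rw [← pow_two, conj_pow, pow_two, C.zz, mul_one, mul_inv_cancel]
  have h2 : g * C.z * g⁻¹ ≠ 1 := fun e => C.z_ne (conj_eq_one_iff.1 e)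
  have h4 := hall _ h1 h2 (by rw [← hg, mul_smul, mul_smul, inv_smul_smul, C.zb])
  have h5 := spec_unique X hf C h1 h2 h4 ((spec_z C hK).conj g)
  exact C.hab (smul_left_cancel g (h5.symm.trans hg.symm))

include hf hK in
/-- The two-point stabiliser is the four group times a group of order `|K|^3 / D^2`. -/
theorem card_two_point (hV : (Nat.card G).factorization 2 = 3) :
    ∃ M : ℕ, Nat.card ↥(stabilizer G C.a ⊓ stabilizer G C.b) = 4 * M ∧
      M * fixCard C.K C.u ^ 2 = Nat.card C.K ^ 3 := by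
  classical
  have := Fact.mk Nat.prime_two
  set L := stabilizer G C.a ⊓ stabilizer G C.b with hL
  have hT0L : C.toTriple.T0 ≤ L := le_inf C.toTriple.T0_le_a inf_le_right
  have h4 : Nat.card C.toTriple.T0 = 2 ^ 2 := by
    have := C.toTriple.card_T
    have := C.card_eight
    rw [show (2 : ℕ) ^ 2 = 4 from rfl]
    omega
  have hv : (Nat.card L).factorization 2 = 2 := by
    refine le_antisymm ?_ ((Nat.prime_two.pow_dvd_iff_le_factorization Nat.card_pos.ne').1
      (h4 ▸ Subgroup.card_dvd_of_le hT0L))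
    by_contra hlt
    obtain ⟨R, hR⟩ := Sylow.exists_subgroup_card_pow_prime 2
      ((Nat.prime_two.pow_dvd_iff_le_factorization Nat.card_pos.ne').2 (show 3 ≤ (Nat.card L).factorization 2 by omega))
    have hc : Nat.card (R.map L.subtype) = 2 ^ 3 := by
      rw [Subgroup.card_map_of_injective L.subtype_injective, hR]
    obtain ⟨S, hS⟩ := (IsPGroup.of_card (n := 3) hc : IsPGroup 2 (R.map L.subtype)).exists_le_sylow
    have e : R.map L.subtype = (S : Subgroup G) := Subgroup.eq_of_le_of_card_ge hS (by rw [hc, card_T_eq, hV])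
    have hle : (S : Subgroup G) ≤ L := e ▸ Subgroup.map_subtype_le _
    obtain ⟨g, hg⟩ := MulAction.exists_smul_eq G S C.T
    have key : ∀ y : Ω, (∀ s ∈ (S : Subgroup G), s • y = y) → g • y = C.a := by
      intro y hy
      have h : ∀ t ∈ (C.T : Subgroup G), t • g • y = g • y := by
        intro t ht
        rw [← hg, Sylow.coe_subgroup_smul] at ht
        obtain ⟨s, hs, rfl⟩ := ht
        show (g * s * g⁻¹) • g • y = g • y
        rw [mul_smul, mul_smul, inv_smul_smul, hy s hs]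
      exact eq_a X hf C (h _ C.zT.1) (h _ C.wT)
    exact C.hab (smul_left_cancel g ((key _ fun s hs => (hle hs).1).trans (key _ fun s hs => (hle hs).2).symm))
  let P : Sylow 2 L := Sylow.ofCard (C.toTriple.T0.subgroupOf L) (by
    rw [Nat.card_congr (Subgroup.subgroupOfEquivOfLe hT0L).toEquiv, h4, hv])
  have hP : ∀ x : L, x ∈ (P : Subgroup L) ↔ (x : G) ∈ C.toTriple.T0 := fun x => Iff.rfl
  obtain ⟨y0, hy0, hy0a, hy0b⟩ := spec_u_ne X hf C hK
  have huz : C.w * C.u * C.w⁻¹ = C.u * C.z := by rw [C.w_inv, C.wuw]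
  have hspuz : Spec (C.u * C.z) (C.w • y0) := huz ▸ hy0.conj C.w
  have hwy : C.w • y0 ≠ y0 ∧ C.w • y0 ≠ C.a := by
    rcases hy0b with e | e <;> rw [e]
    · rw [C.wb]; exact ⟨C.hbb'.symm, C.hab'.symm⟩
    · rw [C.wb']; exact ⟨C.hbb', C.hab.symm⟩
  have huz1 : C.u * C.z ≠ 1 := fun e => C.uz_ne ((eq_inv_of_mul_eq_one_left e).trans C.z_inv)
  have hcen : Subgroup.normalizer ((P : Subgroup L) : Set L) ≤
      Subgroup.centralizer ((P : Subgroup L) : Set L) := by
    intro n hn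
    set g : G := (n : G)
    have hga : g • C.a = C.a := n.2.1
    have hgb : g • C.b = C.b := n.2.2
    have hnorm : ∀ x ∈ C.toTriple.T0, g * x * g⁻¹ ∈ C.toTriple.T0 := fun x hx =>
      (hP _).1 ((Subgroup.mem_normalizer_iff.1 hn ⟨x, hT0L hx⟩).1 ((hP _).2 hx))
    have hgb' : g • C.b' = C.b' := by
      have hfixz : C.z • g • C.b' = g • C.b' := by
        obtain ⟨x, hx, hxe⟩ : ∃ x ∈ C.toTriple.T0, g * x * g⁻¹ = C.z := by
          have hm := (Subgroup.mem_normalizer_iff.1 hn (n⁻¹ * ⟨C.z, hT0L C.zT⟩ * n)).2 (by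
            rw [show n * (n⁻¹ * (⟨C.z, hT0L C.zT⟩ : L) * n) * n⁻¹ = ⟨C.z, hT0L C.zT⟩ by group]
            exact (hP _).2 C.zT)
          refine ⟨g⁻¹ * C.z * g, (hP _).1 hm, by group⟩
        rw [← hxe, mul_smul, mul_smul, inv_smul_smul, mem_stabilizer_iff.1 (C.toTriple.T0_le_b' hx)]
      rcases fix_three X hf C.zz C.z_ne C.hab C.hab' C.hbb' C.za C.zb C.zb' hfixz with e | e | e
      · exact absurd (smul_left_cancel g (e.trans hga.symm)) C.hab'.symm
      · exact absurd (smul_left_cancel g (e.trans hgb.symm)) C.hbb'.symm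
      · exact e
    have hgy : g • y0 = y0 := by rcases hy0b with e | e <;> rw [e] <;> assumption
    have hcase : ∀ x ∈ C.toTriple.T0, x ≠ 1 → ∀ v : Ω, Spec x v → g • v = v → g * x * g⁻¹ = x := by
      intro x hx hx1 v hxv hgv
      have hT : ∀ y ∈ C.toTriple.T0, y ≠ 1 → (y = C.z ∧ Spec y C.a) ∨ (y = C.u ∧ Spec y y0) ∨
          (y = C.u * C.z ∧ Spec y (C.w • y0)) := by
        intro y hy hy1
        rcases C.T0_cases y hy with e | e | e | e
        · exact absurd e hy1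
        · exact Or.inl ⟨e, e ▸ spec_z C hK⟩
        · exact Or.inr (Or.inl ⟨e, e ▸ hy0⟩)
        · exact Or.inr (Or.inr ⟨e, e ▸ hspuz⟩)
      have hsq : ∀ y ∈ C.toTriple.T0, y * y = 1 := by
        intro y hy
        rcases C.T0_cases y hy with e | e | e | e <;> rw [e]
        · exact one_mul 1
        · exact C.zz
        · exact C.uu
        · exact C.uz_sq
      have hx' := hxv.conj g
      rw [hgv] at hx'
      have hne : g * x * g⁻¹ ≠ 1 := fun e => hx1 (conj_eq_one_iff.1 e)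
      have u1 : ∀ {v'}, Spec (g * x * g⁻¹) v' → v = v' := fun h =>
        spec_unique X hf C (hsq _ (hnorm x hx)) hne hx' h
      have u2 : ∀ {v'}, Spec x v' → v = v' := fun h => spec_unique X hf C (hsq _ hx) hx1 hxv h
      rcases hT x hx hx1 with ⟨e, h⟩ | ⟨e, h⟩ | ⟨e, h⟩ <;>
        rcases hT _ (hnorm x hx) hne with ⟨e', h'⟩ | ⟨e', h'⟩ | ⟨e', h'⟩ <;>
        first
        | exact e'.trans e.symm
        | exfalso; have := (u2 h).symm.trans (u1 h'); first
          | exact hy0a this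
          | exact hy0a this.symm
          | exact hwy.1 this
          | exact hwy.1 this.symm
          | exact hwy.2 this
          | exact hwy.2 this.symm
    rw [Subgroup.mem_centralizer_iff]
    intro x hx
    apply Subtype.ext
    show (x : G) * g = g * x
    have hcomm : ∀ y : G, g * y * g⁻¹ = y → y * g = g * y := fun y h => (mul_inv_eq_iff_eq_mul.1 h).symm
    have hz' := hcase C.z C.zT C.z_ne _ (spec_z C hK) hga
    have hu' := hcase C.u C.uT C.u_ne _ hy0 hgy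
    rcases C.T0_cases _ ((hP x).1 hx) with e | e | e | e <;> rw [e]
    · rw [one_mul, mul_one]
    · exact hcomm _ hz'
    · exact hcomm _ hu'
    · exact hcomm _ (by
        calc g * (C.u * C.z) * g⁻¹ = g * C.u * g⁻¹ * (g * C.z * g⁻¹) := by group
          _ = _ := by rw [hu', hz'])
  obtain ⟨M1, -, hM1, hM1c⟩ := exists_odd_subgroup_of_central P hcen
  set M : Subgroup G := M1.map L.subtype with hMdef
  have hMmem : ∀ x : G, x ∈ M ↔ x • C.a = C.a ∧ x • C.b = C.b ∧ Odd (orderOf x) := by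
    intro x
    constructor
    · rintro ⟨y, hy, rfl⟩
      refine ⟨y.2.1, y.2.2, ?_⟩
      have h := (hM1 y).1 hy
      rwa [← Subgroup.orderOf_coe y] at h
    · rintro ⟨h1, h2, h3⟩
      exact ⟨⟨x, h1, h2⟩, (hM1 _).2 (by rw [← Subgroup.orderOf_coe]; exact h3), rfl⟩
  have hPc : Nat.card (P : Subgroup L) = 4 := by
    show Nat.card (C.toTriple.T0.subgroupOf L) = 4
    rw [Nat.card_congr (Subgroup.subgroupOfEquivOfLe hT0L).toEquiv, h4]; rfl
  refine ⟨Nat.card M, ?_, ?_⟩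
  · rw [hMdef, Subgroup.card_map_of_injective L.subtype_injective, ← hM1c, hPc, mul_comm]
  have hMc : ∀ x ∈ L, ∀ y ∈ M, x * y * x⁻¹ ∈ M := by
    intro x hx y hy
    obtain ⟨h1, h2, h3⟩ := (hMmem y).1 hy
    refine (hMmem _).2 ⟨?_, ?_, by rwa [← MulAut.conj_apply, MulEquiv.orderOf_eq]⟩
    · rw [mul_smul, mul_smul, inv_smul_eq_iff.2 (hx.1 : x • C.a = C.a).symm, h1, (hx.1 : x • C.a = C.a)]
    · rw [mul_smul, mul_smul, inv_smul_eq_iff.2 (hx.2 : x • C.b = C.b).symm, h2, (hx.2 : x • C.b = C.b)]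
  -- the centralizer in `M` of an involution of the four group
  have hcent : ∀ x : G, x * x = 1 → x ≠ 1 → x • C.a = C.a → x • C.b = C.b →
      fixCard M x = Nat.card C.K := by
    intro x hx hx1 hxa hxb
    obtain ⟨c, hc⟩ := isConj_iff.1 ((X.one_class C.zz C.z_ne).symm.trans (X.one_class hx hx1))
    have hfix : ∀ k ∈ C.K, ∀ v : Ω, x • v = v → (c * k * c⁻¹) • v = v := by
      intro k hk v hv
      have hzv : C.z • c⁻¹ • v = c⁻¹ • v := by
        rw [← hc, mul_smul, mul_smul] at hv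
        exact eq_inv_smul_iff.2 hv
      have hkv : k • c⁻¹ • v = c⁻¹ • v := by
        obtain ⟨k1, k2, k3⟩ := hK k hk
        rcases fix_three X hf C.zz C.z_ne C.hab C.hab' C.hbb' C.za C.zb C.zb' hzv with e | e | e <;>
          rw [e] <;> assumption
      rw [mul_smul, mul_smul, hkv, smul_inv_smul]
    have e : M ⊓ Subgroup.centralizer ({x} : Set G) = C.K.map (MulAut.conj c).toMonoidHom := by
      ext y
      rw [Subgroup.mem_inf, hMmem, Subgroup.mem_centralizer_singleton_iff, Subgroup.mem_map]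
      constructor
      · rintro ⟨⟨-, -, hyo⟩, hyx⟩
        refine ⟨c⁻¹ * y * c, (C.mem_K _).2 ⟨?_, ?_⟩, by simp [mul_assoc]⟩
        · calc c⁻¹ * y * c * C.z = c⁻¹ * (y * (c * C.z * c⁻¹)) * c := by group
            _ = c⁻¹ * ((c * C.z * c⁻¹) * y) * c := by rw [hc, hyx]
            _ = _ := by group
        · rwa [show c⁻¹ * y * c = MulAut.conj c⁻¹ y by simp, MulEquiv.orderOf_eq]
      · rintro ⟨k, hk, rfl⟩
        show ((c * k * c⁻¹) • C.a = C.a ∧ (c * k * c⁻¹) • C.b = C.b ∧ Odd (orderOf (c * k * c⁻¹))) ∧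
          c * k * c⁻¹ * x = x * (c * k * c⁻¹)
        refine ⟨⟨hfix k hk _ hxa, hfix k hk _ hxb, ?_⟩, ?_⟩
        · rw [← MulAut.conj_apply, MulEquiv.orderOf_eq]; exact C.K_odd hk
        · rw [← hc]
          calc c * k * c⁻¹ * (c * C.z * c⁻¹) = c * (k * C.z) * c⁻¹ := by group
            _ = _ := by rw [C.K_cent hk]; group
    rw [fixCard, e, Subgroup.card_map_of_injective (MulAut.conj c).injective]
  have hzL : C.z ∈ L := hT0L C.zT
  have huL : C.u ∈ L := hT0L C.uT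
  have hMz := hMc _ hzL
  have hMu := hMc _ huL
  have hMzu := hMc _ (mul_mem hzL huL)
  have hodd : Odd (Nat.card M) := by
    rw [← Nat.not_even_iff_odd, even_iff_two_dvd]
    intro h
    obtain ⟨⟨y, hy⟩, hyo⟩ := exists_prime_orderOf_dvd_card' (G := M) 2 h
    rw [Subgroup.orderOf_mk] at hyo
    have := ((hMmem y).1 hy).2.2
    rw [hyo] at this
    exact absurd this (by decide)
  have hcomm : Commute (cj M C.z hMz) (cj M C.u hMu) := by
    rw [Commute, SemiconjBy, cj_mul M C.z C.u hMz hMu hMzu,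
      cj_mul M C.u C.z hMu hMz (hMc _ (mul_mem huL hzL))]
    simp only [C.zu]
  have hw := wielandt_four hodd (cj M C.z hMz) (cj M C.u hMu) (cj_sq _ _ _ C.zz) (cj_sq _ _ _ C.uu) hcomm
  rw [cj_mul M C.z C.u hMz hMu hMzu, card_fixAut_cj, card_fixAut_cj, card_fixAut_cj,
    hcent _ C.zz C.z_ne C.za C.zb, hcent _ C.uu C.u_ne C.ua C.ub,
    hcent (C.z * C.u) (by rw [C.zu]; exact C.uz_sq) (by rw [C.zu]; exact huz1)
      (by rw [mul_smul, C.ua, C.za]) (by rw [mul_smul, C.ub, C.zb])] at hw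
  have hD : Nat.card ↥(fixAut (cj M C.z hMz) ⊓ fixAut (cj M C.u hMu)) = fixCard C.K C.u := by
    have hmem : ∀ y : G, y ∈ C.K → y ∈ M := fun y hy => (hMmem y).2 ⟨(hK y hy).1, (hK y hy).2.1, C.K_odd hy⟩
    refine Nat.card_congr
      { toFun := fun y => ⟨(y.1 : G), (C.mem_K _).2 ⟨?_, ((hMmem _).1 y.1.2).2.2⟩, ?_⟩
        invFun := fun y => ⟨⟨y.1, hmem _ y.2.1⟩, mem_fixAut.2 (Subtype.ext ?_), mem_fixAut.2 (Subtype.ext ?_)⟩
        left_inv := fun _ => rfl
        right_inv := fun _ => rfl }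
    · exact (mul_inv_eq_iff_eq_mul.1 (congrArg Subtype.val (mem_fixAut.1 y.2.1))).symm
    · exact Subgroup.mem_centralizer_singleton_iff.2
        (mul_inv_eq_iff_eq_mul.1 (congrArg Subtype.val (mem_fixAut.1 y.2.2))).symm
    · show C.z * (y : G) * C.z⁻¹ = y
      rw [← C.K_cent y.2.1, mul_inv_cancel_right]
    · show C.u * (y : G) * C.u⁻¹ = y
      rw [mul_inv_eq_iff_eq_mul]; exact (Subgroup.mem_centralizer_singleton_iff.1 y.2.2).symm
  rw [hD] at hw
  rw [hw]; ring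

include hf in
/-- `e = 2p - 1` with three fixed points: `p = 5` and `G ≅ A_6`, primitive. -/
theorem twoP_three (hσ : X.C.σ = -1) (he : X.C.e + 1 = 2 * p)
    (hEt : (X.C.E : G → ℂ) X.D.t = 1)
    (hG : (Nat.card G : ℤ) * ((X.C.e : ℤ) - 1) ^ 2 = p * (X.c : ℤ) ^ 2 * X.C.e * (X.C.e + X.C.σ))
    (θ : IrrCharacter G) (hθF : θ ∉ X.C.F) (hθE : θ ≠ X.C.E) (hθ1 : (θ : G → ℂ) ≠ 1)
    (hθd : (θ : G → ℂ) 1 = (p : ℂ)) (hθt : (θ : G → ℂ) X.D.t = 1)
    (hπ : ∀ g, pi G Ω g = 1 + (X.C.E : G → ℂ) g + (θ : G → ℂ) g) :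
    p = 5 ∧ IsPreprimitive G Ω ∧ Nonempty (G ≃* alternatingGroup (Fin 6)) := by
  classical
  obtain ⟨hV, hp8, Z, k, hk, -⟩ := structure_twoP X hf hσ he hG θ hθE hθ1 hθd hπ
  by_cases hp5 : p = 5
  · exact ⟨hp5, twoP_five X hf hp5 hσ he hV hG⟩
  exfalso
  have hp13 : 13 ≤ p := by omega
  obtain ⟨Fr, hFr⟩ := exists_frame X hf Z hV hp8
  obtain ⟨C, hC⟩ := exists_core X hf Fr
  obtain ⟨w, D, hw, hD0, hDu, hKc, hK⟩ :=
    twoP_relations X hf C hp13 hp8 hσ he hEt hG θ hθF hθE hθ1 hθd hθt hπ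
  obtain ⟨M, hLM, hMD⟩ := card_two_point X hf C hK hV
  subst hFr
  subst hC
  rw [hLM] at hk
  rw [hDu, hKc] at hMD
  have hM : M = w ^ 3 * D ^ 4 :=
    Nat.eq_of_mul_eq_mul_right (show 0 < D ^ 2 by positivity) (by rw [hMD]; ring)
  set H := Nat.card (stabilizer G C.a)
  have hGH : Nat.card G = 3 * p * H := by
    rw [← (stabilizer G C.a).index_mul_card, index_stabilizer_of_transitive G C.a, Nat.card_eq_fintype_card,
      X.card_Ω]
  have hc : X.c = 8 * (w * D ^ 2) := by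
    rw [← X.card_centralizer_involution C.zz C.z_ne, C.card_C, hKc]
  have hG' : Nat.card G * (8 * w) = p * (64 * w ^ 2 * D ^ 4) * (8 * w + 1) := by
    have hwpos : (w : ℤ) ≠ 0 := by omega
    have : ((Nat.card G * (8 * w) : ℕ) : ℤ) = ((p * (64 * w ^ 2 * D ^ 4) * (8 * w + 1) : ℕ) : ℤ) := by
      rw [hσ, show (X.C.e : ℤ) = 8 * w + 1 by omega, hc] at hG
      push_cast at hG ⊢
      refine mul_right_cancel₀ (show (8 : ℤ) * w ≠ 0 by omega) ?_
      linear_combination hG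
    exact_mod_cast this
  have key : 3 * k * w ^ 2 = 2 * (8 * w + 1) := by
    refine Nat.eq_of_mul_eq_mul_left (show 0 < 32 * w ^ 2 * D ^ 4 * p by
      have : 0 < w := by omega
      have := X.five
      positivity) ?_
    rw [hGH, ← hk, hM] at hG'
    linear_combination hG'
  have hdvd : w ∣ 2 := by
    have h : w ∣ 2 * (8 * w + 1) := key ▸ ⟨3 * k * w, by ring⟩
    rw [show 2 * (8 * w + 1) = 16 * w + 2 by ring] at h
    exact (Nat.dvd_add_right (dvd_mul_left w 16)).1 h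
  have := Nat.le_of_dvd two_pos hdvd
  omega

end Cfsg.Agent.DegThreeP
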