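/-
No involution fixes exactly one point in the cases `e = 2p - 1` and `e = 3p - 1` (Bender).
-/
import Cfsg.Agent.Lib.DegThreeP.Two
import Cfsg.Agent.Lib.Bender.FreeCase
import Cfsg.Agent.Lib.Bender.HalfCore
import Cfsg.Agent.Lib.Bender.Final
import Cfsg.Agent.Lib.Perm.Subdegrees

set_option autoImplicit false

namespace Cfsg.Agent.DegThreeP

open Cfsg Cfsg.Agent.Char MulAction
open Cfsg.Agent.Perm.Orbital (pi)

variable {p : ℕ} [Fact p.Prime] {G : Type*} [Group G] [Fintype G] {Ω : Type*} [Fintype Ω] [MulAction G Ω]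
variable [IsSimpleGroup G] [IsPretransitive G Ω] [FaithfulSMul G Ω]

omit [Fact p.Prime] [IsSimpleGroup G] [IsPretransitive G Ω] [FaithfulSMul G Ω] in
theorem fixed_unique {x : G} (hx : Nat.card (fixedBy Ω x) = 1) {a b : Ω} (ha : x • a = a)
    (hb : x • b = b) : a = b :=
  congrArg Subtype.val ((Nat.card_eq_one_iff_unique.1 hx).1.elim (⟨a, ha⟩ : fixedBy Ω x) ⟨b, hb⟩)

variable (X : Ctx p G Ω) (hf : X.f = 1)

include hf in
omit [IsPretransitive G Ω] [FaithfulSMul G Ω] in
/-- Every involution fixes exactly one point. -/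
theorem card_fix_one {x : G} (hx : x * x = 1) (hx1 : x ≠ 1) : Nat.card (fixedBy Ω x) = 1 :=
  (X.card_fixedBy_involution hx hx1).trans hf

include hf in
theorem stronglyEmbedded (a : Ω) : Cfsg.IsStronglyEmbedded (stabilizer G a) := by
  refine Involution.isStronglyEmbedded_iff_forall.2 ⟨fun h => ?_, ?_, fun g t ht htH hgH => ?_⟩
  · have := index_stabilizer_of_transitive G a
    rw [h, Subgroup.index_top, Nat.card_eq_fintype_card, X.card_Ω] at this
    have := X.five
    omega
  · obtain ⟨⟨⟨b, hb⟩⟩, -⟩ := Nat.card_pos_iff.1 (show 0 < Nat.card (fixedBy Ω X.D.t) by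
      rw [card_fix_one X hf X.D.t_sq X.t_ne_one]; exact one_pos)
    obtain ⟨g, hg⟩ := exists_smul_eq G b a
    have hmem : g * X.D.t * g⁻¹ ∈ stabilizer G a := by
      rw [mem_stabilizer_iff, ← hg, mul_smul, mul_smul, inv_smul_smul, hb]
    rw [even_iff_two_dvd, ← orderOf_eq_prime (x := g * X.D.t * g⁻¹) (p := 2) (by
      rw [conj_pow, pow_two, X.D.t_sq, mul_one, mul_inv_cancel]) (fun e => X.t_ne_one (conj_eq_one_iff.1 e))]
    exact Subgroup.orderOf_dvd_natCard _ hmem
  · have hs : g * t * g⁻¹ * (g * t * g⁻¹) = 1 := by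
      rw [← pow_two, conj_pow, ← ht, pow_orderOf_eq_one, mul_one, mul_inv_cancel]
    have h1 : g * t * g⁻¹ ≠ 1 := fun e => by
      rw [conj_eq_one_iff.1 e, orderOf_one] at ht
      exact absurd ht (by norm_num)
    exact mem_stabilizer_iff.2 (fixed_unique (card_fix_one X hf hs h1)
      (by rw [mul_smul, mul_smul, inv_smul_smul, mem_stabilizer_iff.1 htH]) hgH)

include hf in
/-- `G` is doubly transitive. -/
theorem two_transitive (a : Ω) {y z : Ω} (hy : y ≠ a) (hz : z ≠ a) :
    ∃ g : G, g • a = a ∧ g • y = z := by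
  have hH := stronglyEmbedded X hf a
  rcases Bender.dichotomy_of_coreTwo hH (Bender.coreTwo hH) with h | ⟨-, h⟩
  · obtain ⟨g₁, rfl⟩ := exists_smul_eq G a y
    obtain ⟨g₂, rfl⟩ := exists_smul_eq G a z
    obtain ⟨k, hk, e⟩ := h g₁ g₂ hy hz
    refine ⟨k, hk, ?_⟩
    have := mem_stabilizer_iff.1 e
    rw [mul_smul, mul_smul, inv_smul_eq_iff] at this
    exact this
  · exfalso
    have : Fact (Nat.Prime 2) := ⟨Nat.prime_two⟩
    have hn : (Cfsg.oddCore G).Normal := Cores.pPrimeCore_normal 2 G
    rcases hn.eq_bot_or_eq_top with e | e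
    · rw [e, bot_sup_eq] at h
      exact hH.1 h
    · have h2 : 2 ∣ Nat.card G := (even_iff_two_dvd.1 hH.2.1).trans (Subgroup.card_subgroup_dvd_card _)
      have hc := Cores.coprime_card_pPrimeCore (G := G) 2
      rw [show Cfsg.pPrimeCore 2 G = Cfsg.oddCore G from rfl, e, Subgroup.card_top] at hc
      exact Nat.prime_two.coprime_iff_not_dvd.1 hc.symm h2

include hf in
/-- The rank is two. -/
theorem classInner_pi_pi : classInner (pi G Ω) (pi G Ω) = 2 := by
  classical
  obtain ⟨a⟩ : Nonempty Ω := Fintype.card_pos_iff.1 (by rw [X.card_Ω]; have := X.five; omega)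
  rw [← Perm.Orbital.card_orbitals_eq_classInner, ← Perm.Orbital.card_suborbits a]
  have hq : Nat.card (orbitRel.Quotient (stabilizer G a) Ω) = 2 := by
    obtain ⟨b, hb⟩ := Fintype.exists_ne_of_one_lt_card (by rw [X.card_Ω]; have := X.five; omega) a
    refine Nat.card_eq_two_iff.2 ⟨⟦a⟧, ⟦b⟧, fun e => ?_, ?_⟩
    · obtain ⟨g, hg⟩ := orbitRel_apply.1 (Quotient.exact e.symm)
      exact hb (hg.symm.trans g.2)
    · refine Set.eq_univ_of_forall fun q => ?_
      induction q using Quotient.inductionOn with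
      | h y =>
        by_cases hy : y = a
        · exact Or.inl (hy ▸ rfl)
        · obtain ⟨g, hga, hgy⟩ := two_transitive X hf a hb hy
          exact Or.inr (Quotient.sound (orbitRel_apply.2 ⟨⟨g, hga⟩, hgy⟩))
  rw [hq, Nat.cast_ofNat]

include hf in
/-- `e = 2p - 1` is impossible. -/
theorem twoP_false (θ : IrrCharacter G) (hθE : θ ≠ X.C.E) (hθ1 : (θ : G → ℂ) ≠ 1)
    (hπ : ∀ g, pi G Ω g = 1 + (X.C.E : G → ℂ) g + (θ : G → ℂ) g) : False := by
  classical
  have h := classInner_pi_pi X hf
  have hπ' : pi G Ω = ((1 : G → ℂ) + (X.C.E : G → ℂ)) + (θ : G → ℂ) := funext hπ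
  have hE1 := X.C.E_ne
  have hne : (θ : G → ℂ) ≠ (X.C.E : G → ℂ) := fun e => hθE (Subtype.ext e)
  rw [hπ'] at h
  simp only [classInner_add_left, classInner_add_right, classInner_irr isIrrCharacter_one isIrrCharacter_one,
    classInner_irr isIrrCharacter_one X.C.E.2, classInner_irr X.C.E.2 isIrrCharacter_one,
    classInner_irr isIrrCharacter_one θ.2, classInner_irr θ.2 isIrrCharacter_one,
    classInner_irr X.C.E.2 θ.2, classInner_irr θ.2 X.C.E.2, classInner_irr θ.2 θ.2,
    classInner_irr X.C.E.2 X.C.E.2] at h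
  simp [hE1, Ne.symm hE1, hθ1, Ne.symm hθ1, hne, Ne.symm hne] at h
  norm_num at h

include hf in
/-- `e = 3p - 1` is impossible. -/
theorem threeP_false (hσ : X.C.σ = -1) (he : X.C.e + 1 = 3 * p)
    (hG : (Nat.card G : ℤ) * ((X.C.e : ℤ) - 0) ^ 2 = p * (X.c : ℤ) ^ 2 * X.C.e * (X.C.e + X.C.σ)) :
    False := by
  classical
  obtain ⟨a⟩ : Nonempty Ω := Fintype.card_pos_iff.1 (by rw [X.card_Ω]; have := X.five; omega)
  set H := stabilizer G a with hHdef
  have hH := stronglyEmbedded X hf a
  have hcore := Bender.normalCore_of_simple hH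
  have h2 := SuzukiRankOne.two_involutions_of_simple hH
  have hS := Bender.coreTwo hH
  -- the involutions of `H`, with `1`, form a subgroup
  let Z : Subgroup G :=
    { carrier := {x | x ∈ H ∧ x * x = 1}
      one_mem' := ⟨H.one_mem, one_mul 1⟩
      mul_mem' := by
        rintro x y ⟨hx, hx2⟩ ⟨hy, hy2⟩
        have hc : Commute x y := by
          by_cases hx1 : x = 1
          · rw [hx1]; exact Commute.one_left y
          by_cases hy1 : y = 1
          · rw [hy1]; exact Commute.one_right x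
          exact Bender.commute_involutions hH hcore h2 hS (Involution.orderOf_of_sq hx2 hx1) hx
            (Involution.orderOf_of_sq hy2 hy1) hy
        exact ⟨H.mul_mem hx hy, by rw [hc.symm.mul_mul_mul_comm, hx2, hy2, one_mul]⟩
      inv_mem' := by
        rintro x ⟨hx, hx2⟩
        exact ⟨H.inv_mem hx, by rw [← mul_inv_rev, hx2, inv_one]⟩ }
  -- `|Z| ≤ 3p - 1`
  obtain ⟨b, hb⟩ := Fintype.exists_ne_of_one_lt_card (by rw [X.card_Ω]; have := X.five; omega) a
  have hZle : Nat.card Z ≤ 3 * p - 1 := by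
    have hmap : ∀ z : Z, (z : G) • b ≠ a := fun z e => hb (by
      have h1 : (z : G) • a = a := z.2.1
      exact smul_left_cancel (z : G) (e.trans h1.symm))
    have hinj : Function.Injective (fun z : Z => (⟨(z : G) • b, hmap z⟩ : {y : Ω // y ≠ a})) := by
      intro x y h
      have h' : (x : G) • b = (y : G) • b := congrArg Subtype.val h
      have hw := Z.mul_mem y.2 x.2
      by_contra hne
      have hyy : (y : G) * (y : G) = 1 := y.2.2
      have hne' : (y : G) * (x : G) ≠ 1 := fun e => hne (Subtype.ext (by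
        rw [eq_inv_of_mul_eq_one_right e, inv_eq_of_mul_eq_one_left hyy]))
      refine hb (fixed_unique (card_fix_one X hf hw.2 hne') ?_ hw.1)
      rw [mul_smul, h', ← mul_smul, hyy, one_smul]
    refine (Nat.card_le_card_of_injective _ hinj).trans_eq ?_
    rw [Nat.card_eq_fintype_card, Fintype.card_subtype_compl, Fintype.card_subtype_eq, X.card_Ω]
  -- every point is fixed by `|Z| - 1` involutions
  have hfib : ∀ y : Ω, Nat.card {x : G // IsConj X.D.t x ∧ x • y = y} + 1 = Nat.card Z := by
    intro y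
    obtain ⟨g, rfl⟩ := exists_smul_eq G a y
    have e : Nat.card {x : G // IsConj X.D.t x ∧ x • g • a = g • a} =
        Nat.card {z : Z // z ≠ 1} := by
      refine Nat.card_congr
        { toFun := fun x => ⟨⟨g⁻¹ * x.1 * g, ?_, ?_⟩, ?_⟩
          invFun := fun z => ⟨g * (z.1 : G) * g⁻¹, ?_, ?_⟩
          left_inv := fun x => Subtype.ext (by simp [mul_assoc])
          right_inv := fun z => Subtype.ext (Subtype.ext (by simp [mul_assoc])) }
      · rw [hHdef, mem_stabilizer_iff, mul_smul, mul_smul, x.2.2, inv_smul_smul]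
      · have := DegTwoP.sq_of_isConj X.D.t_sq x.2.1
        calc g⁻¹ * x.1 * g * (g⁻¹ * x.1 * g) = g⁻¹ * (x.1 * x.1) * g := by group
          _ = 1 := by rw [this, mul_one, inv_mul_cancel]
      · intro e
        have h1 : x.1 = 1 := by
          have e' : g⁻¹ * x.1 * g = 1 := congrArg Subtype.val e
          calc x.1 = g * (g⁻¹ * x.1 * g) * g⁻¹ := by group
            _ = 1 := by rw [e', mul_one, mul_inv_cancel]
        exact X.t_ne_one (isConj_one_left.1 (h1 ▸ x.2.1))
      · refine X.one_class ?_ fun e => z.2 (Subtype.ext (conj_eq_one_iff.1 e))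
        rw [← pow_two, conj_pow, pow_two, z.1.2.2, mul_one, mul_inv_cancel]
      · rw [mul_smul, mul_smul, inv_smul_smul, (z.1.2.1 : (z.1 : G) • a = a)]
    rw [e, Nat.card_eq_fintype_card, Fintype.card_subtype_compl, Fintype.card_subtype_eq,
      Nat.card_eq_fintype_card]
    have := Fintype.card_pos (α := Z)
    omega
  have hk : Nat.card {x : G // IsConj X.D.t x} = 3 * p * (Nat.card Z - 1) := by
    have e : {x : G // IsConj X.D.t x} ≃ Σ y : Ω, {x : G // IsConj X.D.t x ∧ x • y = y} :=
      { toFun := fun x =>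
          let hne := (Nat.card_eq_one_iff_unique.1 (card_fix_one X hf (DegTwoP.sq_of_isConj X.D.t_sq x.2)
            (fun e => X.t_ne_one (isConj_one_left.1 (e ▸ x.2))))).2
          ⟨(Classical.choice hne).1, x.1, x.2, (Classical.choice hne).2⟩
        invFun := fun s => ⟨s.2.1, s.2.2.1⟩
        left_inv := fun x => rfl
        right_inv := by
          rintro ⟨y, x, hx, hxy⟩
          have hfx := card_fix_one X hf (DegTwoP.sq_of_isConj X.D.t_sq hx)
            (fun e => X.t_ne_one (isConj_one_left.1 (e ▸ hx)))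
          have hy := fixed_unique hfx (Classical.choice (Nat.card_eq_one_iff_unique.1 hfx).2).2 hxy
          subst hy
          rfl }
    rw [Nat.card_congr e, Nat.card_sigma, Finset.sum_congr rfl fun y _ =>
      show Nat.card {x : G // IsConj X.D.t x ∧ x • y = y} = Nat.card Z - 1 by have := hfib y; omega,
      Finset.sum_const, Finset.card_univ, X.card_Ω, smul_eq_mul]
  set i := Nat.card Z - 1 with hi
  obtain ⟨w, hw⟩ : ∃ w, X.C.e = w + 1 := ⟨X.C.e - 1, by have := X.C.two_le; omega⟩
  have hGk := X.card_eq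
  rw [hk] at hGk
  -- `3 i (3p - 1) = c (3p - 2)`
  have h3 : 3 * i * (w + 1) = X.c * w := by
    have hz : (((3 * i * (w + 1)) * (p * X.c * (w + 1)) : ℕ) : ℤ) =
        (((X.c * w) * (p * X.c * (w + 1)) : ℕ) : ℤ) := by
      rw [← hGk, hσ, hw] at hG
      push_cast at hG ⊢
      linear_combination hG
    have hz' : (3 * i * (w + 1)) * (p * X.c * (w + 1)) = (X.c * w) * (p * X.c * (w + 1)) := by
      exact_mod_cast hz
    exact Nat.eq_of_mul_eq_mul_right (by
      have := X.c_pos
      have := X.five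
      positivity) hz'
  have hw3 : w + 2 = 3 * p := by omega
  have hidvd : w ∣ i := by
    have hcop : Nat.Coprime w (3 * (w + 1)) := by
      refine Nat.Coprime.mul_right ((Nat.prime_three.coprime_iff_not_dvd.2 (by omega)).symm) ?_
      exact Nat.coprime_self_add_right.2 (Nat.coprime_one_right w)
    refine hcop.dvd_of_dvd_mul_right ?_
    rw [show i * (3 * (w + 1)) = 3 * i * (w + 1) by ring, h3]
    exact dvd_mul_left w X.c
  have hipos : 0 < i := by
    rcases Nat.eq_zero_or_pos i with h0 | h0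
    · rw [h0] at hGk
      have := Nat.card_pos (α := G)
      rw [Nat.mul_zero, Nat.zero_mul] at hGk
      omega
    · exact h0
  have hile : i ≤ w := by omega
  have hiw : i = w := le_antisymm hile (Nat.le_of_dvd hipos hidvd)
  have hc : X.c = 3 * (w + 1) := by
    rw [hiw] at h3
    refine Nat.eq_of_mul_eq_mul_right (show 0 < w by omega) ?_
    rw [← h3]; ring
  obtain ⟨k, hkS⟩ := X.exists_sylow_count
  rw [← hGk, hiw, hc] at hkS
  have h9 : 9 * (w * (w + 1)) = 2 * (p * k + 1) := by
    refine Nat.eq_of_mul_eq_mul_left (show 0 < p by have := X.five; omega) ?_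
    linear_combination hkS
  have h16 : (p : ℤ) ∣ 16 := by
    refine ⟨2 * k - 81 * p + 81, ?_⟩
    have e : (9 : ℤ) * (((w : ℤ)) * (w + 1)) = 2 * ((p : ℤ) * k + 1) := by exact_mod_cast h9
    have ew : (w : ℤ) = 3 * p - 2 := by omega
    rw [ew] at e
    linear_combination e
  have h16' : p ∣ 16 := by exact_mod_cast h16
  have := (Nat.prime_dvd_prime_iff_eq (Fact.out : p.Prime) Nat.prime_two).1
    ((Fact.out : p.Prime).dvd_of_dvd_pow (show p ∣ 2 ^ 4 from h16'))
  have := X.five
  omega

end Cfsg.Agent.DegThreeP
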