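/-
The cases `σ = 1` (impossible) and `e = p - 1` (the groups `PSL(2, 2^m)`).
-/
import Cfsg.Agent.Lib.DegThreeP.Two
import Cfsg.Agent.S4705
import Cfsg.Agent.S0494
import Cfsg.Agent.S0496
import Cfsg.Agent.Lib.PSL2.EvenSylow
import Cfsg.Agent.Lib.Bender.Final

set_option autoImplicit false

namespace Cfsg.Agent.DegThreeP

open Cfsg Cfsg.Agent.Char MulAction
open Cfsg.Agent.DegTwoP (Data card_X e_zero)

/-- `PSL(2, q)`, `q` even, has no maximal subgroup of index `3(q + 1)`. -/
theorem index_ne_of_isCoatom {F : Type*} [Field F] [Finite F] [CharP F 2] (h4 : 4 ≤ Nat.card F)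
    (K : Subgroup (PSL2.PSL2 F)) (hK : IsCoatom K) : K.index ≠ 3 * (Nat.card F + 1) := by
  intro hidx
  have := Fact.mk Nat.prime_two
  obtain ⟨n, hn, hq, ⟨-, he, -⟩ | ⟨h, -⟩⟩ := PSL2.q_cases (F := F) 2
  swap
  · exact absurd rfl h
  obtain ⟨S⟩ := (inferInstance : Nonempty (Sylow 2 K))
  obtain ⟨Q, hQ⟩ := (S.2.map K.subtype).exists_le_sylow
  have hodd : ¬ 2 ∣ K.index := by
    rw [hidx]; rw [Nat.even_iff] at he; omega
  have hQK : (Q : Subgroup (PSL2.PSL2 F)) ≤ K := by
    have hc : Nat.card (S : Subgroup K) = Nat.card (Q : Subgroup (PSL2.PSL2 F)) := by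
      rw [S.card_eq_multiplicity, Q.card_eq_multiplicity, ← K.card_mul_index,
        Nat.factorization_mul Nat.card_pos.ne' (by omega), Finsupp.add_apply,
        Nat.factorization_eq_zero_of_not_dvd hodd, add_zero]
    have e : (S : Subgroup K).map K.subtype = (Q : Subgroup (PSL2.PSL2 F)) :=
      Subgroup.eq_of_le_of_card_ge hQ (by
        rw [Subgroup.card_map_of_injective K.subtype_injective, hc])
    rw [← e]
    exact Subgroup.map_subtype_le _
  obtain ⟨-, hover⟩ := PSL2.even_sylow_overgroup h4 Q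
  obtain ⟨P, hP⟩ := PSL2.normalizer_sylow_le 2 Q
  have hst := PSL2.isCoatom_stabilizer_psl P
  have heq : K = stabilizer (PSL2.PSL2 F) P :=
    (hK.le_iff.1 ((hover K hK.1 hQK).trans hP)).resolve_left hst.1 |>.symm
  have h1 : K.index ≤ Nat.card F + 1 := by
    rw [heq, index_stabilizer, ← PSL2.card_pt]
    exact (Nat.card_coe_set_eq _).symm.le.trans (Nat.card_le_card_of_injective _ Subtype.val_injective)
  omega

/-- Transport of `index_ne_of_isCoatom`. -/
theorem not_preprimitive_of_equiv {G : Type*} [Group G] {Ω : Type*} [Fintype Ω] [MulAction G Ω]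
    [IsPretransitive G Ω] {F : Type*} [Field F] [Finite F] [CharP F 2] (h4 : 4 ≤ Nat.card F)
    (hΩ : Fintype.card Ω = 3 * (Nat.card F + 1)) (e : G ≃* PSL2.PSL2 F) : ¬ IsPreprimitive G Ω := by
  intro hprim
  have : Nontrivial Ω := Fintype.one_lt_card_iff_nontrivial.1 (by omega)
  obtain ⟨a⟩ : Nonempty Ω := inferInstance
  have hK := (isCoatom_stabilizer_iff_preprimitive (G := G) a).2 hprim
  refine index_ne_of_isCoatom h4 ((stabilizer G a).map e.toMonoidHom) ?_ ?_
  · exact (OrderIso.isCoatom_iff e.mapSubgroup _).2 hK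
  · rw [Subgroup.index_map_of_bijective e.bijective, index_stabilizer_of_transitive G a, Nat.card_eq_fintype_card, hΩ]

variable {p : ℕ} [Fact p.Prime] {G : Type*} [Group G] [Fintype G] {Ω : Type*} [Fintype Ω] [MulAction G Ω]
variable [IsSimpleGroup G] [IsPretransitive G Ω] [FaithfulSMul G Ω]

/-- The case `σ = 1` does not occur. -/
theorem sigma_one_false (X : Ctx p G Ω) (hσ : X.C.σ = 1) (hp : p = 5) (he : X.C.e = 6) {s : ℤ}
    (hs : s = 0)
    (h : (Nat.card G : ℤ) * ((X.C.e : ℤ) - s) ^ 2 = p * (X.c : ℤ) ^ 2 * X.C.e * (X.C.e + X.C.σ)) :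
    False := by
  subst hp hs
  rw [hσ, he] at h
  have h' : 6 * Nat.card G = 35 * X.c ^ 2 := by
    have : ((6 * Nat.card G : ℕ) : ℤ) = ((35 * X.c ^ 2 : ℕ) : ℤ) := by push_cast at h ⊢; linarith
    exact_mod_cast this
  have h4 : 2 ≤ (Nat.card G).factorization 2 :=
    (Nat.prime_two.pow_dvd_iff_le_factorization Nat.card_pos.ne').1 (by simpa using X.four_dvd)
  have hv := congrArg (fun n : ℕ => n.factorization 2) h'
  beta_reduce at hv
  rw [v2_mul (by norm_num) Nat.card_pos.ne', v2_mul (by norm_num) (pow_ne_zero _ X.c_pos.ne'),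
    v2_sq X.c_pos.ne', X.v2_c, show (6 : ℕ) = 2 * 3 from rfl, v2_mul (by norm_num) (by norm_num),
    v2_two, v2_odd (a := 3) rfl, v2_odd (a := 35) rfl] at hv
  omega

/-- `p = 5`, `e = 4`: the order is 60. -/
theorem card_eq_sixty (X : Ctx p G Ω) (hp : p = 5)
    (h : 4 * Nat.card G = 15 * X.c ^ 2) : Nat.card G = 60 := by
  subst hp
  have hv := congrArg (fun n : ℕ => n.factorization 2) h
  beta_reduce at hv
  rw [v2_mul (by norm_num) Nat.card_pos.ne', v2_mul (by norm_num) (pow_ne_zero _ X.c_pos.ne'),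
    v2_sq X.c_pos.ne', X.v2_c, v2_four, v2_odd (a := 15) rfl] at hv
  have hc4 : 2 ^ 2 ∣ X.c := (Nat.prime_two.pow_dvd_iff_le_factorization X.c_pos.ne').2 (by
    rw [X.v2_c]; omega)
  have hc8 : ¬ 2 ^ 3 ∣ X.c := fun h8 => by
    have := (Nat.prime_two.pow_dvd_iff_le_factorization X.c_pos.ne').1 h8
    rw [X.v2_c] at this
    omega
  obtain ⟨d, hd⟩ := hc4
  have hG : Nat.card G = 60 * d ^ 2 := by rw [hd] at h; nlinarith
  have hd2 : ¬ 2 ∣ d := fun ⟨k, hk⟩ => hc8 ⟨k, by rw [hd, hk]; ring⟩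
  obtain ⟨k, hk⟩ := X.exists_sylow_count
  rw [hG] at hk
  have h5 : ¬ 5 ∣ d := fun ⟨j, hj⟩ => X.not_dvd_c ⟨4 * j, by rw [hd, hj]; ring⟩
  have hf : X.f = 3 := by
    rcases X.fix_cases with ⟨-, h'⟩ | ⟨h', -⟩
    · norm_num at h'
    · exact h'
  have h7 : ¬ 7 ∣ d := by
    intro h7
    have := Fact.mk (show Nat.Prime 7 by norm_num)
    obtain ⟨y, hy⟩ := exists_prime_orderOf_dvd_card' (G := Subgroup.centralizer ({X.D.t} : Set G)) 7
      (show 7 ∣ X.c by rw [hd]; exact h7.mul_left _)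
    have h1 := eq_one_of_commute (Ω := Ω) X.D.t_sq (Subgroup.mem_centralizer_singleton_iff.1 y.2)
      (r := 7) (by norm_num) (by norm_num)
      (by rw [← hy, ← Subgroup.coe_pow, pow_orderOf_eq_one]; rfl)
      (show X.f < 7 by omega)
      (by rw [Nat.card_eq_fintype_card, X.card_Ω, show Nat.card (fixedBy Ω X.D.t) = X.f from rfl]; omega)
    rw [← Subgroup.orderOf_coe, h1, orderOf_one] at hy
    norm_num at hy
  have hdvd : d ^ 2 ∣ 34749 := by
    have h1 : Nat.card G ∣ Nat.factorial 15 := by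
      have := card_dvd_factorial (G := G) (Ω := Ω)
      rwa [X.card_Ω] at this
    rw [hG, show Nat.factorial 15 = 60 * (627200 * 34749) by norm_num [Nat.factorial]] at h1
    refine (Nat.Coprime.dvd_of_dvd_mul_left ?_ (Nat.dvd_of_mul_dvd_mul_left (by norm_num) h1))
    rw [show 627200 = 2 ^ 9 * 5 ^ 2 * 7 ^ 2 from rfl]
    refine Nat.Coprime.pow_left 2 (Nat.Coprime.mul_right (Nat.Coprime.mul_right
      (Nat.Coprime.pow_right _ ?_) (Nat.Coprime.pow_right _ ?_)) (Nat.Coprime.pow_right _ ?_))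
    · exact (Nat.prime_two.coprime_iff_not_dvd.2 hd2).symm
    · exact ((by norm_num : Nat.Prime 5).coprime_iff_not_dvd.2 h5).symm
    · exact ((by norm_num : Nat.Prime 7).coprime_iff_not_dvd.2 h7).symm
  have hd186 : d < 187 := by
    by_contra hlt
    have := Nat.le_of_dvd (by norm_num) hdvd
    nlinarith
  have hd19 : d = 1 ∨ d = 3 ∨ d = 9 := by
    have key : ∀ x < 187, x ^ 2 ∣ 34749 → x = 1 ∨ x = 3 ∨ x = 9 := by decide +kernel
    exact key d hd186 hdvd
  rcases hd19 with rfl | rfl | rfl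
  · rw [hG]; norm_num
  · exfalso; omega
  · exfalso
    have := Fact.mk Nat.prime_three
    have hdiv := SmallOrders.two_mul_card_dvd_factorial_sylow X.not_comm (p := 3) (by rw [hG]; norm_num)
    have hn := card_sylow_modEq_one 3 G
    obtain ⟨S⟩ := (inferInstance : Nonempty (Sylow 3 G))
    have hd20 := S.card_dvd_index
    rw [SmallOrders.index_sylow (e := 5) (m := 20) (by rw [hG]; norm_num) (by norm_num) S] at hd20
    have hle := Nat.le_of_dvd (by norm_num) hd20
    have hcases : Nat.card (Sylow 3 G) = 1 ∨ Nat.card (Sylow 3 G) = 4 ∨ Nat.card (Sylow 3 G) = 10 := by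
      have key : ∀ n ≤ 20, n ∣ 20 → n % 3 = 1 → n = 1 ∨ n = 4 ∨ n = 10 := by decide
      exact key _ hle hd20 hn
    rw [hG] at hdiv
    rcases hcases with e | e | e <;> rw [e] at hdiv <;> norm_num at hdiv

/-- The case `e = p - 1`. -/
theorem e_eq_pred (X : Ctx p G Ω) (hσ : X.C.σ = -1) (he : X.C.e + 1 = p) {s : ℤ} (hs : s = 0)
    (h : (Nat.card G : ℤ) * ((X.C.e : ℤ) - s) ^ 2 = p * (X.c : ℤ) ^ 2 * X.C.e * (X.C.e + X.C.σ)) :
    ¬ IsPreprimitive G Ω ∧ ∃ (F : Type) (_ : Field F) (_ : Fintype F) (m : ℕ), Fintype.card F = 2 ^ m ∧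
      p = 2 ^ m + 1 ∧ Nonempty (G ≃* Matrix.ProjectiveSpecialLinearGroup (Fin 2) F) := by
  classical
  suffices hmain : ∃ (F : Type) (_ : Field F) (_ : Fintype F) (m : ℕ), Fintype.card F = 2 ^ m ∧
      p = 2 ^ m + 1 ∧ CharP F 2 ∧ 4 ≤ Fintype.card F ∧
      Nonempty (G ≃* Matrix.ProjectiveSpecialLinearGroup (Fin 2) F) by
    obtain ⟨F, _, _, m, hm, hpm, hch, h4, ⟨e⟩⟩ := hmain
    refine ⟨?_, F, _, _, m, hm, hpm, ⟨e⟩⟩
    refine not_preprimitive_of_equiv (F := F) (by rw [Nat.card_eq_fintype_card]; exact h4) ?_ e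
    rw [X.card_Ω, Nat.card_eq_fintype_card, hm, hpm]
  by_cases hp : p = 5
  · have he4 : X.C.e = 4 := by omega
    have hG := card_eq_sixty X hp (by
      rw [hσ, hs, he4] at h
      subst hp
      have : ((4 * Nat.card G : ℕ) : ℤ) = ((15 * X.c ^ 2 : ℕ) : ℤ) := by push_cast at h ⊢; linarith
      exact_mod_cast this)
    have := Fact.mk Nat.prime_two
    have : Fintype (GaloisField 2 2) := Fintype.ofFinite _
    have hc : Fintype.card (GaloisField 2 2) = 4 := by
      rw [← Nat.card_eq_fintype_card, GaloisField.card 2 2 (by norm_num)]; norm_num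
    refine ⟨GaloisField 2 2, inferInstance, inferInstance, 2, by rw [hc]; norm_num, by rw [hp]; norm_num,
      inferInstance, hc.ge, ?_⟩
    have hpsl : Nat.card (Matrix.ProjectiveSpecialLinearGroup (Fin 2) (GaloisField 2 2)) = 60 := by
      obtain ⟨n, -, hq, ⟨-, -, hd, -⟩ | ⟨h', -⟩⟩ := PSL2.q_cases (F := GaloisField 2 2) 2
      · have := PSL2.card_psl_mul (F := GaloisField 2 2)
        rw [hd, Nat.card_eq_fintype_card (α := GaloisField 2 2), hc] at this
        simpa using this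
      · exact absurd rfl h'
    have : IsSimpleGroup (Matrix.ProjectiveSpecialLinearGroup (Fin 2) (GaloisField 2 2)) :=
      Matrix.ProjectiveSpecialLinearGroup.rank_two_simple (by rw [Nat.card_eq_fintype_card (α := GaloisField 2 2), hc])
    obtain ⟨e1⟩ := S0494.result hG
    obtain ⟨e2⟩ := S0494.result hpsl
    exact ⟨e1.trans e2.symm⟩
  · obtain ⟨χ, hχ⟩ : X.C.F.Nonempty := Finset.card_pos.1 (by have := X.C.card_F; have := X.five; omega)
    have hp5 : 5 < p := by have := X.five; omega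
    have hd : (χ : G → ℂ) 1 = ((p - 2 : ℕ) : ℂ) := by
      rw [X.C.deg_F χ hχ, hσ, show X.C.e = p - 1 by omega, Nat.cast_sub (by omega), Nat.cast_sub (by omega)]
      push_cast; ring
    have hfaith : ∀ g : G, (χ : G → ℂ) g = (χ : G → ℂ) 1 → g = 1 := by
      intro g hg
      obtain ⟨n, ρ, hi, hρ⟩ := χ.2
      have hdim : (χ : G → ℂ) 1 = (Module.finrank ℂ (Fin n → ℂ) : ℂ) := by
        rw [← hρ, Representation.char_one]
      have hgk : g ∈ MonoidHom.ker ρ :=
        MonoidHom.mem_ker.2 ((character_eq_finrank_iff ρ g).1 (by rw [hρ, hg, hdim]))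
      rcases (MonoidHom.normal_ker ρ).eq_bot_or_eq_top with hk | hk
      · rwa [hk, Subgroup.mem_bot] at hgk
      · exfalso
        have hall : (χ : G → ℂ) = fun _ => (χ : G → ℂ) 1 := funext fun x => by
          rw [hdim, ← hρ]
          exact (character_eq_finrank_iff ρ x).2 (MonoidHom.mem_ker.1 (hk ▸ Subgroup.mem_top x))
        have h0 := classInner_irr χ.2 (isIrrCharacter_one (G := G))
        rw [if_neg (X.C.F_ne χ hχ), hall] at h0
        simp only [classInner, Pi.one_apply, map_one, mul_one, Finset.sum_const, Finset.card_univ,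
          nsmul_eq_mul, ← Nat.card_eq_fintype_card] at h0
        rw [← mul_assoc, inv_mul_cancel₀ (Nat.cast_ne_zero.2 Nat.card_pos.ne'), one_mul] at h0
        exact IsIrrCharacter.apply_one_ne_zero χ.2 h0
    have hnn : ¬ (X.P : Subgroup G).Normal := fun hn => by
      rcases hn.eq_bot_or_eq_top with hk | hk
      · have := X.card_P; rw [hk, Subgroup.card_bot] at this; omega
      · exact SmallOrders.not_isPGroup X.not_comm p (IsPGroup.of_equiv X.P.2
          ((MulEquiv.subgroupCongr hk).trans Subgroup.topEquiv))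
    have hdeg : Cfsg.charDegree (χ : G → ℂ) = p - 2 := by
      simp [Cfsg.charDegree, hd]
    obtain ⟨a, F, _, _, hpa, hF, ⟨e⟩⟩ := S4705.result p hp5 X.P X.card_P hnn (χ : G → ℂ) χ.2 hfaith hdeg
    have ha : a ≠ 0 := fun h0 => by rw [h0] at hpa; omega
    have hch : CharP F 2 := by
      obtain ⟨r, hr⟩ := CharP.exists F
      have : Fact r.Prime := ⟨(CharP.char_is_prime F r)⟩
      obtain ⟨n, hn, hcard⟩ := FiniteField.card F r
      have : r = 2 := by
        have h2 : r ∣ 2 ^ a := hF ▸ hcard ▸ dvd_pow_self r n.pos.ne'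
        exact (Nat.prime_dvd_prime_iff_eq hn Nat.prime_two).1 (hn.dvd_of_dvd_pow h2)
      subst this; exact hr
    refine ⟨F, inferInstance, inferInstance, a, hF, hpa, hch, ?_, ?_⟩
    · rw [hF]
      calc 4 = 2 ^ 2 := by norm_num
        _ ≤ 2 ^ a := Nat.pow_le_pow_right two_pos (by
          by_contra hlt; rw [show a = 1 by omega] at hpa; omega)
    · have hz : Subsingleton (Subgroup.center G) := by
        rw [SmallOrders.center_eq_bot X.not_comm]; infer_instance
      obtain ⟨e2⟩ := Bender.psl_equiv_sl (F := F)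
      let e3 : Matrix.SpecialLinearGroup (Fin 2) F × Subgroup.center G ≃* Matrix.SpecialLinearGroup (Fin 2) F :=
        { toFun := fun x => x.1
          invFun := fun x => (x, 1)
          left_inv := fun x => Prod.ext rfl (Subsingleton.elim _ _)
          right_inv := fun x => rfl
          map_mul' := fun x y => rfl }
      exact ⟨(e.trans e3).trans e2.symm⟩

end Cfsg.Agent.DegThreeP
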